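import Groth.Agent.RedRk29.Vanish
import Groth.Agent.AGFRoot.TorusSplit
import Groth.Agent.GrpSchLib.AffineHopf
import Groth.Agent.BigCell29.CellMap

/-!
# Reductive groups have no irreducible normal subgroup of points acting unipotently
-/

set_option autoImplicit false

universe u

open CategoryTheory CategoryTheory.Limits MonoidalCategory CartesianMonoidalCategory MonObj GrpObj AlgebraicGeometry
open TensorProduct WithConv

namespace Groth.Agent.RedRk29

open BigCell29
open GrpSchLib.AffineHopf

variable {K : Type u} [Field K] {A : Type u} [CommRing A] [HopfAlgebra K A]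

/-- Morphisms of spectra are points. -/
theorem exists_eq_spMap'' {B C : Type u} [CommRing B] [Algebra K B] [CommRing C] [Algebra K C]
    (g : sp K B ⟶ sp K C) : ∃ φ : C →ₐ[K] B, g = spMap φ := exists_eq_spMap' g

variable [IsAlgClosed K]

theorem hasNoSubtorus_of_unipotent {B : Type u} [CommRing B] [HopfAlgebra K B] (q : A →ₐc[K] B)
    (hq : Function.Surjective q) {V : Type u} [AddCommGroup V] [Module K V]
    {ρ : Pt K A K →* Module.End K V} (hρ : IsRegRep ρ) (hgen : Generates ρ)
    (hnil : ∀ g : B →ₐ[K] K, IsNilpotent (ρ (toConv (g.comp (q : A →ₐ[K] B))) - 1)) :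
    Red.HasNoSubtorus K (sp K B) := by
  intro T _ j _ _ hT
  obtain ⟨r, ⟨eT⟩⟩ := AGFRoot.exists_isSplitTorusWith hT
  obtain ⟨d⟩ := nonempty_DS_iso K (Fin r → ℤ)
  let e := d ≪≫ eT.symm
  haveI : IsMonHom e.hom.hom.hom := e.hom.hom.isMonHom_hom
  haveI : IsIso e.hom.hom.hom := ⟨e.inv.hom.hom, congrArg (fun k => k.hom.hom) e.hom_inv_id,
    congrArg (fun k => k.hom.hom) e.inv_hom_id⟩
  obtain ⟨φ, hφ⟩ := exists_bialgHom (e.hom.hom.hom ≫ j)
  let f : A →ₐc[K] MonoidAlgebra K (Multiplicative (Fin r → ℤ)) := φ.comp q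
  let ψ : (Multiplicative (Fin r → ℤ) →* K) →* Pt K A K :=
    { toFun := fun χ => toConv ((MonoidAlgebra.lift K K (Multiplicative (Fin r → ℤ)) χ).comp (f : A →ₐ[K] _))
      map_one' := by
        refine pt_ext fun a => ?_
        show MonoidAlgebra.lift K K (Multiplicative (Fin r → ℤ)) 1 (f a) = algebraMap K K (Coalgebra.counit (R := K) a)
        rw [← CoalgHomClass.counit_comp_apply f a]
        induction f a using MonoidAlgebra.induction_linear with
        | zero => simp
        | add x y hx hy => simp only [map_add, hx, hy]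
        | single m c => simp [MonoidAlgebra.lift_single]
      map_mul' := fun χ χ' => by
        have h : toConv (MonoidAlgebra.lift K K (Multiplicative (Fin r → ℤ)) (χ * χ')) =
            toConv (MonoidAlgebra.lift K K (Multiplicative (Fin r → ℤ)) χ) *
              toConv (MonoidAlgebra.lift K K (Multiplicative (Fin r → ℤ)) χ') := by
          refine pt_ext fun x => ?_
          rw [AlgHom.convMul_apply]
          induction x using MonoidAlgebra.induction_linear with
          | zero => simp
          | add x y hx hy =>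
            simp only [map_add] at hx hy ⊢
            rw [← hx, ← hy]
          | single m c => simp [MonoidAlgebra.lift_single, _root_.mul_assoc, mul_comm, mul_left_comm]
        show toConv ((MonoidAlgebra.lift K K (Multiplicative (Fin r → ℤ)) (χ * χ')).comp (f : A →ₐ[K] _)) = _
        rw [show MonoidAlgebra.lift K K (Multiplicative (Fin r → ℤ)) (χ * χ') = _ from congrArg WithConv.ofConv h,
          AlgHom.convMul_comp_bialgHom_distrib] }
  have htriv : ∀ χ, ρ (ψ χ) = 1 := fun χ => torus_eq_one (Λ := Fin r → ℤ) (ρ.comp ψ) (fun v => by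
      classical
      obtain ⟨z, hz⟩ := hρ v
      suffices ∀ z : A ⊗[K] V, ∃ g : (Fin r → ℤ) →₀ V, ∀ χ, ev (ψ χ) z =
          g.sum fun m x => χ (Multiplicative.ofAdd m) • x by
        obtain ⟨g, hg⟩ := this z
        exact ⟨g, fun χ => by rw [MonoidHom.comp_apply, hz, hg]⟩
      intro z
      induction z using TensorProduct.induction_on with
      | zero => exact ⟨0, fun χ => by simp⟩
      | tmul a x =>
        have key : ∀ p : MonoidAlgebra K (Multiplicative (Fin r → ℤ)), ∃ g : (Fin r → ℤ) →₀ V, ∀ χ,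
            MonoidAlgebra.lift K K (Multiplicative (Fin r → ℤ)) χ p • x = g.sum fun m x => χ (Multiplicative.ofAdd m) • x := by
          intro p
          induction p using MonoidAlgebra.induction_linear with
          | zero => exact ⟨0, fun χ => by simp⟩
          | add p p' hp hp' =>
            obtain ⟨g, hg⟩ := hp
            obtain ⟨g', hg'⟩ := hp'
            exact ⟨g + g', fun χ => by
              rw [map_add, add_smul, hg, hg', Finsupp.sum_add_index' (fun _ => smul_zero _) fun _ _ _ => smul_add _ _ _]⟩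
          | single m c =>
            exact ⟨Finsupp.single m.toAdd (c • x), fun χ => by
              rw [Finsupp.sum_single_index (h := fun m x => χ (Multiplicative.ofAdd m) • x) (smul_zero _),
                MonoidAlgebra.lift_single, smul_eq_mul, smul_smul, mul_comm]
              rfl⟩
        obtain ⟨g, hg⟩ := key (f a)
        exact ⟨g, fun χ => by rw [ev_tmul]; exact hg χ⟩
      | add p q hp hq =>
        obtain ⟨g, hg⟩ := hp
        obtain ⟨g', hg'⟩ := hq
        exact ⟨g + g', fun χ => by
          rw [map_add, hg, hg', Finsupp.sum_add_index' (fun _ => smul_zero _) fun _ _ _ => smul_add _ _ _]⟩)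
    (fun χ => by
      have h := hnil ((MonoidAlgebra.lift K K (Multiplicative (Fin r → ℤ)) χ).comp
        (φ : B →ₐ[K] MonoidAlgebra K (Multiplicative (Fin r → ℤ))))
      exact h) χ
  have hone : ∀ χ, ψ χ = 1 := fun χ => Generates.injective hgen (by rw [htriv, map_one])
  have hf : ∀ a, f a = algebraMap K _ (Coalgebra.counit (R := K) a) := by
    intro a
    let P := f a - algebraMap K (MonoidAlgebra K (Multiplicative (Fin r → ℤ))) (Coalgebra.counit (R := K) a)
    have hP : ∀ χ, MonoidAlgebra.lift K K (Multiplicative (Fin r → ℤ)) χ P = 0 := fun χ => by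
      have := DFunLike.congr_fun (congrArg WithConv.ofConv (hone χ)) a
      simp only [P, map_sub, AlgHom.commutes]
      exact sub_eq_zero.mpr (this.trans (by simp))
    refine sub_eq_zero.mp (show P = 0 from ?_)
    refine MonoidAlgebra.coeff_injective (Finsupp.ext fun m => ?_)
    have := eq_zero_of_sum_char_mul_eq_zero (k := K)
      (f := Finsupp.mapDomain Multiplicative.toAdd P.coeff) fun χ => by
        rw [Finsupp.sum_mapDomain_index (fun _ => zero_mul _) fun _ _ _ => add_mul _ _ _]
        have h := hP χ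
        rw [MonoidAlgebra.lift_apply] at h
        simpa using h
    have h2 := congrArg (fun f : (Fin r → ℤ) →₀ K => f m.toAdd) this
    simp only [Finsupp.mapDomain_apply Multiplicative.toAdd.injective, Finsupp.zero_apply] at h2
    simpa using h2
  have hj : e.hom.hom.hom ≫ j = 1 := by
    rw [hφ]
    have : (φ : B →ₐ[K] MonoidAlgebra K (Multiplicative (Fin r → ℤ))) =
        (1 : Pt K B (MonoidAlgebra K (Multiplicative (Fin r → ℤ)))).ofConv := by
      refine AlgHom.ext fun b => ?_
      obtain ⟨a, rfl⟩ := hq b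
      show f a = algebraMap K _ (Coalgebra.counit (R := K) (q a))
      rw [CoalgHomClass.counit_comp_apply, hf]
    rw [this, spMap_eq_mapMulEquiv, toConv_ofConv, map_one]
  have h2 : j = 1 := (cancel_epi e.hom.hom.hom).mp (hj.trans (MonObj.comp_one _).symm)
  have h4 : toUnit T ≫ (η : 𝟙_ _ ⟶ T) = 𝟙 T := (cancel_mono j).mp (by
    rw [h2, MonObj.comp_one, MonObj.comp_one])
  haveI : IsIso (toUnit T) := ⟨η, h4, toUnit_unique _ _⟩
  show IsIso T.hom
  exact inferInstanceAs (IsIso ((Over.forget _).map (toUnit T)))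

theorem connectedSpace_sp (B : Type u) [CommRing B] [Algebra K B] [IsDomain B] : ConnectedSpace (sp K B).left :=
  inferInstanceAs (ConnectedSpace (PrimeSpectrum B))

variable [Algebra.FiniteType K A] [IsDomain A]

/-- A reductive group has no nontrivial irreducible normal subgroup of points acting unipotently. -/
theorem noUnipotentNormal {X : Over (Spec (CommRingCat.of K))} [GrpObj X] (e : Grp.mk (sp K A) ≅ Grp.mk X)
    (hX : Red.IsReductiveOver K X) : NoUnipotentNormal K A := by
  intro V _ _ _ ρ hρ hgen H hN hprime hnil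
  haveI := isHopfIdeal_vanIdeal H
  haveI : (vanIdeal H).IsPrime := by
    refine ⟨fun h => ?_, fun {a b} hab => ?_⟩
    · have h1 := (mem_vanIdeal H).mp (h ▸ Submodule.mem_top : (1 : A) ∈ vanIdeal H) 1 (one_mem H)
      simp at h1
    · simpa only [mem_vanIdeal] using hprime a b ((mem_vanIdeal H).mp hab)
  haveI : Algebra.FiniteType K (A ⧸ vanIdeal H) :=
    .of_surjective (Ideal.Quotient.mkₐ K (vanIdeal H)) Ideal.Quotient.mk_surjective
  haveI := smooth_of_isReduced (k := K) (B := A ⧸ vanIdeal H)
  let q := Bialgebra.Quotient.mkBialgHom (R := K) (vanIdeal H)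
  have hq : Function.Surjective q := Ideal.Quotient.mk_surjective
  haveI : IsMonHom e.hom.hom.hom := e.hom.hom.isMonHom_hom
  haveI : IsIso e.hom.hom.hom := ⟨e.inv.hom.hom, congrArg (fun k => k.hom.hom) e.hom_inv_id,
    congrArg (fun k => k.hom.hom) e.inv_hom_id⟩
  let i : sp K (A ⧸ vanIdeal H) ⟶ X := spMap (q : A →ₐ[K] A ⧸ vanIdeal H) ≫ e.hom.hom.hom
  haveI : IsMonHom i := inferInstance
  have hclosed : IsClosedImmersion i.left := by
    haveI : IsIso e.hom.hom.hom.left := inferInstanceAs (IsIso ((Over.forget _).map e.hom.hom.hom))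
    haveI : IsClosedImmersion (spMap (q : A →ₐ[K] A ⧸ vanIdeal H)).left :=
      IsClosedImmersion.spec_of_surjective _ hq
    rw [show i.left = (spMap (q : A →ₐ[K] A ⧸ vanIdeal H)).left ≫ e.hom.hom.hom.left from rfl]
    infer_instance
  have hsmooth : Smooth (sp K (A ⧸ vanIdeal H)).hom :=
    (HasRingHomProperty.Spec_iff (P := @Smooth)).mpr (RingHom.smooth_algebraMap.mpr inferInstance)
  have hnormal : AlgGrp.IsNormalHom i := by
    haveI : IsAffine X.left := hX.1
    haveI : IsAffineHom X.hom := inferInstance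
    haveI : IsAffine (sp K (A ⧸ vanIdeal H)).left := inferInstanceAs (IsAffine (Spec _))
    haveI : IsAffineHom (sp K (A ⧸ vanIdeal H)).hom :=
      isAffineHom_of_isAffine (sp K (A ⧸ vanIdeal H)).hom
    haveI : IsAffineHom (X ⊗ sp K (A ⧸ vanIdeal H)).hom := isAffineHom_tensor X (sp K (A ⧸ vanIdeal H))
    haveI : IsAffine (X ⊗ sp K (A ⧸ vanIdeal H)).left :=
      isAffine_of_isAffineHom (X ⊗ sp K (A ⧸ vanIdeal H)).hom
    obtain ⟨C, _, _, ⟨c⟩⟩ := exists_sp_iso (X ⊗ sp K (A ⧸ vanIdeal H))
    obtain ⟨g₀, hg₀⟩ := exists_eq_spMap'' (c.hom ≫ fst _ _ ≫ e.inv.hom.hom)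
    obtain ⟨n₀, hn₀⟩ := exists_eq_spMap'' (c.hom ≫ snd _ _)
    let P : Pt K A C := toConv g₀ * toConv (n₀.comp (q : A →ₐ[K] A ⧸ vanIdeal H)) * (toConv g₀)⁻¹
    have hP : ∀ a ∈ vanIdeal H, P.ofConv a = 0 := by
      intro a ha
      have h1 := DFunLike.congr_fun (congrArg WithConv.ofConv
        (mapPt_conjPair (Ideal.Quotient.mkₐ K (vanIdeal H)) g₀ n₀)) a
      refine h1.symm.trans ?_
      show Algebra.TensorProduct.lift g₀ n₀ (fun _ _ => Commute.all _ _) ((conjPair _).ofConv a) = 0
      rw [conjPair_vanIdeal H ha, map_zero]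
    let n' : sp K C ⟶ sp K (A ⧸ vanIdeal H) := spMap (Ideal.Quotient.liftₐ (vanIdeal H) P.ofConv hP)
    have huniv : ∀ (g : sp K C ⟶ X) (n : sp K C ⟶ sp K (A ⧸ vanIdeal H)),
        g = spMap g₀ ≫ e.hom.hom.hom → n = spMap n₀ → g * (n ≫ i) * g⁻¹ = n' ≫ i := by
      rintro _ _ rfl rfl
      show _ * (spMap n₀ ≫ spMap (q : A →ₐ[K] A ⧸ vanIdeal H) ≫ e.hom.hom.hom) * _ =
        spMap (Ideal.Quotient.liftₐ (vanIdeal H) P.ofConv hP) ≫ spMap (q : A →ₐ[K] A ⧸ vanIdeal H) ≫ e.hom.hom.hom
      simp only [← Category.assoc, spMap_comp]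
      rw [
        ← GrpObj.inv_comp, ← MonObj.mul_comp, ← MonObj.mul_comp]
      congr 1
      rw [spMap_eq_mapMulEquiv, spMap_eq_mapMulEquiv, spMap_eq_mapMulEquiv]
      rw [← map_inv Spec.mapMulEquiv, ← map_mul, ← map_mul]
      congr 1
    intro T g n
    refine ⟨CartesianMonoidalCategory.lift g n ≫ c.inv ≫ n', ?_⟩
    have h1 := congrArg (fun k => (CartesianMonoidalCategory.lift g n ≫ c.inv) ≫ k)
      (huniv (c.hom ≫ fst _ _) (c.hom ≫ snd _ _)
        (by rw [← hg₀]; simp only [Category.assoc]; rw [show e.inv.hom.hom ≫ e.hom.hom.hom = 𝟙 _ from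
          congrArg (fun k => k.hom.hom) e.inv_hom_id, Category.comp_id]) hn₀)
    simp only [MonObj.comp_mul, GrpObj.comp_inv, Category.assoc, Iso.inv_hom_id_assoc, lift_fst, lift_snd,
      lift_fst_assoc, lift_snd_assoc] at h1
    simpa only [Category.assoc] using h1
  have hU := hX.2.2.2 (sp K (A ⧸ vanIdeal H)) i hclosed hsmooth (connectedSpace_sp _) hnormal
    (hasNoSubtorus_of_unipotent q hq hρ hgen fun g => isNilpotent_of_vanIdeal H hρ hnil fun a ha => by
      show g (Ideal.Quotient.mk (vanIdeal H) a) = 0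
      rw [Ideal.Quotient.eq_zero_iff_mem.mpr ha, map_zero])
  have hbij : Function.Bijective (algebraMap K (A ⧸ vanIdeal H)) := by
    haveI : IsIso (Spec.map (CommRingCat.ofHom (algebraMap K (A ⧸ vanIdeal H)))) := hU
    haveI : IsIso (Scheme.Spec.map (CommRingCat.ofHom (algebraMap K (A ⧸ vanIdeal H))).op) := this
    haveI := isIso_of_reflects_iso (CommRingCat.ofHom (algebraMap K (A ⧸ vanIdeal H))).op Scheme.Spec
    haveI := isIso_of_op (CommRingCat.ofHom (algebraMap K (A ⧸ vanIdeal H)))
    exact ConcreteCategory.bijective_of_isIso (CommRingCat.ofHom (algebraMap K (A ⧸ vanIdeal H)))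
  rw [Subgroup.eq_bot_iff_forall]
  intro g hg
  refine pt_ext fun a => ?_
  obtain ⟨x, hx⟩ := hbij.2 (Ideal.Quotient.mkₐ K (vanIdeal H) a)
  have h1 : g.ofConv a = x := by rw [← qPt_mk H ⟨g, hg⟩ a, ← hx, AlgHom.commutes]; simp
  have h2 : (1 : Pt K A K).ofConv a = x := by rw [← qPt_mk H ⟨1, one_mem H⟩ a, ← hx, AlgHom.commutes]; simp
  exact h1.trans h2.symm

end Groth.Agent.RedRk29
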