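import Groth.Agent.RedRk29.Reduced
import Groth.Agent.RedRk29.Translate
import Groth.Agent.BigCell29.Bridge
import Groth.Agent.Obs28.Unip.Main
import Mathlib.LinearAlgebra.RootSystem.Reduced

/-!
# The root datum of a split reductive group is reduced
-/

set_option autoImplicit false

universe u

open CategoryTheory CategoryTheory.Limits MonoidalCategory CartesianMonoidalCategory MonObj GrpObj AlgebraicGeometry
open TensorProduct WithConv
open scoped AddMonoidAlgebra

namespace Groth.Agent.RedRk29

open BigCell29

variable {S : Scheme.{u}} {R : Type u} [CommRing R] {f : Spec (CommRingCat.of R) ⟶ S}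
  {B : Type u} [CommRing B] [Algebra R B]

theorem chPt_DSmap {M N : Type} [AddCommGroup M] [AddCommGroup N] (φ : N →+ M) (χ : Multiplicative M →* B) :
    chPt f χ ≫ Red.DSmap S φ = chPt f (χ.comp φ.toMultiplicative) := by
  refine Over.OverMorphism.ext (pullback.hom_ext ?_ ?_)
  · rw [Over.comp_left, Category.assoc, Red.DSmap, GmPts.pullback_map_left_fst, chPt, ← Category.assoc,
      DSPtsLib.pt_fst, chPt, DSPtsLib.pt_fst]
    show Spec.map _ ≫ Spec.map _ = Spec.map _
    rw [← Spec.map_comp, ← CommRingCat.ofHom_comp]
    congr 2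
    refine coordM_hom_ext fun m => ?_
    simp
  · exact (Over.w (chPt f χ ≫ Red.DSmap S φ)).trans (Over.w (chPt f (χ.comp φ.toMultiplicative))).symm

variable {G : Over S} [GrpObj G] (D : Red.SplitRed G)

theorem refl_torG (a : D.idx) : ∃ n : tObj f B ⟶ G, ∀ χ : Multiplicative D.M →* B,
    n * torG (f := f) D χ * n⁻¹ =
      torG D (χ.comp (D.P.reflection a).toLinearMap.toAddMonoidHom.toMultiplicative) := by
  obtain ⟨n, hn⟩ := D.refl a
  refine ⟨toUnit _ ≫ n, fun χ => ?_⟩
  have h := hn (tObj f B) (chPt f χ ≫ D.split.inv.hom.hom)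
  have e : (chPt f χ ≫ D.split.inv.hom.hom) ≫ D.split.hom.hom.hom ≫
      Red.DSmap S (D.P.reflection a).toLinearMap.toAddMonoidHom ≫ D.split.inv.hom.hom ≫ D.i =
      torG D (χ.comp (D.P.reflection a).toLinearMap.toAddMonoidHom.toMultiplicative) := by
    rw [Category.assoc, ← Category.assoc D.split.inv.hom.hom,
      show D.split.inv.hom.hom ≫ D.split.hom.hom.hom = 𝟙 _ from congrArg (fun k => k.hom.hom) D.split.inv_hom_id,
      Category.id_comp, ← Category.assoc (chPt f χ), chPt_DSmap]
    rfl
  rw [← e, ← h, torG, Category.assoc]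

theorem root_zsmul_cancel {x : ℤ} (hx : x ≠ 0) {m m' : D.M} (h : x • m = x • m') : m = m' :=
  smul_right_injective D.M hx h

/-- No root is the double of another. -/
theorem not_double [Nonempty S] (a c : D.idx) : D.P.root c ≠ (2 : ℤ) • D.P.root a := by
  intro hc
  obtain ⟨s⟩ := ‹Nonempty S›
  obtain ⟨haff, hsm, hfib⟩ := D.reductive
  obtain ⟨hX1, hX2, hX3, hX4⟩ := hfib s
  let K := AlgebraicClosure (S.residueField s)
  let f := Red.geomPt s
  haveI := haff
  obtain ⟨A, _, _, ⟨Md⟩⟩ := exists_model (R := K) f G
  haveI : Algebra.Smooth K A := Md.smooth hsm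
  haveI : IsDomain A := by
    haveI := hX1
    haveI := hX2
    haveI := hX3
    haveI := Obs28.Unip.isIntegral_grp (G := Red.geomFibre s G)
    have hIso : IsIso Md.hom.left := inferInstance
    have : IsIntegral (Spec (CommRingCat.of A)) := by
      haveI : IsIso (Md.hom.left : Spec (CommRingCat.of A) ⟶ (Red.geomFibre s G).left) := inferInstanceAs (IsIso Md.hom.left)
      haveI : Nonempty (Spec (CommRingCat.of A)) :=
        ⟨(inv (Md.hom.left : Spec (CommRingCat.of A) ⟶ (Red.geomFibre s G).left)).base
          (Classical.choice inferInstance)⟩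
      haveI : IsOpenImmersion (Md.hom.left : Spec (CommRingCat.of A) ⟶ (Red.geomFibre s G).left) :=
        IsOpenImmersion.of_isIso _
      exact @isIntegral_of_isOpenImmersion (Spec (CommRingCat.of A)) (Red.geomFibre s G).left Md.hom.left
        (@IsOpenImmersion.of_isIso _ _ Md.hom.left hIso) inferInstance inferInstance
    exact (affine_isIntegral_iff (CommRingCat.of A)).mp this
  haveI : Algebra.FinitePresentation K A := Algebra.Smooth.finitePresentation
  haveI : Algebra.FormallySmooth K A := Algebra.Smooth.formallySmooth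
  haveI : Algebra.FiniteType K A := Algebra.FiniteType.of_finitePresentation
  have hdim : ringKrullDim A = ((Module.finrank ℤ D.M + Fintype.card D.idx : ℕ) : WithBot ℕ∞) := by
    rw [← D.dim_fibre s, ← PrimeSpectrum.topologicalKrullDim_eq_ringKrullDim]
    exact (Scheme.homeoOfIso (asIso
      (Md.hom.left : Spec (CommRingCat.of A) ⟶ (Red.geomFibre s G).left))).isHomeomorph.topologicalKrullDim_eq
  let F : Frame K A D.M D.idx :=
    { Md.preFrame D with
      cot := fun x h0 hT hu => PreFrame.cot_of_dim (Md.preFrame D) (fun i => D.P.ne_zero i)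
        (fun p hp => ⟨K, inferInstance, inferInstance,
          (show RingHom.ker (algebraMap K K) = p by
            rw [(Ideal.eq_bot_or_top p).resolve_right hp.ne_top]
            exact (RingHom.ker_eq_bot_iff_eq_zero _).mpr fun _ h => h),
          ((ringKrullDim_eq_of_ringEquiv (Algebra.TensorProduct.lid K A).toRingEquiv).trans hdim).le⟩)
        x h0 hT hu }
  obtain ⟨n, hn⟩ := refl_torG (R := K) (f := f) (B := K) D a
  let sref : D.M →+ D.M := (D.P.reflection a).toLinearMap.toAddMonoidHom
  have hss : ∀ m, sref (sref m) = m := fun m => D.P.reflection_same a m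
  have htor : ∀ χ : Multiplicative D.M →* K, Md.pt (F.T.tor χ) = torG D χ := fun χ => Md.pt_torPt D χ
  let d : DoubleRoot F :=
    { a := a
      a' := D.P.reflectionPerm a a
      b' := D.P.reflectionPerm c c
      root_a' := by
        show D.P.root _ = -D.P.root a
        rw [RootPairing.root_reflectionPerm, RootPairing.reflection_apply_self]
      root_b' := by
        show D.P.root _ = -((2 : ℤ) • D.P.root a)
        rw [RootPairing.root_reflectionPerm, RootPairing.reflection_apply_self, hc]
      s := sref
      n := Md.ofPt n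
      s_s := hss
      s_a := D.P.reflection_apply_self a
      s_line := fun m => ⟨-(D.P.coroot' a m), by
        show D.P.reflection a m = m + (-(D.P.coroot' a m)) • D.P.root a
        rw [RootPairing.reflection_apply, neg_smul, sub_eq_add_neg]⟩
      s_root := fun i => ⟨D.P.reflectionPerm a i, RootPairing.root_reflectionPerm D.P a i⟩
      normS := fun χ => Md.pt_bijective.injective (by
        have e : Md.pt (Md.ofPt n) = n := (Md.ofPt_eq_iff.mp rfl).symm
        have h := hn (χ.comp sref.toMultiplicative)
        rw [show (χ.comp sref.toMultiplicative).comp sref.toMultiplicative = χ by ext m; simp [hss]] at h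
        rw [Md.pt_mul, Md.pt_mul, htor, htor, e]
        exact (mul_inv_eq_iff_eq_mul.mp h).symm)
      no_mix := fun r p q hp hq h => by
        have hr : D.P.root r = (-((p : ℤ) + 2 * q)) • D.P.root a := by
          have h' : D.P.root r = p • D.P.root (D.P.reflectionPerm a a) + q • D.P.root (D.P.reflectionPerm c c) := h
          rw [h', RootPairing.root_reflectionPerm, RootPairing.reflection_apply_self, RootPairing.root_reflectionPerm,
            RootPairing.reflection_apply_self, hc, ← natCast_zsmul, ← natCast_zsmul, neg_smul, add_smul, mul_comm,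
            mul_smul, smul_neg, smul_neg, neg_add]
        have h2 := congrArg (D.P.coroot' r) hr
        rw [map_zsmul, smul_eq_mul, D.P.root_coroot'_eq_pairing, D.P.pairing_same] at h2
        have hdvd : ((p : ℤ) + 2 * q) ∣ 2 := ⟨-(D.P.coroot' r (D.P.root a)), by linear_combination h2⟩
        have := Int.le_of_dvd (by norm_num) hdvd
        omega }
  exact false_of_doubleRoot F d (fun i => D.P.ne_zero i) (noUnipotentNormal Md.e ⟨hX1, hX2, hX3, hX4⟩)

/-- The root datum of a split reductive group over a nonempty base is reduced. -/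
theorem isReduced [Nonempty S] : D.P.IsReduced := by
  refine ⟨fun i j h => ?_⟩
  rw [LinearIndependent.pair_iff] at h
  push Not at h
  obtain ⟨x, y, hxy, hne⟩ := h
  have h1 := congrArg (D.P.coroot' i) hxy
  have h2 := congrArg (D.P.coroot' j) hxy
  simp only [map_add, map_zsmul, map_zero, smul_eq_mul, D.P.root_coroot'_eq_pairing, D.P.pairing_same] at h1 h2
  set p := D.P.pairing j i
  set q := D.P.pairing i j
  have hx : x ≠ 0 := by
    intro hx
    subst hx
    rw [zero_smul, zero_add, smul_eq_zero] at hxy
    exact hne rfl (hxy.resolve_right (D.P.ne_zero j))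
  have hy : y ≠ 0 := by
    intro hy
    subst hy
    rw [zero_smul, add_zero, smul_eq_zero] at hxy
    exact hx (hxy.resolve_right (D.P.ne_zero i))
  have hpq : p * q = 4 := by
    have h : (p * q - 4) * x = 0 := by linear_combination p * h2 - 2 * h1
    rcases mul_eq_zero.mp h with h | h
    · omega
    · exact absurd h hx
  have hp : p ∣ 4 := ⟨q, hpq.symm⟩
  have hple := Int.le_of_dvd (by norm_num) hp
  have hpge : -4 ≤ p := by
    have := Int.le_of_dvd (by norm_num) (neg_dvd.mpr hp)
    omega
  have hneg : ∀ k, D.P.root (D.P.reflectionPerm k k) = -D.P.root k := fun k => by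
    rw [RootPairing.root_reflectionPerm, RootPairing.reflection_apply_self]
  have key : ∀ e : ℤ, y = e * x → D.P.root i = -(e • D.P.root j) := fun e he => by
    refine root_zsmul_cancel D hx (eq_of_sub_eq_zero ?_)
    rw [← hxy, he, smul_neg, sub_neg_eq_add, smul_smul, mul_comm x]
  have key' : ∀ e : ℤ, x = e * y → D.P.root j = -(e • D.P.root i) := fun e he => by
    refine root_zsmul_cancel D hy (eq_of_sub_eq_zero ?_)
    rw [← hxy, he, smul_neg, sub_neg_eq_add, smul_smul, mul_comm y, add_comm]
  rcases (show p = 1 ∨ p = -1 ∨ p = 2 ∨ p = -2 ∨ p = 4 ∨ p = -4 by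
    clear_value p q; interval_cases p <;> omega) with h0 | h0 | h0 | h0 | h0 | h0
  · exact absurd ((key (-2) (by rw [h0] at h1; omega)).trans (by rw [neg_smul, neg_neg])) (not_double D j i)
  · refine absurd ((key 2 (by rw [h0] at h1; omega)).trans (by rw [hneg, smul_neg])) (not_double D (D.P.reflectionPerm j j) i)
  · left
    rw [key (-1) (by rw [h0] at h1; omega), neg_one_smul, neg_neg]
  · right
    rw [key 1 (by rw [h0] at h1; omega), one_smul]
  · have hq : q = 1 := by rw [h0] at hpq; omega
    exact absurd ((key' (-2) (by rw [hq] at h2; omega)).trans (by rw [neg_smul, neg_neg])) (not_double D i j)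
  · have hq : q = -1 := by rw [h0] at hpq; omega
    exact absurd ((key' 2 (by rw [hq] at h2; omega)).trans (by rw [hneg, smul_neg])) (not_double D (D.P.reflectionPerm i i) j)

end Groth.Agent.RedRk29
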