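import Groth.Agent.RedRk29.Reps
import Groth.Agent.ComodLib.Orbits
import Mathlib.Algebra.MvPolynomial.Funext
import Mathlib.RingTheory.Polynomial.Basic
import Mathlib.LinearAlgebra.FreeModule.Finite.Basic
import Mathlib.LinearAlgebra.Dimension.Free

/-!
# Orbit cones in finite families of representations
-/

set_option autoImplicit false

universe u

open TensorProduct WithConv

namespace Groth.Agent.RedRk29

open BigCell29

variable {k : Type u} [Field k] {A : Type u} [CommRing A] [HopfAlgebra k A]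
  {J : Type} {W : J → Type u} [∀ j, AddCommGroup (W j)] [∀ j, Module k (W j)] [∀ j, Module.Finite k (W j)]

/-- The coordinates of a tuple. -/
abbrev CoordIdx (k : Type u) [Field k] {J : Type} (W : J → Type u) [∀ j, AddCommGroup (W j)] [∀ j, Module k (W j)] :
    Type := Σ j, Fin (Module.finrank k (W j))

/-- The coordinates of a tuple. -/
noncomputable def crd (p : ∀ j, W j) : CoordIdx k W → k := fun i => (Module.finBasis k (W i.1)).repr (p i.1) i.2

variable (k) in
/-- Polynomial functions on tuples. -/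
def IsPolyFn (f : (∀ j, W j) → k) : Prop :=
  ∃ P : MvPolynomial (CoordIdx k W) k, ∀ p, f p = MvPolynomial.eval (crd p) P

theorem IsPolyFn.const (c : k) : IsPolyFn k (fun _ : ∀ j, W j => c) := ⟨.C c, fun p => by simp⟩

theorem IsPolyFn.add {f g : (∀ j, W j) → k} (hf : IsPolyFn k f) (hg : IsPolyFn k g) :
    IsPolyFn k fun p => f p + g p := by
  obtain ⟨P, hP⟩ := hf; obtain ⟨Q, hQ⟩ := hg
  exact ⟨P + Q, fun p => by simp [hP, hQ]⟩

theorem IsPolyFn.mul {f g : (∀ j, W j) → k} (hf : IsPolyFn k f) (hg : IsPolyFn k g) :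
    IsPolyFn k fun p => f p * g p := by
  obtain ⟨P, hP⟩ := hf; obtain ⟨Q, hQ⟩ := hg
  exact ⟨P * Q, fun p => by simp [hP, hQ]⟩

theorem IsPolyFn.sub {f g : (∀ j, W j) → k} (hf : IsPolyFn k f) (hg : IsPolyFn k g) :
    IsPolyFn k fun p => f p - g p := by
  obtain ⟨P, hP⟩ := hf; obtain ⟨Q, hQ⟩ := hg
  exact ⟨P - Q, fun p => by simp [hP, hQ]⟩

theorem IsPolyFn.sum {ι : Type*} (s : Finset ι) {f : ι → (∀ j, W j) → k} (hf : ∀ i ∈ s, IsPolyFn k (f i)) :
    IsPolyFn k fun p => ∑ i ∈ s, f i p := by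
  classical
  induction s using Finset.induction_on with
  | empty => simpa using IsPolyFn.const (W := W) (0 : k)
  | insert a s ha ih =>
    simp only [Finset.sum_insert ha]
    exact (hf a (Finset.mem_insert_self a s)).add (ih fun i hi => hf i (Finset.mem_insert_of_mem hi))

theorem IsPolyFn.prod {ι : Type*} (s : Finset ι) {f : ι → (∀ j, W j) → k} (hf : ∀ i ∈ s, IsPolyFn k (f i)) :
    IsPolyFn k fun p => ∏ i ∈ s, f i p := by
  classical
  induction s using Finset.induction_on with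
  | empty => simpa using IsPolyFn.const (W := W) (1 : k)
  | insert a s ha ih =>
    simp only [Finset.prod_insert ha]
    exact (hf a (Finset.mem_insert_self a s)).mul (ih fun i hi => hf i (Finset.mem_insert_of_mem hi))

theorem IsPolyFn.linear {j : J} (φ : W j →ₗ[k] k) : IsPolyFn k fun p : ∀ j, W j => φ (p j) := by
  refine ⟨∑ i, MvPolynomial.C (φ (Module.finBasis k (W j) i)) * MvPolynomial.X ⟨j, i⟩, fun p => ?_⟩
  show φ (p j) = _
  conv_lhs => rw [← (Module.finBasis k (W j)).sum_repr (p j), map_sum]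
  simp [crd, mul_comm]

theorem IsPolyFn.comp_linear {f : (∀ j, W j) → k} (hf : IsPolyFn k f) (L : ∀ j, W j →ₗ[k] W j) :
    IsPolyFn k fun p => f fun j => L j (p j) := by
  obtain ⟨P, hP⟩ := hf
  choose Q hQ using fun i : CoordIdx k W =>
    IsPolyFn.linear (W := W) ((Finsupp.lapply i.2).comp (((Module.finBasis k (W i.1)).repr.toLinearMap).comp (L i.1)))
  refine ⟨MvPolynomial.bind₁ Q P, fun p => ?_⟩
  show f (fun j => L j (p j)) = _
  rw [hP]
  refine Eq.trans ?_ (MvPolynomial.eval₂Hom_bind₁ (RingHom.id k) (crd p) Q P).symm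
  refine congrArg (fun c => MvPolynomial.eval₂Hom (RingHom.id k) c P) (funext fun i => ?_)
  exact hQ i p

theorem IsPolyFn.comp_curve {f : (∀ j, W j) → k} (hf : IsPolyFn k f) {c : k → ∀ j, W j}
    (hc : ∀ i : CoordIdx k W, ∃ q : Polynomial k, ∀ z, crd (c z) i = q.eval z) :
    ∃ q : Polynomial k, ∀ z, f (c z) = q.eval z := by
  obtain ⟨P, hP⟩ := hf
  choose q hq using hc
  refine ⟨MvPolynomial.aeval q P, fun z => ?_⟩
  rw [hP, ← Polynomial.coe_aeval_eq_eval, MvPolynomial.comp_aeval_apply, MvPolynomial.aeval_eq_eval]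
  refine congrArg (fun c => MvPolynomial.eval c P) (funext fun i => ?_)
  rw [Polynomial.coe_aeval_eq_eval, hq i]

variable (π : ∀ j, Pt k A k →* Module.End k (W j))

/-- The cone over an orbit. -/
def Orb (p : ∀ j, W j) : Set (∀ j, W j) :=
  {q | ∃ (g : Pt k A k) (c : J → k), ∀ j, q j = c j • π j g (p j)}

/-- The closure of the cone over an orbit. -/
def Cl (p : ∀ j, W j) : Set (∀ j, W j) :=
  {q | ∀ f, IsPolyFn k f → (∀ x ∈ Orb π p, f x = 0) → f q = 0}

/-- Tuples without a zero component. -/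
def Nondeg (p : ∀ j, W j) : Prop := ∀ j, p j ≠ 0

omit [∀ j, Module.Finite k (W j)] in
theorem mem_orb_self (p : ∀ j, W j) : p ∈ Orb π p := ⟨1, 1, fun j => by simp⟩

omit [∀ j, Module.Finite k (W j)] in
theorem orb_trans {p q r : ∀ j, W j} (hq : q ∈ Orb π p) (hr : r ∈ Orb π q) : r ∈ Orb π p := by
  obtain ⟨g, c, hg⟩ := hq
  obtain ⟨h, d, hh⟩ := hr
  exact ⟨h * g, fun j => d j * c j, fun j => by
    rw [hh j, hg j, map_smul, map_mul, Module.End.mul_apply, smul_smul]⟩

omit [∀ j, Module.Finite k (W j)] in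
theorem orb_symm {p q : ∀ j, W j} (hq : q ∈ Orb π p) (hn : Nondeg q) : p ∈ Orb π q := by
  obtain ⟨g, c, hg⟩ := hq
  refine ⟨g⁻¹, fun j => (c j)⁻¹, fun j => ?_⟩
  have hc : c j ≠ 0 := fun h => hn j (by rw [hg j, h, zero_smul])
  show p j = (c j)⁻¹ • π j g⁻¹ (q j)
  rw [hg j, map_smul, ← Module.End.mul_apply, ← map_mul, inv_mul_cancel, map_one, Module.End.one_apply,
    inv_smul_smul₀ hc]

theorem orb_subset_cl (p : ∀ j, W j) : Orb π p ⊆ Cl π p := fun _ hx _ _ h => h _ hx

theorem cl_orb {p q x : ∀ j, W j} (hq : q ∈ Cl π p) (hx : x ∈ Orb π q) : x ∈ Cl π p := by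
  obtain ⟨g, c, hg⟩ := hx
  intro f hf h
  have hx' : x = fun j => (c j • π j g) (q j) := funext fun j => hg j
  rw [hx']
  refine hq _ (hf.comp_linear fun j => c j • π j g) fun y hy => h _ ?_
  exact orb_trans π hy ⟨g, c, fun j => rfl⟩

theorem cl_trans {p q x : ∀ j, W j} (hq : q ∈ Cl π p) (hx : x ∈ Cl π q) : x ∈ Cl π p :=
  fun f hf h => hx f hf fun _ hy => cl_orb π hq hy f hf h

theorem cl_curve [Infinite k] {p : ∀ j, W j} {c : k → ∀ j, W j}
    (hc : ∀ i : CoordIdx k W, ∃ q : Polynomial k, ∀ z, crd (c z) i = q.eval z)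
    (h : ∀ z, z ≠ 0 → c z ∈ Cl π p) : c 0 ∈ Cl π p := by
  intro f hf hv
  obtain ⟨q, hq⟩ := hf.comp_curve hc
  have : q = 0 := by
    refine Polynomial.eq_zero_of_infinite_isRoot q ?_
    refine Set.Infinite.mono (s := {z : k | z ≠ 0}) (fun z hz => ?_) (Set.Finite.infinite_compl (Set.finite_singleton 0))
    show q.eval z = 0
    rw [← hq]
    exact h z hz f hf hv
  rw [hq, this, Polynomial.eval_zero]

/-- The polynomials vanishing on an orbit cone. -/
noncomputable def vIdeal (p : ∀ j, W j) : Ideal (MvPolynomial (CoordIdx k W) k) where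
  carrier := {P | ∀ x ∈ Orb π p, MvPolynomial.eval (crd x) P = 0}
  add_mem' ha hb x hx := by rw [map_add, ha x hx, hb x hx, add_zero]
  zero_mem' x _ := map_zero _
  smul_mem' c P hP x hx := by rw [smul_eq_mul, map_mul, hP x hx, mul_zero]

theorem mem_cl_iff {p q : ∀ j, W j} :
    q ∈ Cl π p ↔ ∀ P ∈ vIdeal π p, MvPolynomial.eval (crd q) P = 0 := by
  constructor
  · exact fun h P hP => h _ ⟨P, fun _ => rfl⟩ hP
  · rintro h f ⟨P, hP⟩ hf
    rw [hP]
    exact h P fun x hx => by rw [← hP, hf x hx]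

theorem vIdeal_le {p q : ∀ j, W j} (hq : q ∈ Cl π p) : vIdeal π p ≤ vIdeal π q :=
  fun _ hP _ hx => (mem_cl_iff π).mp (cl_orb π hq hx) _ hP

theorem mem_cl_of_vIdeal_le {p q : ∀ j, W j} (h : vIdeal π p ≤ vIdeal π q) : q ∈ Cl π p :=
  (mem_cl_iff π).mpr fun _ hP => h hP q (mem_orb_self π q)

variable [Fintype J] [DecidableEq J]

/-- A nonempty class of tuples has a member with smallest orbit closure. -/
theorem exists_minimal (S : Set (∀ j, W j)) (hS : S.Nonempty) :
    ∃ p ∈ S, ∀ q ∈ S, q ∈ Cl π p → vIdeal π q = vIdeal π p := by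
  obtain ⟨_, ⟨p, hp, rfl⟩, hmax⟩ :=
    set_has_maximal_iff_noetherian.mpr (inferInstance : IsNoetherian (MvPolynomial (CoordIdx k W) k) _)
      (vIdeal π '' S) (hS.image _)
  exact ⟨p, hp, fun q hq hqp => ((vIdeal_le π hqp).eq_or_lt.resolve_right fun hlt =>
    hmax _ ⟨q, hq, rfl⟩ hlt).symm⟩

variable [IsAlgClosed k] [Algebra.FiniteType k A] [IsDomain A] {π}

/-- The pullback of polynomials along the orbit map, with a scalar for each component. -/
theorem exists_orbit_hom (hπ : ∀ j, IsRegRep (π j)) (p : ∀ j, W j) :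
    ∃ Φ : MvPolynomial (CoordIdx k W) k →ₐ[k] MvPolynomial J A, ∀ P (g : Pt k A k) (c : J → k),
      MvPolynomial.aeval c (MvPolynomial.map g.ofConv.toRingHom (Φ P)) =
        MvPolynomial.eval (crd fun j => c j • π j g (p j)) P := by
  choose a ha using fun i : CoordIdx k W =>
    (hπ i.1).exists_coef (p i.1) ((Finsupp.lapply i.2).comp (Module.finBasis k (W i.1)).repr.toLinearMap)
  refine ⟨MvPolynomial.aeval fun i => MvPolynomial.C (a i) * MvPolynomial.X i.1, fun P g c => ?_⟩
  induction P using MvPolynomial.induction_on with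
  | C r => simp [MvPolynomial.algebraMap_eq]
  | add P Q hP hQ => simp only [map_add, hP, hQ]
  | mul_X P i hP =>
    simp only [map_mul, hP, MvPolynomial.aeval_X, MvPolynomial.map_C, MvPolynomial.map_X, MvPolynomial.eval_X,
      MvPolynomial.aeval_C]
    congr 1
    have e := ha i g
    simp only [LinearMap.coe_comp, Function.comp_apply, Finsupp.lapply_apply, LinearEquiv.coe_coe] at e
    simp [crd, ← e, mul_comm]

theorem orbit_hom_eq_zero_iff {p : ∀ j, W j} {Φ : MvPolynomial (CoordIdx k W) k →ₐ[k] MvPolynomial J A}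
    (hΦ : ∀ P (g : Pt k A k) (c : J → k), MvPolynomial.aeval c (MvPolynomial.map g.ofConv.toRingHom (Φ P)) =
        MvPolynomial.eval (crd fun j => c j • π j g (p j)) P) (P : MvPolynomial (CoordIdx k W) k) :
    Φ P = 0 ↔ P ∈ vIdeal π p := by
  constructor
  · rintro h x ⟨g, c, hgc⟩
    rw [show x = fun j => c j • π j g (p j) from funext hgc, ← hΦ, h, map_zero, map_zero]
  · intro h
    have : Infinite k := IsAlgClosed.instInfinite
    refine MvPolynomial.ext _ _ fun d => by_contra fun hd => ?_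
    rw [MvPolynomial.coeff_zero] at hd
    obtain ⟨x, hx⟩ := ComodLib.exists_point_ne_zero (k := k) (a := (Φ P).coeff d) fun hn => hd hn.eq_zero
    refine hx ?_
    have e : MvPolynomial.map x.toRingHom (Φ P) = 0 := MvPolynomial.funext fun c => by
      rw [map_zero, ← MvPolynomial.aeval_eq_eval]
      exact (hΦ P (toConv x) c).trans (h _ ⟨toConv x, c, fun _ => rfl⟩)
    exact (MvPolynomial.coeff_map _ _ _).symm.trans (by rw [e, MvPolynomial.coeff_zero])

theorem vIdeal_isPrime (hπ : ∀ j, IsRegRep (π j)) (p : ∀ j, W j) : (vIdeal π p).IsPrime := by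
  obtain ⟨Φ, hΦ⟩ := exists_orbit_hom hπ p
  have : vIdeal π p = RingHom.ker Φ.toRingHom := Ideal.ext fun P => (orbit_hom_eq_zero_iff hΦ P).symm
  rw [this]
  exact RingHom.ker_isPrime _

/-- The orbit cone contains a nonempty open part of its closure. -/
theorem exists_open_subset_orb (hπ : ∀ j, IsRegRep (π j)) (p : ∀ j, W j) :
    ∃ P ∉ vIdeal π p, ∀ x ∈ Cl π p, MvPolynomial.eval (crd x) P ≠ 0 → x ∈ Orb π p := by
  obtain ⟨Φ, hΦ⟩ := exists_orbit_hom hπ p
  haveI : IsNoetherianRing Φ.range := isNoetherianRing_range Φ.toRingHom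
  have hft : (Φ.range.val.toRingHom).FinitePresentation := by
    refine RingHom.FinitePresentation.of_finiteType.mp (RingHom.FiniteType.of_comp_finiteType (f := algebraMap k Φ.range) ?_)
    rw [show Φ.range.val.toRingHom.comp (algebraMap k Φ.range) = algebraMap k (MvPolynomial J A) from
      Φ.range.val.comp_algebraMap]
    exact RingHom.finiteType_algebraMap.mpr inferInstance
  obtain ⟨⟨_, P, rfl⟩, hP, hsub⟩ := ComodLib.exists_basicOpen_subset_range Φ.range.val.toRingHom hft Subtype.val_injective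
  refine ⟨P, fun hmem => hP ⟨1, by
    rw [pow_one]; exact Subtype.ext ((orbit_hom_eq_zero_iff hΦ P).mpr hmem)⟩, fun x hx hne => ?_⟩
  have hker : RingHom.ker Φ.rangeRestrict.toRingHom ≤ RingHom.ker (MvPolynomial.aeval (crd x) : MvPolynomial (CoordIdx k W) k →ₐ[k] k).toRingHom := fun Q hQ => by
    show MvPolynomial.aeval (crd x) Q = 0
    rw [MvPolynomial.aeval_eq_eval]
    exact (mem_cl_iff π).mp hx Q ((orbit_hom_eq_zero_iff hΦ Q).mp (congrArg Subtype.val hQ))
  have hsurj : Function.Surjective Φ.rangeRestrict := AlgHom.rangeRestrict_surjective Φ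
  let z : Φ.range →ₐ[k] k :=
    ((Ideal.Quotient.liftₐ _ (MvPolynomial.aeval (crd x)) hker).comp
      (Ideal.quotientKerAlgEquivOfSurjective hsurj).symm.toAlgHom)
  have hz : ∀ Q, z (Φ.rangeRestrict Q) = MvPolynomial.aeval (crd x) Q := fun Q => by
    have e : (Ideal.quotientKerAlgEquivOfSurjective hsurj).symm (Φ.rangeRestrict Q) = Ideal.Quotient.mk _ Q := by
      rw [AlgEquiv.symm_apply_eq, Ideal.quotientKerAlgEquivOfSurjective_mk]
    show (Ideal.Quotient.liftₐ _ (MvPolynomial.aeval (crd x)) hker) ((Ideal.quotientKerAlgEquivOfSurjective hsurj).symm (Φ.rangeRestrict Q)) = _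
    rw [e]
    rfl
  obtain ⟨G, hG⟩ := ComodLib.exists_lift_of_mem_range Φ.range.val z (hsub _ fun h => hne (by
    have h' : z (Φ.rangeRestrict P) = 0 := h
    rwa [hz, MvPolynomial.aeval_eq_eval] at h'))
  refine ⟨toConv (G.comp (IsScalarTower.toAlgHom k A (MvPolynomial J A))), fun j => G (MvPolynomial.X j), fun j => ?_⟩
  refine (Module.finBasis k (W j)).repr.injective (Finsupp.ext fun i => ?_)
  have e1 : MvPolynomial.aeval (crd x) (MvPolynomial.X ⟨j, i⟩ : MvPolynomial (CoordIdx k W) k) =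
      G (Φ (MvPolynomial.X ⟨j, i⟩)) := by
    rw [← hz]; exact (DFunLike.congr_fun hG (Φ.rangeRestrict (MvPolynomial.X ⟨j, i⟩))).symm
  have e2 : ∀ R : MvPolynomial J A, MvPolynomial.aeval (fun j => G (MvPolynomial.X j))
      (MvPolynomial.map (G.comp (IsScalarTower.toAlgHom k A (MvPolynomial J A))).toRingHom R) = G R := fun R => by
    induction R using MvPolynomial.induction_on with
    | C r => simp [MvPolynomial.algebraMap_eq]
    | add P Q hP hQ => simp only [map_add, hP, hQ]
    | mul_X P i hP => simp only [map_mul, hP, MvPolynomial.map_X, MvPolynomial.aeval_X]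
  rw [← e2] at e1
  rw [MvPolynomial.aeval_X] at e1
  refine e1.trans ((hΦ _ (toConv (G.comp (IsScalarTower.toAlgHom k A (MvPolynomial J A)))) _).trans ?_)
  rw [MvPolynomial.eval_X]
  rfl

/-- Two nondegenerate tuples with the same orbit closure lie in one orbit cone. -/
theorem mem_orb_of_vIdeal_eq (hπ : ∀ j, IsRegRep (π j)) {p q : ∀ j, W j} (hn : Nondeg p) (hq : Nondeg q)
    (h : vIdeal π q = vIdeal π p) : q ∈ Orb π p := by
  obtain ⟨P, hP, hPs⟩ := exists_open_subset_orb hπ q
  obtain ⟨Q, hQ, hQs⟩ := exists_open_subset_orb hπ p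
  have hX : ∀ j, ∃ i, MvPolynomial.X (⟨j, i⟩ : CoordIdx k W) ∉ vIdeal π p := fun j => by
    by_contra hall
    push Not at hall
    refine hn j ((Module.finBasis k (W j)).repr.map_eq_zero_iff.mp (Finsupp.ext fun i => ?_))
    simpa [crd] using hall i p (mem_orb_self π p)
  choose i hi using hX
  have hprime := vIdeal_isPrime hπ p
  have hR : P * (Q * ∏ j, MvPolynomial.X (⟨j, i j⟩ : CoordIdx k W)) ∉ vIdeal π p := fun hmem => by
    rcases hprime.mem_or_mem hmem with h1 | h1
    · exact hP (h ▸ h1)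
    rcases hprime.mem_or_mem h1 with h1 | h1
    · exact hQ h1
    obtain ⟨j, -, hj⟩ := hprime.prod_mem_iff.mp h1
    exact hi j hj
  obtain ⟨x, hx, hne⟩ : ∃ x ∈ Orb π p,
      MvPolynomial.eval (crd x) (P * (Q * ∏ j, MvPolynomial.X (⟨j, i j⟩ : CoordIdx k W))) ≠ 0 := by
    by_contra hall
    push Not at hall
    exact hR hall
  simp only [map_mul, map_prod, MvPolynomial.eval_X, mul_ne_zero_iff, Finset.prod_ne_zero_iff] at hne
  have hxn : Nondeg x := fun j hj => hne.2.2 j (Finset.mem_univ j) (by simp [crd, hj])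
  have hxq : x ∈ Orb π q := hPs x (mem_cl_of_vIdeal_le π (h.le.trans (vIdeal_le π (orb_subset_cl π p hx)))) hne.1
  exact orb_trans π hx (orb_symm π hxq hxn)

end Groth.Agent.RedRk29
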