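import Groth.Agent.RedRk29.Pts
import Groth.Agent.RedRk29.Cone

/-!
# Extremal points of closed orbits
-/

set_option autoImplicit false

universe u

open TensorProduct WithConv

namespace Groth.Agent.RedRk29

open BigCell29

section Functional

variable {M : Type} [AddCommGroup M] [Module.Free ℤ M] [Module.Finite ℤ M]

/-- A cocharacter can be moved off finitely many hyperplanes keeping its positivity. -/
theorem exists_perturb (lam₀ : M →+ ℤ) {D : Set M} (hD : D.Finite) :
    ∃ lam : M →+ ℤ, (∀ d ∈ D, d ≠ 0 → lam d ≠ 0) ∧ ∀ d ∈ D, 0 < lam₀ d → 0 < lam d := by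
  classical
  suffices ∀ s : Finset M, ∃ lam : M →+ ℤ, (∀ d ∈ s, d ≠ 0 → lam d ≠ 0) ∧ ∀ d ∈ hD.toFinset, 0 < lam₀ d → 0 < lam d by
    obtain ⟨lam, h1, h2⟩ := this hD.toFinset
    exact ⟨lam, fun d hd => h1 d (hD.mem_toFinset.mpr hd), fun d hd => h2 d (hD.mem_toFinset.mpr hd)⟩
  intro s
  induction s using Finset.induction_on with
  | empty => exact ⟨lam₀, by simp, fun _ _ h => h⟩
  | insert x s hx ih =>
    obtain ⟨lam, h1, h2⟩ := ih
    by_cases hx0 : x = 0 ∨ lam x ≠ 0
    · refine ⟨lam, fun d hd hd0 => ?_, h2⟩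
      rcases Finset.mem_insert.mp hd with rfl | hd
      · exact hx0.resolve_left hd0
      · exact h1 d hd hd0
    push Not at hx0
    obtain ⟨l, hl⟩ := exists_functional_ne_zero hx0.1
    let N : ℤ := (∑ d ∈ s ∪ hD.toFinset, |l d|) + 1
    have hN : ∀ d ∈ s ∪ hD.toFinset, |l d| < N := fun d hd => by
      have := Finset.single_le_sum (f := fun d => |l d|) (fun i _ => abs_nonneg _) hd
      simp only [N]; omega
    refine ⟨N • lam + l, fun d hd hd0 => ?_, fun d hd h0 => ?_⟩
    · rcases Finset.mem_insert.mp hd with rfl | hd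
      · simp only [AddMonoidHom.add_apply, AddMonoidHom.smul_apply, hx0.2, smul_zero, zero_add]
        exact hl
      · have hb := hN d (Finset.mem_union_left _ hd)
        have hne := h1 d hd hd0
        have hb' := abs_lt.mp hb
        simp only [AddMonoidHom.add_apply, AddMonoidHom.smul_apply, smul_eq_mul]
        rcases lt_or_gt_of_ne hne with h | h
        · intro h0; nlinarith
        · intro h0; nlinarith
    · have hb' := abs_lt.mp (hN d (Finset.mem_union_right _ hd))
      have := h2 d hd h0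
      simp only [AddMonoidHom.add_apply, AddMonoidHom.smul_apply, smul_eq_mul]
      nlinarith

end Functional

variable {k : Type u} [Field k] [IsAlgClosed k] {A : Type u} [CommRing A] [HopfAlgebra k A]
  {M ι : Type} [AddCommGroup M] [Module.Free ℤ M] [Module.Finite ℤ M] (F : Frame k A M ι)
  {J : Type} [Fintype J] {W : J → Type u} [∀ j, AddCommGroup (W j)] [∀ j, Module k (W j)]
  [∀ j, Module.Finite k (W j)] (π : ∀ j, Pt k A k →* Module.End k (W j))

/-- All weights of the representations. -/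
def wts : Set M := {m | ∃ j, Wt F (π j) m ≠ ⊥}

/-- A cocharacter which is nonzero on the roots and separates the weights. -/
def Good (lam : M →+ ℤ) : Prop :=
  (∀ i, lam (F.root i) ≠ 0) ∧ Set.InjOn lam (wts F π)

/-- The sum of a tuple of weights. -/
def wsum (m : J → M) : M := ∑ j, m j

/-- A torus fixed tuple with its weights. -/
def Eig (p : ∀ j, W j) (m : J → M) : Prop := Nondeg p ∧ ∀ j, p j ∈ Wt F (π j) (m j)

/-- A torus fixed tuple of the orbit closure fixed by the positive root groups. -/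
def Ext (p₀ : ∀ j, W j) (lam : M →+ ℤ) (p : ∀ j, W j) (m : J → M) : Prop :=
  p ∈ Cl π p₀ ∧ Eig F π p m ∧ ∀ g ∈ posRt F lam, ∀ j, π j g (p j) = p j

/-- The nondegenerate part of an orbit closure is one orbit. -/
def IsClosedOrbit (p₀ : ∀ j, W j) : Prop := Nondeg p₀ ∧ ∀ q ∈ Cl π p₀, Nondeg q → q ∈ Orb π p₀

/-- Proportional tuples. -/
def Prop' (p q : ∀ j, W j) : Prop := ∃ c : J → k, ∀ j, c j ≠ 0 ∧ q j = c j • p j

variable {π} (hπ : ∀ j, IsRegRep (π j))

include hπ in
omit [Fintype J] in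
theorem Eig.mem_wts {p : ∀ j, W j} {m : J → M} (h : Eig F π p m) (j : J) : m j ∈ wts F π :=
  ⟨j, fun hb => h.1 j ((Submodule.eq_bot_iff _).mp hb _ (h.2 j))⟩

include hπ in
omit [Fintype J] in
theorem eig_weights_eq_of_prop {p q : ∀ j, W j} {m m' : J → M} (hp : Eig F π p m) (hq : Eig F π q m')
    (h : Prop' (k := k) p q) : m' = m := by
  classical
  obtain ⟨c, hc⟩ := h
  funext j
  exact eq_of_mem_Wt F (hπ j) (hq.2 j) (by rw [(hc j).2]; exact Submodule.smul_mem _ _ (hp.2 j)) (hq.1 j)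

include hπ in
omit [∀ j, Module.Finite k (W j)] [Fintype J] in
theorem prop_eq {p q : ∀ j, W j} (h : Prop' (k := k) p q) : q ∈ Orb π p := by
  obtain ⟨c, hc⟩ := h
  exact ⟨1, c, fun j => by rw [(hc j).2, map_one, Module.End.one_apply]⟩

variable [Fintype ι]

omit [Fintype ι] in
theorem finite_wts (hπ : ∀ j, IsRegRep (π j)) : (wts F π).Finite := by
  refine Set.Finite.subset (Set.finite_iUnion fun j => finite_weights F (hπ j)) fun m ⟨j, hj⟩ => ?_
  exact Set.mem_iUnion.mpr ⟨j, hj⟩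

include hπ in
/-- A cocharacter can be perturbed to a good one, keeping its positivity on finitely many elements. -/
theorem exists_good (hne : ∀ i, F.root i ≠ 0) (lam₀ : M →+ ℤ) {D : Set M} (hD : D.Finite) :
    ∃ lam, Good F π lam ∧ (∀ i, 0 < lam₀ (F.root i) → 0 < lam (F.root i)) ∧ ∀ d ∈ D, 0 < lam₀ d → 0 < lam d := by
  obtain ⟨lam, h1, h2⟩ := exists_perturb lam₀
    (((Set.finite_range F.root).union ((finite_wts F hπ).image2 (· - ·) (finite_wts F hπ))).union hD)
  refine ⟨lam, ⟨fun i => h1 _ (.inl (.inl ⟨i, rfl⟩)) (hne i), fun a ha b hb hab => by_contra fun h => ?_⟩,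
    fun i => h2 _ (.inl (.inl ⟨i, rfl⟩)), fun d hd => h2 d (.inr hd)⟩
  exact h1 (a - b) (.inl (.inr ⟨a, ha, b, hb, rfl⟩)) (sub_ne_zero.mpr h) (by rw [map_sub, hab, sub_self])

section Top

variable (lam : M →+ ℤ)

/-- The top weights of a tuple. -/
def IsTop (p : ∀ j, W j) (m : J → M) : Prop :=
  ∀ j, wt F (hπ j) (p j) (m j) ≠ 0 ∧ ∀ n, wt F (hπ j) (p j) n ≠ 0 → lam n ≤ lam (m j)

omit [Fintype ι] [Fintype J] [∀ j, Module.Finite k (W j)] in
theorem exists_isTop {p : ∀ j, W j} (hp : Nondeg p) : ∃ m, IsTop F hπ lam p m := by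
  have : ∀ j, ∃ m, wt F (hπ j) (p j) m ≠ 0 ∧ ∀ n, wt F (hπ j) (p j) n ≠ 0 → lam n ≤ lam m := fun j => by
    have hs : (wt F (hπ j) (p j)).support.Nonempty := by
      rw [Finsupp.support_nonempty_iff]
      intro h
      refine hp j ?_
      rw [← sum_wt F (hπ j) (p j), h, Finsupp.sum_zero_index]
    obtain ⟨m, hm, hmax⟩ := Finset.exists_max_image _ (fun n => lam n) hs
    exact ⟨m, Finsupp.mem_support_iff.mp hm, fun n hn => hmax n (Finsupp.mem_support_iff.mpr hn)⟩
  choose m hm using this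
  exact ⟨m, hm⟩

omit [Fintype ι] in
/-- The top components of a member of an orbit closure form a member of it. -/
theorem top_mem {p₀ p : ∀ j, W j} (hp : p ∈ Cl π p₀) {m : J → M} (hm : IsTop F hπ lam p m)
    (hinj : Set.InjOn lam (wts F π)) : (fun j => wt F (hπ j) (p j) (m j)) ∈ Cl π p₀ := by
  classical
  let c : k → ∀ j, W j := fun z j => (wt F (hπ j) (p j)).sum fun n x => z ^ (lam (m j) - lam n).toNat • x
  have h0 : c 0 = fun j => wt F (hπ j) (p j) (m j) := funext fun j => by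
    simp only [c, Finsupp.sum]
    rw [Finset.sum_eq_single_of_mem (m j) (Finsupp.mem_support_iff.mpr (hm j).1)]
    · simp
    · intro n hn hne
      have hlt : lam n < lam (m j) := lt_of_le_of_ne ((hm j).2 n (Finsupp.mem_support_iff.mp hn)) fun h =>
        hne (hinj ⟨j, fun hb => Finsupp.mem_support_iff.mp hn ((Submodule.eq_bot_iff _).mp hb _ (wt_mem F (hπ j) _ n))⟩
          ⟨j, fun hb => (hm j).1 ((Submodule.eq_bot_iff _).mp hb _ (wt_mem F (hπ j) _ _))⟩ h)
      rw [zero_pow (by omega), zero_smul]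
  haveI : Infinite k := IsAlgClosed.instInfinite
  rw [← h0]
  refine cl_curve π (fun i => ⟨(wt F (hπ i.1) (p i.1)).sum fun n x =>
    Polynomial.C ((Module.finBasis k (W i.1)).repr x i.2) * Polynomial.X ^ (lam (m i.1) - lam n).toNat, fun z => ?_⟩)
      fun z hz => ?_
  · simp only [c, crd, Finsupp.sum, Polynomial.eval_finsetSum, map_sum, Finsupp.finsetSum_apply, map_smul,
      Finsupp.smul_apply, smul_eq_mul, Polynomial.eval_mul, Polynomial.eval_C, Polynomial.eval_pow, Polynomial.eval_X]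
    exact Finset.sum_congr rfl fun n _ => mul_comm _ _
  · refine cl_orb π hp ⟨F.T.tor (cchar lam (Units.mk0 z hz)⁻¹), fun j => z ^ lam (m j), fun j => ?_⟩
    rw [tor_eq_sum_wt F (hπ j), Finsupp.smul_sum]
    refine Finset.sum_congr rfl fun n hn => ?_
    simp only
    rw [smul_smul]
    congr 1
    rw [cchar_apply, Units.val_zpow_eq_zpow_val, Units.val_inv_eq_inv_val, Units.val_mk0, inv_zpow', ← zpow_add₀ hz,
      ← sub_eq_add_neg, ← zpow_natCast, Int.toNat_of_nonneg (sub_nonneg.mpr ((hm j).2 n (Finsupp.mem_support_iff.mp hn)))]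

omit [Fintype J] [∀ j, Module.Finite k (W j)] [Fintype ι] in
theorem isTop_eig {p : ∀ j, W j} {m : J → M} (h : Eig F π p m) : IsTop F hπ lam p m := fun j => by
  classical
  rw [wt_of_mem F (hπ j) (h.2 j)]
  refine ⟨by simpa using h.1 j, fun n hn => ?_⟩
  by_cases hmn : m j = n
  · rw [hmn]
  · simp [Finsupp.single_eq_of_ne' hmn] at hn

omit [Fintype J] [∀ j, Module.Finite k (W j)] [Fintype ι] in
theorem top_eig {p : ∀ j, W j} {m : J → M} (hm : IsTop F hπ lam p m) :
    Eig F π (fun j => wt F (hπ j) (p j) (m j)) m := ⟨fun j => (hm j).1, fun j => wt_mem F (hπ j) _ _⟩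

end Top

variable (p₀ : ∀ j, W j)

omit [Fintype ι] in
include hπ in
/-- A torus fixed tuple of largest total level is fixed by the positive root groups. -/
theorem ext_of_max {lam : M →+ ℤ} (hlam : Good F π lam) {q : ∀ j, W j} {m : J → M} (hq : q ∈ Cl π p₀)
    (he : Eig F π q m)
    (hmax : ∀ x m', x ∈ Cl π p₀ → Eig F π x m' → lam (wsum m') ≤ lam (wsum m)) : Ext F π p₀ lam q m := by
  classical
  refine ⟨hq, he, fun g hg j => by_contra fun hne => ?_⟩
  set x : ∀ j, W j := fun j => π j g (q j)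
  have hx : x ∈ Cl π p₀ := cl_orb π hq ⟨g, 1, fun j => by simp [x]⟩
  have hxn : Nondeg x := fun l h => he.1 l (by
    have := congrArg (π l g⁻¹) (show π l g (q l) = 0 from h)
    rwa [map_zero, ← Module.End.mul_apply, ← map_mul, inv_mul_cancel, map_one, Module.End.one_apply] at this)
  obtain ⟨m', hm'⟩ := exists_isTop F hπ lam hxn
  have hge : ∀ l, lam (m l) ≤ lam (m' l) := fun l => by
    have hv := sub_mem_Hi F lam (hπ l) hg (Wt_le_Hi F (π l) lam (le_refl (lam (m l))) (he.2 l))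
    refine (hm' l).2 (m l) ?_
    have h1 := comp_Hi F lam (hπ l) hv (m := m l) (by omega)
    rw [map_sub, comp_of_mem F (hπ l) (he.2 l), if_pos rfl, sub_eq_zero] at h1
    rw [← comp_apply, h1]; exact he.1 l
  have hgt : lam (m j) < lam (m' j) := by
    have hv := sub_mem_Hi F lam (hπ j) hg (Wt_le_Hi F (π j) lam (le_refl (lam (m j))) (he.2 j))
    by_contra hcon
    push Not at hcon
    refine hne (sub_eq_zero.mp ?_)
    rw [← sum_wt F (hπ j) (π j g (q j) - q j)]
    refine Finset.sum_eq_zero fun n _ => ?_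
    show wt F (hπ j) (π j g (q j) - q j) n = 0
    by_cases hn : lam n < lam (m j) + 1
    · exact comp_Hi F lam (hπ j) hv hn
    · rw [← comp_apply, map_sub, comp_of_mem F (hπ j) (he.2 j), if_neg (fun h => by subst h; omega), sub_zero]
      exact by_contra fun h => by have := (hm' j).2 n h; omega
  have := hmax _ m' (top_mem F hπ lam hx hm' hlam.2) (top_eig F hπ lam hm')
  simp only [wsum, map_sum] at this
  exact absurd this (not_le.mpr (Finset.sum_lt_sum (fun l _ => hge l) ⟨j, Finset.mem_univ j, hgt⟩))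

omit [Fintype ι] in
include hπ in
/-- Every good cocharacter has an extremal point of largest total level. -/
theorem exists_ext_max (hp : Nondeg p₀) {lam : M →+ ℤ} (hlam : Good F π lam) :
    ∃ q m, Ext F π p₀ lam q m ∧ ∀ x m', x ∈ Cl π p₀ → Eig F π x m' → lam (wsum m') ≤ lam (wsum m) := by
  classical
  let S : Set (J → M) := {m | ∃ x, x ∈ Cl π p₀ ∧ Eig F π x m}
  have hS : S.Finite := by
    refine Set.Finite.subset (Set.Finite.pi (fun _ => finite_wts F hπ)) ?_
    rintro m ⟨x, -, hx⟩ j -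
    exact hx.mem_wts F hπ j
  have hne : S.Nonempty := by
    obtain ⟨m, hm⟩ := exists_isTop F hπ lam hp
    exact ⟨m, _, top_mem F hπ lam (orb_subset_cl π p₀ (mem_orb_self π p₀)) hm hlam.2, top_eig F hπ lam hm⟩
  obtain ⟨m, ⟨q, hq, he⟩, hmax⟩ := Set.exists_max_image S (fun m => lam (wsum m)) hS hne
  refine ⟨q, m, ext_of_max F hπ p₀ hlam hq he fun x m' hx he' => hmax m' ⟨x, hx, he'⟩,
    fun x m' hx he' => hmax m' ⟨x, hx, he'⟩⟩

variable [Algebra.Smooth k A] [IsDomain A]

include hπ in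
omit [Fintype J] [∀ j, Module.Finite k (W j)] in
/-- Two tuples in one orbit fixed by the same torus and positive root groups are proportional. -/
theorem ext_unique_orb {lam : M →+ ℤ} (hlam : ∀ i, lam (F.root i) ≠ 0) {x x' : ∀ j, W j} {m m' : J → M}
    (hx : Eig F π x m) (hfx : ∀ g ∈ posRt F lam, ∀ j, π j g (x j) = x j) (hx' : Eig F π x' m')
    (hfx' : ∀ g ∈ posRt F lam, ∀ j, π j g (x' j) = x' j) (horb : x' ∈ Orb π x) : Prop' (k := k) x x' := by
  classical
  obtain ⟨g, c, hgc⟩ := horb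
  obtain ⟨cc, hcc, hcell⟩ := exists_cell_decomp F lam hlam
  obtain ⟨g₁, h1, h2⟩ := exists_two_dense hcc g
  obtain ⟨v, χ, u, hv, hu, e1⟩ := hcell g₁ h1
  obtain ⟨v', χ', u', hv', hu', e2⟩ := hcell (g₁ * g) h2
  refine ⟨fun j => (χ (Multiplicative.ofAdd (m' j)))⁻¹ * (c j * χ' (Multiplicative.ofAdd (m j))), fun j => ?_⟩
  have hχ : χ (Multiplicative.ofAdd (m' j)) ≠ 0 := ((Group.isUnit (Multiplicative.ofAdd (m' j))).map χ).ne_zero
  have e3 : π j g₁ (x' j) = χ (Multiplicative.ofAdd (m' j)) • π j v (x' j) := by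
    rw [e1, map_mul, map_mul, Module.End.mul_apply, Module.End.mul_apply, hfx' u hu j, (hx'.2 j) χ, map_smul]
  have e4 : π j g₁ (x' j) = (c j * χ' (Multiplicative.ofAdd (m j))) • π j v' (x j) := by
    rw [hgc j, map_smul, ← Module.End.mul_apply, ← map_mul, e2, map_mul, map_mul, Module.End.mul_apply,
      Module.End.mul_apply, hfx u' hu' j, (hx.2 j) χ', map_smul, smul_smul]
  set a : k := (χ (Multiplicative.ofAdd (m' j)))⁻¹ * (c j * χ' (Multiplicative.ofAdd (m j)))
  have e5 : x' j = a • π j (v⁻¹ * v') (x j) := by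
    have e6 : π j v (x' j) = a • π j v' (x j) := by
      rw [← smul_smul, ← e4, e3, inv_smul_smul₀ hχ]
    have := congrArg (π j v⁻¹) e6
    rwa [map_smul, ← Module.End.mul_apply, ← map_mul, inv_mul_cancel, map_one, Module.End.one_apply,
      ← Module.End.mul_apply, ← map_mul] at this
  have ha : a ≠ 0 := fun h => hx'.1 j (by rw [e5, h, zero_smul])
  refine ⟨ha, ?_⟩
  have hv'' : v⁻¹ * v' ∈ posRt F (-lam) := mul_mem (inv_mem hv) hv'
  have hsub := sub_mem_Hi F (-lam) (hπ j) hv''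
    (Wt_le_Hi F (π j) (-lam) (le_refl ((-lam) (m j))) (hx.2 j))
  have h6 := comp_Hi F (-lam) (hπ j) hsub (m := m j) (by omega)
  rw [map_sub, comp_of_mem F (hπ j) (hx.2 j), if_pos rfl, sub_eq_zero] at h6
  have h7 := congrArg (comp F (hπ j) (m j)) e5
  rw [map_smul, h6, comp_of_mem F (hπ j) (hx'.2 j)] at h7
  by_cases hmm : m' j = m j
  · rwa [if_pos hmm] at h7
  · rw [if_neg hmm] at h7
    exact absurd (smul_eq_zero.mp h7.symm) (not_or.mpr ⟨ha, hx.1 j⟩)

variable {p₀} (hcl : IsClosedOrbit π p₀)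

include hπ hcl in
theorem Ext.unique {lam : M →+ ℤ} (hlam : ∀ i, lam (F.root i) ≠ 0) {x x' : ∀ j, W j} {m m' : J → M}
    (h : Ext F π p₀ lam x m) (h' : Ext F π p₀ lam x' m') : Prop' (k := k) x x' ∧ m' = m := by
  have ho : x' ∈ Orb π x :=
    orb_trans π (orb_symm π (hcl.2 x h.1 h.2.1.1) h.2.1.1) (hcl.2 x' h'.1 h'.2.1.1)
  have hp := ext_unique_orb F hπ hlam h.2.1 h.2.2 h'.2.1 h'.2.2 ho
  exact ⟨hp, eig_weights_eq_of_prop F hπ h.2.1 h'.2.1 hp⟩

include hπ hcl in
/-- An extremal point has the largest total level, and is the only point of that level. -/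
theorem Ext.max {lam : M →+ ℤ} (hlam : Good F π lam) {x y : ∀ j, W j} {m m' : J → M}
    (h : Ext F π p₀ lam x m) (hy : y ∈ Cl π p₀) (he : Eig F π y m') :
    lam (wsum m') ≤ lam (wsum m) ∧ (lam (wsum m) ≤ lam (wsum m') → Prop' (k := k) x y ∧ m' = m) := by
  obtain ⟨q, mq, hq, hmax⟩ := exists_ext_max F hπ p₀ hcl.1 hlam
  obtain ⟨-, rfl⟩ := Ext.unique F hπ hcl hlam.1 h hq
  refine ⟨hmax y m' hy he, fun hle => Ext.unique F hπ hcl hlam.1 h (ext_of_max F hπ p₀ hlam hy he fun z mz hz hez => ?_)⟩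
  exact (hmax z mz hz hez).trans hle

end Groth.Agent.RedRk29
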