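import Groth.Agent.RedRk29.Geom
import Groth.Agent.RedRk29.Extremal
import Groth.Agent.RedSub30.ClosedRoots
import Groth.Agent.Rank2Red38.NormalForm
import Groth.Agent.Rank2Red38.Conj
import Groth.Agent.RootData.Simple
import Groth.Prelude.Def_RedSub

/-!
# The commutator formula for two positive roots
-/

set_option autoImplicit false

open CategoryTheory MonoidalCategory CartesianMonoidalCategory AlgebraicGeometry
open scoped MonObj GrpObj

namespace Groth.Agent.RedRk29

open Rank2Red38

universe u

variable {S : Scheme.{u}} {G : Over S} [GrpObj G] (D : Red.SplitRed G)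

/-- A generic form positive on the positive roots of a base. -/
theorem exists_form_posRoots (b : D.P.Base) : ∃ lam : Module.Dual ℤ D.M, IsGeneric D lam ∧
    ∀ a ∈ RedSub.posRoots D.P b, 0 < lam (D.P.root a) := by
  classical
  have hP := (RootData.Simple.of_base b).posOf_isPosSys
  obtain ⟨lam0, h0⟩ := RedSub30.IsClosedSet.exists_pos (P := D.P) (Ψ := RedSub.posRoots D.P b)
    (fun i j k hi hj hk => by
      show D.P.root k ∈ RootD.natSpan D.P ↑b.support
      exact hk ▸ add_mem hi hj)
    (fun i j hi hj => by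
      have : j = D.P.reflectionPerm i i := D.P.root.injective (by
        rw [hj, RootPairing.root_reflectionPerm, RootPairing.reflection_apply_self])
      exact this ▸ hP.disjoint hi)
  obtain ⟨lam, h1, h2⟩ := exists_perturb lam0.toAddMonoidHom (Set.finite_range D.P.root)
  exact ⟨lam.toIntLinearMap, fun c => h1 _ ⟨c, rfl⟩ (D.P.ne_zero c), fun a ha => h2 _ ⟨a, rfl⟩ (h0 a ha)⟩

/-- Two positive roots are equal or independent. -/
theorem eq_or_indep [Nonempty S] {lam : Module.Dual ℤ D.M} {α β : D.idx} (hα : 0 < lam (D.P.root α))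
    (hβ : 0 < lam (D.P.root β)) :
    α = β ∨ ∀ p q p' q' : ℕ, p • D.P.root α + q • D.P.root β = p' • D.P.root α + q' • D.P.root β → p = p' ∧ q = q' := by
  haveI := isReduced (D := D)
  by_cases h : LinearIndependent ℤ ![D.P.root α, D.P.root β]
  · refine Or.inr fun p q p' q' e => ?_
    have := LinearIndependent.pair_iff.mp h ((p : ℤ) - p') ((q : ℤ) - q') (by
      simp only [sub_smul, natCast_zsmul]; rw [sub_add_sub_comm, e, sub_self])
    omega
  · rcases RootPairing.IsReduced.eq_or_eq_neg α β h with h' | h'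
    · exact Or.inl (D.P.root.injective h')
    · rw [h', map_neg] at hα; omega

/-- The commutator of two positive root groups in root coordinates. -/
theorem exists_comm [Nonempty S] (b : D.P.Base) {α β : D.idx} (hα : α ∈ RedSub.posRoots D.P b)
    (hβ : β ∈ RedSub.posRoots D.P b) {n : ℕ} (e : Fin n → D.idx) (i j : Fin n → ℕ) (he : Function.Injective e)
    (hij : ∀ k, 1 ≤ i k ∧ 1 ≤ j k ∧ D.P.root (e k) = (i k : ℤ) • D.P.root α + (j k : ℤ) • D.P.root β)
    (hall : ∀ (c : D.idx) (p q : ℕ), 1 ≤ p → 1 ≤ q → D.P.root c = (p : ℤ) • D.P.root α + (q : ℤ) • D.P.root β →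
      c ∈ Set.range e) :
    ∃ C : Fin n → Γ(S, ⊤),
      (∀ (X : Over S) (x y : Γ(X.left, ⊤)), U D X α x * U D X β y * (U D X α x)⁻¹ =
        U D X β y * (List.ofFn fun k => U D X (e k) (glob X (C k) * x ^ i k * y ^ j k)).prod) ∧
      ∀ C' : Fin n → Γ(S, ⊤), (∀ (X : Over S) (x y : Γ(X.left, ⊤)), U D X α x * U D X β y * (U D X α x)⁻¹ =
        U D X β y * (List.ofFn fun k => U D X (e k) (glob X (C' k) * x ^ i k * y ^ j k)).prod) → C' = C := by
  classical
  haveI := isReduced (D := D)
  obtain ⟨lam, hgen, hlam⟩ := exists_form_posRoots D b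
  have hA := hlam α hα
  have hB := hlam β hβ
  have hl : ∀ k, 0 < lam (D.P.root (e k)) := fun k => by
    obtain ⟨h1, h2, h3⟩ := hij k
    simp only [h3, map_add, map_zsmul, smul_eq_mul]
    have h1' : (0 : ℤ) < i k := by exact_mod_cast h1
    exact add_pos_of_pos_of_nonneg (mul_pos h1' hA) (mul_nonneg (Int.natCast_nonneg _) hB.le)
  have huniq : ∀ (C C' : Fin n → Γ(S, ⊤)),
      (List.ofFn fun k => U D (𝟙_ (Over S)) (e k) (C k)).prod = (List.ofFn fun k => U D (𝟙_ (Over S)) (e k) (C' k)).prod →
        C = C' := by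
    intro C C' h
    funext k
    have ext : ∀ C : Fin n → Γ(S, ⊤), (List.ofFn fun k => U D (𝟙_ (Over S)) (e k) (C k)).prod =
        rootProd D (𝟙_ (Over S)) (List.ofFn e) (fun d => if h : ∃ k, e k = d then C h.choose else 0) := by
      intro C
      rw [rootProd, List.map_ofFn]
      refine congrArg List.prod (congrArg List.ofFn (funext fun k => ?_))
      have h : ∃ k', e k' = e k := ⟨k, rfl⟩
      simp only [Function.comp_apply, dif_pos h]
      rw [show h.choose = k from he h.choose_spec]
    rw [ext, ext] at h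
    have := (hasNormalForm D).inj lam hgen _ (List.nodup_ofFn.mpr he)
      (fun c hc => by obtain ⟨k, rfl⟩ := List.mem_ofFn.mp hc; exact hl k) _ _ _ h (e k) (List.mem_ofFn.mpr ⟨k, rfl⟩)
    have hk : ∃ k', e k' = e k := ⟨k, rfl⟩
    simp only [dif_pos hk] at this
    rwa [show hk.choose = k from he hk.choose_spec] at this
  rcases eq_or_indep D hA hB with rfl | hind
  · have hn : IsEmpty (Fin n) := ⟨fun k => by
      obtain ⟨h1, h2, h3⟩ := hij k
      rw [← add_smul] at h3
      have hdep : ¬ LinearIndependent ℤ ![D.P.root (e k), D.P.root α] := fun hL => by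
        have := (LinearIndependent.pair_iff.mp hL 1 (-((i k : ℤ) + j k)) (by
          rw [one_smul, neg_smul, h3, add_neg_cancel])).1
        omega
      have hlk := congrArg lam h3
      rw [map_zsmul, smul_eq_mul] at hlk
      rcases RootPairing.IsReduced.eq_or_eq_neg (e k) α hdep with h | h
      · rw [h] at hlk
        have : lam (D.P.root α) * 2 ≤ ((i k : ℤ) + j k) * lam (D.P.root α) := by
          rw [mul_comm]; exact mul_le_mul_of_nonneg_right (by omega) hA.le
        omega
      · have := hl k
        rw [h, map_neg] at this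
        omega⟩
    refine ⟨isEmptyElim, fun X x y => ?_, fun C' _ => funext isEmptyElim⟩
    have : n = 0 := Nat.eq_zero_of_not_pos fun hp => hn.false ⟨0, hp⟩
    subst this
    rw [List.ofFn_zero, List.prod_nil, mul_one, ← U_oneParam D (X := X) α, add_comm, U_oneParam D (X := X) α,
      mul_inv_cancel_right]
  have hαβ : α ≠ β := fun h => by have := hind 1 0 0 1 (by simp [h]); omega
  have hne : ∀ k, e k ≠ α ∧ e k ≠ β := fun k => by
    obtain ⟨h1, h2, h3⟩ := hij k
    simp only [natCast_zsmul] at h3
    constructor <;> intro h <;> rw [h] at h3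
    · have := hind 1 0 _ _ (by simpa using h3); omega
    · have := hind 0 1 _ _ (by simpa using h3); omega
  let ef : D.idx → Fin 2 → ℕ := fun d =>
    if d = α then ![1, 0] else if d = β then ![0, 1] else if h : ∃ k, e k = d then ![i h.choose, j h.choose] else 0
  have hefk : ∀ k, ef (e k) = ![i k, j k] := fun k => by
    have h : ∃ k', e k' = e k := ⟨k, rfl⟩
    simp only [ef, if_neg (hne k).1, if_neg (hne k).2, dif_pos h]
    rw [show h.choose = k from he h.choose_spec]
  let F : ∀ X : Over S, (Fin 2 → Γ(X.left, ⊤)) → (X ⟶ G) := fun X x =>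
    (U D X β (x 1))⁻¹ * (U D X α (x 0) * U D X β (x 1) * (U D X α (x 0))⁻¹)
  have hz : ∀ (X : Over S) (c : D.idx), U D X c 0 = 1 := fun X c => (U_oneParam D (X := X) c).zero
  have hF : IsWeighted D ![α, β] F :=
    { nat := fun X X' g x => by simp only [F, comp_mul', comp_inv', comp_U]
      equiv := fun X t x => by
        simp only [F, Matrix.cons_val_zero, Matrix.cons_val_one, ← conj_U]; group
      zero := fun X => by simp [F, hz] }
  obtain ⟨C, hC⟩ := (hasNormalForm D).exists_coord lam hgen 2 ![α, β] (Fin.forall_fin_two.mpr ⟨hA, hB⟩) F hF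
    (α :: β :: List.ofFn e)
    (by
      simp only [List.nodup_cons, List.mem_cons, List.mem_ofFn, List.nodup_ofFn, he, and_true, hαβ, false_or,
        not_exists]
      exact ⟨fun k h => (hne k).1 h, fun k h => (hne k).2 h⟩)
    (by
      simp only [List.mem_cons, List.mem_ofFn]
      rintro c (rfl | rfl | ⟨k, rfl⟩)
      · exact hA
      · exact hB
      · exact hl k) ef
    (fun d m hd => by
      simp only [Fin.sum_univ_two, Matrix.cons_val_zero, Matrix.cons_val_one] at hd
      have hm : ∀ p q : ℕ, m 0 = p → m 1 = q → m = ![p, q] := fun p q h0 h1 => funext (Fin.forall_fin_two.mpr ⟨h0, h1⟩)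
      have key : ∀ a : D.idx, (∀ t : ℕ, D.P.root d = t • D.P.root a → 0 < lam (D.P.root a) → t = 1 ∧ d = a) := by
        intro a t ht hpos
        have hdep : ¬ LinearIndependent ℤ ![D.P.root d, D.P.root a] := fun hL => by
          have := (LinearIndependent.pair_iff.mp hL 1 (-(t : ℤ)) (by
            rw [one_smul, neg_smul, natCast_zsmul, ht, add_neg_cancel])).1
          omega
        have hlt := congrArg lam ht
        rw [map_nsmul, nsmul_eq_mul] at hlt
        rcases RootPairing.IsReduced.eq_or_eq_neg d a hdep with h | h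
        · rw [h] at hlt
          have h1 : ((t : ℤ) - 1) * lam (D.P.root a) = 0 := by rw [sub_mul, one_mul, ← hlt, sub_self]
          rcases mul_eq_zero.mp h1 with h2 | h2
          · exact ⟨by omega, D.P.root.injective h⟩
          · omega
        · rw [h, map_neg] at hlt
          have : (0 : ℤ) ≤ t * lam (D.P.root a) := mul_nonneg (Int.natCast_nonneg _) hpos.le
          omega
      by_cases h1 : m 1 = 0
      · obtain ⟨ht, rfl⟩ := key α (m 0) (by simpa [h1] using hd) hA
        exact ⟨List.mem_cons_self, by simp [ef, hm 1 0 ht h1]⟩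
      by_cases h0 : m 0 = 0
      · obtain ⟨ht, rfl⟩ := key β (m 1) (by simpa [h0] using hd) hB
        exact ⟨List.mem_cons_of_mem _ List.mem_cons_self, by simp [ef, hαβ.symm, hm 0 1 h0 ht]⟩
      obtain ⟨k, rfl⟩ := hall d (m 0) (m 1) (by omega) (by omega) (by simpa using hd)
      obtain ⟨-, -, h3⟩ := hij k
      simp only [natCast_zsmul] at h3
      obtain ⟨e0, e1⟩ := hind _ _ _ _ (hd.symm.trans h3)
      exact ⟨List.mem_cons_of_mem _ (List.mem_cons_of_mem _ (List.mem_ofFn.mpr ⟨k, rfl⟩)), by rw [hefk, hm _ _ e0 e1]⟩)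
  have efa : ef α = ![1, 0] := if_pos rfl
  have efb : ef β = ![0, 1] := by simp [ef, hαβ.symm]
  have hsplit : ∀ (X : Over S) (x y : Γ(X.left, ⊤)), F X ![x, y] = U D X α (glob X (C α) * x) *
      (U D X β (glob X (C β) * y) * (List.ofFn fun k => U D X (e k) (glob X (C (e k)) * x ^ i k * y ^ j k)).prod) := by
    intro X x y
    simp only [hC X ![x, y], rootProd, List.map_cons, List.prod_cons, List.map_ofFn, Function.comp_def,
      Fin.prod_univ_two, Matrix.cons_val_zero, Matrix.cons_val_one, efa, efb, hefk, pow_one, pow_zero, mul_one, one_mul]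
    simp only [mul_assoc]
  have hp1 : ∀ k, i k ≠ 0 ∧ j k ≠ 0 := fun k => by obtain ⟨h1, h2, -⟩ := hij k; omega
  have hCa : ∀ X : Over S, glob X (C α) = 0 := fun X => by
    refine (hasNormalForm D).mono hgen hA ?_
    have h := hsplit X 1 0
    rw [List.prod_eq_one fun z hz' => ?_] at h
    · simp [F, hz] at h; rw [hz]; exact h.symm
    · obtain ⟨k, rfl⟩ := List.mem_ofFn.mp hz'
      simp [zero_pow (hp1 k).2, hz]
  have hCb : ∀ X : Over S, glob X (C β) = 0 := fun X => by
    refine (hasNormalForm D).mono hgen hB ?_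
    have h := hsplit X 0 1
    rw [List.prod_eq_one fun z hz' => ?_] at h
    · simp [F, hz] at h; rw [hz]; exact h.symm
    · obtain ⟨k, rfl⟩ := List.mem_ofFn.mp hz'
      simp [zero_pow (hp1 k).1, hz]
  refine ⟨fun k => C (e k), fun X x y => ?_, fun C' hC' => huniq _ _ ?_⟩
  · have h := hsplit X x y
    simp only [hCa, hCb, zero_mul, hz, one_mul, F, Matrix.cons_val_zero, Matrix.cons_val_one] at h
    rw [← h, mul_inv_cancel_left]
  · have h := hC' (𝟙_ (Over S)) 1 1
    have h2 := hsplit (𝟙_ (Over S)) 1 1
    simp only [hCa, hCb, zero_mul, hz, one_mul, F, Matrix.cons_val_zero, Matrix.cons_val_one] at h2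
    rw [h] at h2
    have g : ∀ c, glob (𝟙_ (Over S)) c = c := fun c => glob_self c
    simp only [one_pow, _root_.mul_one, inv_mul_cancel_left] at h2
    refine Eq.trans (congrArg List.prod (congrArg List.ofFn (funext fun k => congrArg (U D _ (e k)) (g _).symm))) (h2.trans ?_)
    exact congrArg List.prod (congrArg List.ofFn (funext fun k => congrArg (U D _ (e k)) (g _)))

end Groth.Agent.RedRk29
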