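import Groth.Agent.RedRk29.RankOneGlue
import Groth.Agent.Rank2Red38.Generate
import Groth.Agent.Rank2Red38.Scale
import Groth.Agent.RootData.Simple

/-!
# Rescaling a pinning so that opposite simple root groups are dual
-/

set_option autoImplicit false

open CategoryTheory MonoidalCategory CartesianMonoidalCategory AlgebraicGeometry
open scoped MonObj GrpObj

noncomputable section

namespace Groth.Agent.RedRk29

open Rank2Red38 GrpSchLib

universe u

variable {S : Scheme.{u}} {G : Over S} [GrpObj G] (D : Red.Pinning G)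

/-- The pinning with rescaled root homomorphisms. -/
def rescale (k : D.idx → Γ(S, ⊤)ˣ) : Red.Pinning G :=
  { D with
    u := fun c => scaleHom ((k c : Γ(S, ⊤))) ≫ D.u c
    rootHom := fun c => isRootHom_scale (k c).isUnit c }

theorem rescale_u (k : D.idx → Γ(S, ⊤)ˣ) (c : D.idx) : (rescale D k).u c = scaleHom ((k c : Γ(S, ⊤))) ≫ D.u c := rfl

/-- Some rescaling of the negative simple root groups makes every simple pair dual. -/
theorem exists_dual_rescale : ∃ k : D.idx → Γ(S, ⊤)ˣ,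
    ∀ a ∈ D.base.support, IsDual (rescale D k).toSplitRed a := by
  classical
  choose c hc using fun a => exists_isDualPair D.toSplitRed a
  let k : D.idx → Γ(S, ⊤)ˣ := fun b =>
    if D.P.reflectionPerm b b ∈ D.base.support then (c (D.P.reflectionPerm b b))⁻¹ else 1
  refine ⟨k, fun a ha X x y hxy => ?_⟩
  have hnn : D.P.reflectionPerm (D.P.reflectionPerm a a) (D.P.reflectionPerm a a) = a := by
    have hneg : ∀ j, D.P.root (D.P.reflectionPerm j j) = -D.P.root j := fun j => by
      rw [RootPairing.root_reflectionPerm, RootPairing.reflection_apply_self]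
    apply D.P.root.injective
    rw [hneg, hneg, neg_neg]
  have hkn : k (D.P.reflectionPerm a a) = (c a)⁻¹ := by simp only [k, hnn, if_pos ha]
  have hna : D.P.reflectionPerm a a ∉ D.base.support := fun h => by
    have hP := (RootData.Simple.of_base D.base).posOf_isPosSys
    exact hP.disjoint (RootData.root_mem_natSpan (Finset.mem_coe.mpr ha)) (RootData.root_mem_natSpan (Finset.mem_coe.mpr h))
  have hka : k a = 1 := if_neg hna
  let d : Γ(X.left, ⊤) := glob X ((c a : Γ(S, ⊤)))
  let d' : Γ(X.left, ⊤) := glob X ((c a)⁻¹ : Γ(S, ⊤)ˣ)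
  have hd : d * d' = 1 := by rw [← map_mul, Units.mul_inv, map_one]
  have hxy' : IsUnit (1 + X.hom.appTop.hom (c a : Γ(S, ⊤)) * Red.gaFn x * Red.gaFn (GaPts.ptOfFn (d' * Red.gaFn y))) := by
    rw [GaPts.gaFn_ptOfFn]
    convert hxy using 2
    show d * Red.gaFn x * (d' * Red.gaFn y) = Red.gaFn x * Red.gaFn y
    linear_combination (Red.gaFn x * Red.gaFn y) * hd
  obtain ⟨x', y', z, hz, hx', hy', h⟩ := hc a X x (GaPts.ptOfFn (d' * Red.gaFn y)) hxy'
  rw [GaPts.gaFn_ptOfFn] at hz hy'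
  change Red.gmFn z = 1 + d * Red.gaFn x * (d' * Red.gaFn y) at hz
  refine ⟨x', GaPts.ptOfFn (d * Red.gaFn y'), z, hz.trans ?_, hx', ?_, ?_⟩
  · linear_combination (Red.gaFn x * Red.gaFn y) * hd
  · rw [GaPts.gaFn_ptOfFn]
    linear_combination d * hy' + Red.gaFn y * hd
  · have ex : ∀ w : X ⟶ Red.Ga S, w ≫ scaleHom (((1 : Γ(S, ⊤)ˣ)) : Γ(S, ⊤)) = w := fun w => by
      rw [Units.val_one, scaleHom_one, Category.comp_id]
    have ey : ∀ w : X ⟶ Red.Ga S, w ≫ scaleHom (((c a)⁻¹ : Γ(S, ⊤)ˣ) : Γ(S, ⊤)) = GaPts.ptOfFn (d' * Red.gaFn w) :=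
      fun w => GaPts.gaFn_injective (by simp only [gaFn_scaleHom, GaPts.gaFn_ptOfFn]; rfl)
    have ey' : GaPts.ptOfFn (d * Red.gaFn y') ≫ scaleHom (((c a)⁻¹ : Γ(S, ⊤)ˣ) : Γ(S, ⊤)) = y' := by
      rw [ey, GaPts.gaFn_ptOfFn]
      exact GaPts.gaFn_injective (by simp only [GaPts.gaFn_ptOfFn]; linear_combination Red.gaFn y' * hd)
    change (x ≫ scaleHom (k a : Γ(S, ⊤)) ≫ D.u a) *
        (y ≫ scaleHom (k (D.P.reflectionPerm a a) : Γ(S, ⊤)) ≫ D.u (D.P.reflectionPerm a a)) =
      (GaPts.ptOfFn (d * Red.gaFn y') ≫ scaleHom (k (D.P.reflectionPerm a a) : Γ(S, ⊤)) ≫ D.u (D.P.reflectionPerm a a)) *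
        (z ≫ corootHom D.toSplitRed a ≫ D.i) * (x' ≫ scaleHom (k a : Γ(S, ⊤)) ≫ D.u a)
    rw [hka, hkn]
    simp only [← Category.assoc, ex, ey', ey y]
    simpa only [Category.assoc, corootHom, negIdx] using h

variable {H : Over S} [GrpObj H]

/-- Homomorphisms agreeing on the torus and on the root groups of the simple roots and their opposites are equal. -/
theorem hom_ext_simple (f g : G ⟶ H) [IsMonHom f] [IsMonHom g] (hT : D.i ≫ f = D.i ≫ g)
    (hU : ∀ a ∈ D.base.support, D.u a ≫ f = D.u a ≫ g ∧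
      D.u (D.P.reflectionPerm a a) ≫ f = D.u (D.P.reflectionPerm a a) ≫ g) : f = g := by
  obtain ⟨k, hk⟩ := exists_dual_rescale D
  have e1 : ∀ (a : D.idx), a ∈ D.base.support → (rescale D k).u a ≫ f = (rescale D k).u a ≫ g := fun a ha => by
    rw [rescale_u, Category.assoc, (hU a ha).1, Category.assoc]
  have e2 : ∀ (a : D.idx), a ∈ D.base.support → (rescale D k).u (D.P.reflectionPerm a a) ≫ f =
      (rescale D k).u (D.P.reflectionPerm a a) ≫ g := fun a ha => by
    rw [rescale_u, Category.assoc, (hU a ha).2, Category.assoc]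
  refine hom_ext_pinned (D := rescale D k) hk hT (fun a ha => e1 a ha) (fun a ha X => ?_)
  · have h1 : ∀ x : Γ(X.left, ⊤), U (rescale D k).toSplitRed X a x ≫ f = U (rescale D k).toSplitRed X a x ≫ g :=
      fun x => by simp only [U, Category.assoc]; exact congrArg (GaPts.ptOfFn x ≫ ·) (e1 a ha)
    have h2 : ∀ x : Γ(X.left, ⊤), U (rescale D k).toSplitRed X (D.P.reflectionPerm a a) x ≫ f =
        U (rescale D k).toSplitRed X (D.P.reflectionPerm a a) x ≫ g := fun x => by
      simp only [U, Category.assoc]; exact congrArg (GaPts.ptOfFn x ≫ ·) (e2 a ha)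
    show weylElt _ _ ≫ f = weylElt _ _ ≫ g
    simp only [weylElt, MonObj.mul_comp, GrpObj.inv_comp]
    rw [h1 1, show U (rescale D k).toSplitRed X (neg' (rescale D k).toSplitRed a) 1 ≫ f = _ from h2 1]
    rfl

end Groth.Agent.RedRk29
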