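import Groth.Agent.RedRk29.BruhatGroup
import Groth.Agent.RedRk29.Commutator
import Groth.Agent.RedRk29.DualPinning
import Groth.Agent.RedSub30.ClosedProd
import Groth.Agent.RedSub30.ProdGroup
import Groth.Agent.Rank2Red38.DSVal
import Groth.Agent.RootData.Weyl
import Groth.Agent.RootData.Facts

/-!
# The Bruhat covering of the points over a field
-/

set_option autoImplicit false

open CategoryTheory MonoidalCategory CartesianMonoidalCategory AlgebraicGeometry
open scoped MonObj GrpObj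

noncomputable section

namespace Groth.Agent.RedRk29

open Rank2Red38 GrpSchLib RedSub30.RootPoly

universe u

variable {S : Scheme.{u}} {G : Over S} [GrpObj G] (D : Red.SplitRed G)

/-- The torus point moved by a reflection. -/
def reflT (X : Over S) (a : D.idx) (t : X ⟶ D.T) : X ⟶ D.T :=
  t * (av D X a (rootVal D X a t))⁻¹

theorem dsVal_zsmul {M : Type} [AddCommGroup M] {X : Over S} (t : X ⟶ Red.DS S M) {m : M} {v : Γ(X.left, ⊤)ˣ}
    (hv : (v : Γ(X.left, ⊤)) = dsVal t m) (n : M) :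
    ∀ k : ℤ, dsVal t (n + k • m) = dsVal t n * ((v ^ k : Γ(X.left, ⊤)ˣ) : Γ(X.left, ⊤)) := by
  intro k
  induction k with
  | zero => simp
  | succ k ih =>
    rw [show n + ((k : ℤ) + 1) • m = n + (k : ℤ) • m + m by module, dsVal_add, ih, ← hv, zpow_add_one, Units.val_mul,
      mul_assoc]
  | pred k ih =>
    rw [show n + (-(k : ℤ)) • m = n + ((-(k : ℤ)) - 1) • m + m by module, dsVal_add, ← hv] at ih
    rw [zpow_sub_one, Units.val_mul, ← mul_assoc, ← ih, Units.mul_inv_cancel_right]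

/-- The reflection of the torus in terms of a coroot. -/
theorem refl_torus (X : Over S) (a : D.idx) (t : X ⟶ D.T) :
    t ≫ D.split.hom.hom.hom ≫ Red.DSmap S (D.P.reflection a).toLinearMap.toAddMonoidHom ≫ D.split.inv.hom.hom ≫ D.i =
      I D X (reflT D X a t) := by
  show _ = reflT D X a t ≫ D.i
  suffices h : t ≫ D.split.hom.hom.hom ≫ Red.DSmap S (D.P.reflection a).toLinearMap.toAddMonoidHom ≫ D.split.inv.hom.hom =
      reflT D X a t by
    rw [← h]; simp only [Category.assoc]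
  have hid : D.split.inv.hom.hom ≫ D.split.hom.hom.hom = 𝟙 _ := congrArg (fun k => k.hom.hom) D.split.inv_hom_id
  have hid' : D.split.hom.hom.hom ≫ D.split.inv.hom.hom = 𝟙 _ := congrArg (fun k => k.hom.hom) D.split.hom_inv_id
  suffices h : t ≫ D.split.hom.hom.hom ≫ Red.DSmap S (D.P.reflection a).toLinearMap.toAddMonoidHom =
      reflT D X a t ≫ D.split.hom.hom.hom by
    have h2 := congrArg (· ≫ D.split.inv.hom.hom) h
    simp only [Category.assoc, hid', Category.comp_id] at h2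
    exact h2
  refine ds_ext fun m => ?_
  rw [← Category.assoc, dsVal_map]
  haveI : IsMonHom D.split.hom.hom.hom := D.split.hom.hom.isMonHom_hom
  haveI : IsMonHom (Red.chi S m) := S5427.isMonHom_DSmap S _
  have hm : (reflT D X a t) ≫ D.split.hom.hom.hom = (t ≫ D.split.hom.hom.hom) *
      ((av D X a ((rootVal D X a t)⁻¹)) ≫ D.split.hom.hom.hom) := by
    rw [reflT, ← map_inv]
    exact MonObj.mul_comp _ _ _
  rw [hm, dsVal_mul]
  have e : av D X a ((rootVal D X a t)⁻¹) ≫ D.split.hom.hom.hom =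
      (GmPts.ptOfUnit ((rootVal D X a t)⁻¹) : X ⟶ Red.Gm S) ≫ Red.DSmap S (D.P.coroot a).toAddMonoidHom := by
    show (GmPts.ptOfUnit _ ≫ corootHom D a) ≫ D.split.hom.hom.hom = _
    simp only [corootHom, Category.assoc, hid, Category.comp_id]
  rw [e, dsVal_map, dsVal_gm, GmPts.unitOfPt_ptOfUnit]
  have h : (D.P.reflection a).toLinearMap.toAddMonoidHom m = m + (-(D.P.coroot' a m)) • D.P.root a := by
    show D.P.reflection a m = _
    rw [RootPairing.reflection_apply, neg_smul, sub_eq_add_neg]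
  have hc : (D.P.coroot a).toAddMonoidHom m = D.P.coroot' a m := by
    show D.P.coroot a m = D.P.toLinearMap.flip (D.P.coroot a) m
    rw [LinearMap.flip_apply, D.pairing_eq]; rfl
  rw [h, hc, dsVal_zsmul _ (v := rootVal D X a t) (rootVal_apply D a t), ← inv_zpow', ]

variable {nr : D.idx → (𝟙_ (Over S) ⟶ G)} (hnr : RedSub.RealisesReflections D nr)

include hnr in
theorem conj_torus (a : D.idx) (X : Over S) (t : X ⟶ D.T) :
    (toUnit X ≫ nr a) * I D X t * (toUnit X ≫ nr a)⁻¹ = I D X (reflT D X a t) :=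
  (hnr a X t).trans (refl_torus D X a t)

theorem reflT_reflT (X : Over S) (a : D.idx) (t : X ⟶ D.T) : reflT D X a (reflT D X a t) = t := by
  have h : rootVal D X a (reflT D X a t) = (rootVal D X a t)⁻¹ := by
    rw [reflT, map_mul, map_inv, rootVal_av, D.P.pairing_same, zpow_ofNat, pow_two, mul_inv_rev, mul_inv_cancel_left]
  show reflT D X a t * (av D X a (rootVal D X a (reflT D X a t)))⁻¹ = t
  rw [h, map_inv, inv_inv, reflT, inv_mul_cancel_right]

theorem exists_generic_pos (c : D.idx) : ∃ lam : Module.Dual ℤ D.M, IsGeneric D lam ∧ 0 < lam (D.P.root c) := by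
  obtain ⟨lam, h1, h2⟩ := exists_perturb (D.P.coroot' c).toAddMonoidHom (Set.finite_range D.P.root)
  refine ⟨lam.toIntLinearMap, fun d => h1 _ ⟨d, rfl⟩ (D.P.ne_zero d), h2 _ ⟨c, rfl⟩ ?_⟩
  show 0 < D.P.coroot' c (D.P.root c)
  rw [RootPairing.root_coroot'_eq_pairing, D.P.pairing_same]; norm_num

theorem red1 [Nonempty S] (d : D.idx) : Red1 D d := fun e k h => by
  haveI := isReduced (D := D)
  have hdep : ¬ LinearIndependent ℤ ![D.P.root e, D.P.root d] := fun hL => by
    have := (LinearIndependent.pair_iff.mp hL 1 (-(k : ℤ)) (by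
      rw [one_smul, neg_smul, natCast_zsmul, h, add_neg_cancel])).1
    omega
  rw [← natCast_zsmul] at h
  have hd := congrArg (D.P.coroot' d) h
  simp only [map_zsmul, RootPairing.root_coroot'_eq_pairing, RootPairing.pairing_same, smul_eq_mul] at hd
  rcases RootPairing.IsReduced.eq_or_eq_neg e d hdep with h' | h'
  · have h2 := congrArg (D.P.coroot' d) h'
    simp only [RootPairing.root_coroot'_eq_pairing, RootPairing.pairing_same] at h2
    omega
  · have h2 := congrArg (D.P.coroot' d) h'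
    simp only [map_neg, RootPairing.root_coroot'_eq_pairing, RootPairing.pairing_same] at h2
    omega

include hnr in
/-- A point inducing a reflection moves the root groups accordingly. -/
theorem conj_root [Nonempty S] (a d : D.idx) : ∃ k : Γ(S, ⊤), ∀ (X : Over S) (x : Γ(X.left, ⊤)),
    (toUnit X ≫ nr a) * U D X d x * (toUnit X ≫ nr a)⁻¹ = U D X (D.P.reflectionPerm a d) (glob X k * x) := by
  set d' := D.P.reflectionPerm a d
  obtain ⟨lam, hgen, hpos⟩ := exists_generic_pos D d'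
  have hw : IsWeighted D (fun _ : Fin 1 => d')
      (fun X x => (toUnit X ≫ nr a) * U D X d (x 0) * (toUnit X ≫ nr a)⁻¹) := by
    refine ⟨fun X X' g x => ?_, fun X t x => ?_, fun X => ?_⟩
    · simp only [comp_mul', comp_inv', comp_U, ← Category.assoc, toUnit_unique (g ≫ toUnit X) (toUnit X')]
    · have e : (toUnit X ≫ nr a) * I D X (reflT D X a t) * (toUnit X ≫ nr a)⁻¹ = I D X t := by
        rw [conj_torus D hnr, reflT_reflT]
      calc I D X t * ((toUnit X ≫ nr a) * U D X d (x 0) * (toUnit X ≫ nr a)⁻¹) * (I D X t)⁻¹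
          = (toUnit X ≫ nr a) * (I D X (reflT D X a t) * U D X d (x 0) * (I D X (reflT D X a t))⁻¹) *
              (toUnit X ≫ nr a)⁻¹ := by rw [← e]; group
        _ = _ := by rw [conj_U, reflT, ← rootVal_reflect]
    · simp [(U_oneParam D d).zero]
  obtain ⟨C, hC⟩ := (hasNormalForm D).exists_coord lam hgen 1 (fun _ => d') (fun _ => hpos) _ hw [d'] (List.nodup_singleton _)
    (by simpa using hpos) (fun _ _ => 1) fun e m hm => by
      rw [Fin.sum_univ_one] at hm
      have h1 : m 0 = 1 := red1 D d' e (m 0) hm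
      rw [h1, one_smul] at hm
      exact ⟨by simp [D.P.root.injective hm], funext fun k => by rw [Subsingleton.elim k 0, h1]⟩
  exact ⟨C d', fun X x => by simpa [rootProd] using hC X (fun _ => x)⟩

variable (X : Over S)

/-- The root subgroup at `X`. -/
def rootSub (c : D.idx) : Subgroup (X ⟶ G) where
  carrier := {g | ∃ x, U D X c x = g}
  one_mem' := ⟨0, (U_oneParam D c).zero⟩
  mul_mem' := by rintro _ _ ⟨x, rfl⟩ ⟨y, rfl⟩; exact ⟨x + y, U_oneParam D c x y⟩
  inv_mem' := by
    rintro _ ⟨x, rfl⟩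
    refine ⟨-x, eq_inv_of_mul_eq_one_left ?_⟩
    rw [← U_oneParam D (X := X) c, neg_add_cancel, (U_oneParam D c).zero]

variable (b : D.P.Base)

theorem simple_base : RootData.Simple D.P (b.support : Set D.idx) := RootData.Simple.of_base b

/-- The points of the products of root groups along a closed positive list. -/
def prodSub {lam : Module.Dual ℤ D.M} {l : List D.idx} (hl : IsPosClosed D lam l) : Subgroup (X ⟶ G) where
  carrier := {g | InProd D X l g}
  one_mem' := hl.one
  mul_mem' := hl.mul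
  inv_mem' := hl.inv

theorem split_pos (Q : D.idx → Prop) {g : X ⟶ G}
    (hg : g ∈ ⨆ (c : D.idx) (_ : c ∈ RedSub.posRoots D.P b), rootSub D X c) :
    ∃ p ∈ ⨆ (c : D.idx) (_ : c ∈ RedSub.posRoots D.P b) (_ : Q c), rootSub D X c,
      ∃ q ∈ ⨆ (c : D.idx) (_ : c ∈ RedSub.posRoots D.P b) (_ : ¬ Q c), rootSub D X c, g = p * q := by
  classical
  obtain ⟨lam, hgen, hlam⟩ := exists_form_posRoots D b
  let Ψ := Finset.univ.filter fun c => c ∈ RedSub.posRoots D.P b
  let l := (Ψ.filter Q).toList ++ (Ψ.filter fun c => ¬ Q c).toList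
  have hm : ∀ c, c ∈ l ↔ c ∈ RedSub.posRoots D.P b := fun c => by
    simp only [l, Ψ, List.mem_append, Finset.mem_toList, Finset.mem_filter, Finset.mem_univ, true_and]
    by_cases h : Q c <;> simp [h]
  have hl : IsPosClosed D lam l :=
    { nodup := List.nodup_append.mpr ⟨Finset.nodup_toList _, Finset.nodup_toList _, fun x hx y hy hxy =>
        (Finset.mem_filter.mp (Finset.mem_toList.mp hy)).2 (hxy ▸ (Finset.mem_filter.mp (Finset.mem_toList.mp hx)).2)⟩
      pos := fun c hc => hlam c ((hm c).mp hc)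
      closed := fun i j k hi hj hk => (hm k).mpr (by
        show D.P.root k ∈ AddSubmonoid.closure _
        exact hk ▸ add_mem ((hm i).mp hi) ((hm j).mp hj)) }
  obtain ⟨z, rfl⟩ : InProd D X l g :=
    (iSup₂_le fun c hc => by rintro _ ⟨x, rfl⟩; exact hl.U_mem ((hm c).mpr hc) x :
      (⨆ (c : D.idx) (_ : c ∈ RedSub.posRoots D.P b), rootSub D X c) ≤ prodSub D X hl) hg
  rw [rootProd, List.map_append, List.prod_append]
  refine ⟨_, list_prod_mem fun y hy => ?_, _, list_prod_mem fun y hy => ?_, rfl⟩ <;>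
    · obtain ⟨c, hc, rfl⟩ := List.mem_map.mp hy
      simp only [Ψ, Finset.mem_toList, Finset.mem_filter, Finset.mem_univ, true_and] at hc
      exact Subgroup.mem_iSup_of_mem c (Subgroup.mem_iSup_of_mem hc.1 (Subgroup.mem_iSup_of_mem hc.2 ⟨_, rfl⟩))

theorem comm_simple [Nonempty S] {a c : D.idx} (ha : a ∈ b.support) (hc : c ∈ RedSub.posRoots D.P b) (hca : c ≠ a)
    (x y : Γ(X.left, ⊤)) : U D X a x * U D X c y * (U D X a x)⁻¹ ∈
      ⨆ (d : D.idx) (_ : d ∈ RedSub.posRoots D.P b) (_ : d ≠ a), rootSub D X d := by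
  classical
  haveI := isReduced (D := D)
  obtain ⟨lam, hgen, hlam⟩ := exists_form_posRoots D b
  have hΔ := simple_base D b
  have hap : a ∈ RedSub.posRoots D.P b := hΔ.subset_posOf (Finset.mem_coe.mpr ha)
  let s := Finset.univ.filter fun d : D.idx =>
    ∃ p q : ℕ, 1 ≤ p ∧ 1 ≤ q ∧ D.P.root d = (p : ℤ) • D.P.root a + (q : ℤ) • D.P.root c
  let e : Fin s.card → D.idx := fun k => (s.equivFin.symm k : D.idx)
  have he : Function.Injective e := Subtype.val_injective.comp s.equivFin.symm.injective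
  have hs : ∀ k, ∃ p q : ℕ, 1 ≤ p ∧ 1 ≤ q ∧ D.P.root (e k) = (p : ℤ) • D.P.root a + (q : ℤ) • D.P.root c :=
    fun k => (Finset.mem_filter.mp (s.equivFin.symm k).2).2
  choose i j hi hj hij using hs
  obtain ⟨C, hC, -⟩ := exists_comm D b hap hc e i j he (fun k => ⟨hi k, hj k, hij k⟩) fun d p q hp hq h =>
    ⟨s.equivFin ⟨d, Finset.mem_filter.mpr ⟨Finset.mem_univ _, p, q, hp, hq, h⟩⟩, by simp [e]⟩
  rw [hC X x y]
  refine mul_mem (Subgroup.mem_iSup_of_mem c (Subgroup.mem_iSup_of_mem hc (Subgroup.mem_iSup_of_mem hca ⟨_, rfl⟩)))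
    (list_prod_mem fun g hg => ?_)
  obtain ⟨k, rfl⟩ := List.mem_ofFn.mp hg
  refine Subgroup.mem_iSup_of_mem (e k) (Subgroup.mem_iSup_of_mem ?_ (Subgroup.mem_iSup_of_mem ?_ ⟨_, rfl⟩))
  · show D.P.root (e k) ∈ AddSubmonoid.closure _
    rw [hij k, natCast_zsmul, natCast_zsmul]
    exact add_mem (nsmul_mem hap _) (nsmul_mem hc _)
  · intro hk
    have h3 := hij k
    rw [hk] at h3
    rcases eq_or_indep D (hlam a hap) (hlam c hc) with h | h
    · exact hca h.symm
    · have := h 1 0 (i k) (j k) (by simpa using h3)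
      have := hj k
      omega

theorem pos_refl [Nonempty S] {a c : D.idx} (ha : a ∈ b.support) (hc : c ∈ RedSub.posRoots D.P b) (hca : c ≠ a) :
    D.P.reflectionPerm a c ∈ RedSub.posRoots D.P b ∧ D.P.reflectionPerm a c ≠ a := by
  haveI := isReduced (D := D)
  have hΔ := simple_base D b
  refine ⟨hΔ.refl_pos (Finset.mem_coe.mpr ha) hc ?_, fun h => ?_⟩
  · by_contra! h
    exact hca (hΔ.eq_of_pos_multiple (Finset.mem_coe.mpr ha) hc (RootData.isIndiv_of_reduced c) h)
  · have hc' : c = D.P.reflectionPerm a a := by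
      have := D.P.reflectionPerm_self a c
      rw [h] at this
      exact this.symm
    exact hΔ.refl_self_notMem (Finset.mem_coe.mpr ha) (hc' ▸ hc)

theorem reach_simple [Nonempty S] (c : D.idx) :
    ∃ (l : List D.idx) (a : D.idx), (∀ d ∈ l, d ∈ b.support) ∧ a ∈ b.support ∧
      (l.map D.P.reflectionPerm).prod a = c := by
  haveI := isReduced (D := D)
  have hΔ := simple_base D b
  obtain ⟨g, hg, a, ha, rfl⟩ := hΔ.indiv_conj (RootData.isIndiv_of_reduced c)
  rw [← hΔ.gen_eq_weylGroup] at hg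
  obtain ⟨l, hl, rfl⟩ := RootData.exists_word hg
  refine ⟨l, a, fun d hd => Finset.mem_coe.mp (hl d hd), Finset.mem_coe.mp ha, ?_⟩
  clear hl hg
  induction l with
  | nil => simp [RootData.word]
  | cons d l ih =>
    rw [List.map_cons, List.prod_cons, Equiv.Perm.mul_apply, ih, RootData.word_cons, mul_smul, RootData.refl_smul_idx]

variable (hfield : ∀ x : Γ(X.left, ⊤), x ≠ 0 → IsUnit x)
variable (hZ : ∀ g : X ⟶ G, (∀ t, g * I D X t = I D X t * g) → ∃ t, g = I D X t)

include hnr hfield hZ in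
theorem rank_one [Nonempty S] {a : D.idx} (ha : a ∈ b.support) {g : X ⟶ G}
    (hg : g ∈ rootSub D X (D.P.reflectionPerm a a)) (hg1 : g ≠ 1) :
    ∃ x₁ ∈ rootSub D X a, ∃ t ∈ (I D X).range, ∃ x₂ ∈ rootSub D X a, g = x₁ * t * (toUnit X ≫ nr a) * x₂ := by
  let D' : Red.Pinning G := { D with base := b }
  obtain ⟨k, hk⟩ := exists_dual_rescale D'
  set E := rescale D' k
  have hda : IsDual E.toSplitRed a := hk a ha
  have hU : ∀ (c : D.idx) (x : Γ(X.left, ⊤)), U E.toSplitRed X c x = U D X c (glob X (k c : Γ(S, ⊤)) * x) := by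
    intro c x
    show GaPts.ptOfFn x ≫ scaleHom (k c : Γ(S, ⊤)) ≫ D.u c = GaPts.ptOfFn _ ≫ D.u c
    rw [← Category.assoc]
    exact congrArg (· ≫ D.u c) (GaPts.gaFn_injective (by simp only [gaFn_scaleHom, GaPts.gaFn_ptOfFn]))
  have hgen : ∀ (c : D.idx) (x : Γ(X.left, ⊤)), U E.toSplitRed X c x ∈ rootSub D X c := fun c x => ⟨_, (hU c x).symm⟩
  -- the Weyl element differs from the chosen point by the torus
  obtain ⟨τ, hτ⟩ : ∃ τ, W E.toSplitRed X a * (toUnit X ≫ nr a)⁻¹ = I D X τ := by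
    refine hZ _ fun t => ?_
    have h2 : W E.toSplitRed X a * I D X (reflT D X a t) * (W E.toSplitRed X a)⁻¹ = I D X t :=
      (W_conj_torus E.toSplitRed hda (reflT D X a t)).trans (congrArg (I D X) (reflT_reflT D X a t))
    have h3 : (toUnit X ≫ nr a) * I D X (reflT D X a t) * (toUnit X ≫ nr a)⁻¹ = I D X t := by
      rw [conj_torus D hnr, reflT_reflT]
    calc W E.toSplitRed X a * (toUnit X ≫ nr a)⁻¹ * I D X t
        = W E.toSplitRed X a * (toUnit X ≫ nr a)⁻¹ *
            ((toUnit X ≫ nr a) * I D X (reflT D X a t) * (toUnit X ≫ nr a)⁻¹) := by rw [h3]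
      _ = (W E.toSplitRed X a * I D X (reflT D X a t) * (W E.toSplitRed X a)⁻¹) *
            (W E.toSplitRed X a * (toUnit X ≫ nr a)⁻¹) := by group
      _ = _ := by rw [h2]
  obtain ⟨y, rfl⟩ := hg
  obtain ⟨kinv, hkinv⟩ : ∃ w : Γ(X.left, ⊤), glob X (k (D.P.reflectionPerm a a) : Γ(S, ⊤)) * w = 1 :=
    ⟨glob X ((k (D.P.reflectionPerm a a))⁻¹ : Γ(S, ⊤)ˣ), by rw [← map_mul, Units.mul_inv, map_one]⟩
  have hy : U D X (D.P.reflectionPerm a a) y = U E.toSplitRed X (D.P.reflectionPerm a a) (kinv * y) := by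
    rw [hU, ← mul_assoc, hkinv, one_mul]
  have hy0 : kinv * y ≠ 0 := fun h => hg1 (by rw [hy, h]; exact (U_oneParam E.toSplitRed _).zero)
  obtain ⟨z, hz⟩ := hfield _ hy0
  set Φ := sys E.toSplitRed X hda
  have hm : Φ.m (kinv * y) = Φ.p (-((-z⁻¹ : Γ(X.left, ⊤)ˣ) : Γ(X.left, ⊤))) * Φ.w (-z⁻¹) *
      Φ.p (-((-z⁻¹ : Γ(X.left, ⊤)ˣ) : Γ(X.left, ⊤))) := by
    simp only [RankOne.Sys.w, Φ.p_neg, inv_neg, inv_inv, Units.val_neg, neg_neg, hz]
    group
  have hw : Φ.w (-z⁻¹) = I D X (av D X a (-z⁻¹) * τ) * (toUnit X ≫ nr a) := by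
    have h1 := Φ.w_mul (-z⁻¹) 1
    rw [mul_one, ← W_eq_w E.toSplitRed X hda] at h1
    rw [h1, map_mul, mul_assoc, ← hτ, inv_mul_cancel_right]
    rfl
  refine ⟨Φ.p (-((-z⁻¹ : Γ(X.left, ⊤)ˣ) : Γ(X.left, ⊤))), hgen a _, I D X (av D X a (-z⁻¹) * τ), ⟨_, rfl⟩,
    Φ.p (-((-z⁻¹ : Γ(X.left, ⊤)ˣ) : Γ(X.left, ⊤))), hgen a _, ?_⟩
  rw [hy]
  refine (show U E.toSplitRed X (D.P.reflectionPerm a a) (kinv * y) = Φ.m (kinv * y) from rfl).trans ?_
  rw [hm, hw]
  group

/-- The torus, root subgroups and simple reflection points over a field. -/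
def bnData [Nonempty S] : BNData (X ⟶ G) D.idx where
  T := (I D X).range
  U := rootSub D X
  pos c := c ∈ RedSub.posRoots D.P b
  simple a := a ∈ b.support
  neg c := D.P.reflectionPerm c c
  n a := toUnit X ≫ nr a
  s := D.P.reflectionPerm
  s_self _ _ := rfl
  s_inv a c := D.P.reflectionPerm_self a c
  s_pos _ _ ha hc hca := pos_refl D b ha hc hca
  neg_iff _ := (simple_base D b).neg_mem_posOf_iff
  s_neg a c := D.P.root.injective (by
    rw [RootData.root_neg, RootPairing.root_reflectionPerm, RootData.root_neg, map_neg,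
      RootPairing.root_reflectionPerm])
  simple_pos a ha := (simple_base D b).subset_posOf (Finset.mem_coe.mpr ha)
  reach := reach_simple D b
  T_norm := by
    rintro c _ ⟨t, rfl⟩ _ ⟨x, rfl⟩
    exact ⟨_, (conj_U D c t x).symm⟩
  n_T := by
    rintro a - _ ⟨t, rfl⟩
    exact ⟨_, (conj_torus D hnr a X t).symm⟩
  n_U := by
    rintro a c - _ ⟨x, rfl⟩
    obtain ⟨k, hk⟩ := conj_root D hnr a c
    exact ⟨_, (hk X x).symm⟩
  n_sq := fun a _ => by
    refine (hZ _ fun t => ?_).imp fun t ht => ht.symm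
    calc (toUnit X ≫ nr a) * (toUnit X ≫ nr a) * I D X t
        = (toUnit X ≫ nr a) * ((toUnit X ≫ nr a) * I D X t * (toUnit X ≫ nr a)⁻¹) * (toUnit X ≫ nr a)⁻¹ *
            ((toUnit X ≫ nr a) * (toUnit X ≫ nr a)) := by group
      _ = _ := by rw [conj_torus D hnr, conj_torus D hnr, reflT_reflT]
  split Q _ hu := split_pos D X b Q hu
  conj_Ua := by
    rintro a c ha hc hca _ ⟨x, rfl⟩ _ ⟨y, rfl⟩
    exact comm_simple D X b ha hc hca x y
  rankOne := fun _ ha _ hy hy1 => rank_one D hnr X b hfield hZ ha hy hy1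

end Groth.Agent.RedRk29
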