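import Groth.Agent.RedRk29.RankOneGeom

/-!
# Gluing the scalar of a pair of opposite root groups
-/

set_option autoImplicit false

universe u

open CategoryTheory CategoryTheory.Limits MonoidalCategory CartesianMonoidalCategory AlgebraicGeometry Opposite
open TopologicalSpace
open TensorProduct WithConv
open scoped AddMonoidAlgebra MonObj

namespace Groth.Agent.RedRk29

open BigCell29

variable {S : Scheme.{u}} {G : Over S} [GrpObj G] (D : Red.SplitRed G) (a : D.idx)

/-- The dual pair relation over a piece of the base with a scalar. -/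
def DualAt {R : Type u} [CommRing R] (f : Spec (CommRingCat.of R) ⟶ S) (c : R) : Prop :=
  ∀ (B : Type u) [CommRing B] [Algebra R B] (x y : B) (v : Bˣ), (v : B) = 1 + algebraMap R B c * x * y →
    rtG (f := f) D a x * rtG D (negIdx D a) y =
      rtG D (negIdx D a) (y * ↑v⁻¹) * torG D (zchar (D.P.coroot' a).toAddMonoidHom v) * rtG D a (x * ↑v⁻¹)

variable {R : Type u} [CommRing R] {f : Spec (CommRingCat.of R) ⟶ S}

theorem nonempty_or_subsingleton (f : Spec (CommRingCat.of R) ⟶ S) : Nonempty S ∨ Subsingleton R := by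
  rcases subsingleton_or_nontrivial R with h | h
  · exact Or.inr h
  · exact Or.inl ⟨f.base (Classical.choice (inferInstanceAs (Nonempty (PrimeSpectrum R))))⟩

include D in
theorem subsingleton_hom [IsOpenImmersion f] [Subsingleton R] (B : Type u) [CommRing B] [Algebra R B] :
    Subsingleton (tObj f B ⟶ G) := by
  haveI : Subsingleton B := Module.subsingleton R B
  haveI : IsAffineHom G.hom := D.reductive.1
  obtain ⟨A, _, _, ⟨Md⟩⟩ := exists_model (R := R) f G
  haveI : Subsingleton (Pt R A B) := ⟨fun g h => pt_ext fun _ => Subsingleton.elim _ _⟩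
  exact (Md.pt_bijective (B := B)).surjective.subsingleton

theorem exists_dualAt [IsOpenImmersion f] : ∃ c : Rˣ, DualAt D a f c := by
  rcases nonempty_or_subsingleton f with h | h
  · exact exists_ring_dual D a
  · exact ⟨1, fun B _ _ x y v _ => (subsingleton_hom D B).elim _ _⟩

theorem DualAt.unique [IsOpenImmersion f] {c c' : R} (h : DualAt D a f c) (h' : DualAt D a f c') : c = c' := by
  rcases nonempty_or_subsingleton f with hS | hS
  swap
  · exact Subsingleton.elim _ _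
  haveI : IsAffineHom G.hom := D.reductive.1
  obtain ⟨A, _, _, ⟨Md⟩⟩ := exists_model (R := R) f G
  obtain ⟨n0, hn0⟩ := exists_isReflPt D a
  set d := reflOf D a Md (F := Md.frame D) (frame_pre D Md) hn0
  have key : ∀ c : R, DualAt D a f c → d.DualRel (D.P.coroot' a).toAddMonoidHom c := fun c hc B _ _ x y v hv =>
    Md.pt_bijective.injective (by
      rw [Md.pt_mul, Md.pt_mul, Md.pt_mul, pt_rtF D Md (F := Md.frame D) (frame_pre D Md),
        pt_rtF D Md (F := Md.frame D) (frame_pre D Md), pt_rtF D Md (F := Md.frame D) (frame_pre D Md),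
        pt_rtF D Md (F := Md.frame D) (frame_pre D Md), pt_torF D Md (F := Md.frame D) (frame_pre D Md)]
      exact hc B x y v hv)
  exact d.dualRel_unique (key c h) (key c' h')

theorem DualAt.map {c : R} (h : DualAt D a f c) {R' : Type u} [CommRing R'] (φ : R →+* R')
    {f' : Spec (CommRingCat.of R') ⟶ S} (hf : Spec.map (CommRingCat.ofHom φ) ≫ f = f') :
    DualAt D a f' (φ c) := by
  intro B _ _ x y v hv
  letI : Algebra R B := ((algebraMap R' B).comp φ).toAlgebra
  have e : Spec.map (CommRingCat.ofHom (algebraMap R' B)) ≫ f' =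
      Spec.map (CommRingCat.ofHom (algebraMap R B)) ≫ f := by
    rw [← hf, ← Category.assoc, ← Spec.map_comp, ← CommRingCat.ofHom_comp]
  have h2 := congrArg (fun q => tCongr e ≫ q) (h B x y v hv)
  simpa only [MonObj.comp_mul, tCongr_rtG, tCongr_torG] using h2

theorem fromSpec_appTop_hom {U : S.Opens} (hU : IsAffineOpen U) :
    hU.fromSpec.appTop ≫ (Scheme.ΓSpecIso Γ(S, U)).hom = S.presheaf.map (homOfLE le_top).op := by
  have h : hU.fromSpec.appTop = U.ι.appTop ≫ hU.isoSpec.inv.appTop := by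
    rw [← Scheme.Hom.comp_appTop]; rfl
  rw [h, IsAffineOpen.isoSpec_inv_appTop, Category.assoc, Category.assoc, Iso.inv_hom_id, Category.comp_id,
    Scheme.Opens.ι_appTop, Scheme.Opens.topIso_hom]
  exact (S.presheaf.map_comp _ _).symm

/-- The scalar of a pair of opposite root groups is a global unit. -/
theorem exists_glob_dual : ∃ c : Γ(S, ⊤)ˣ, ∀ (R : Type u) [CommRing R] (f : Spec (CommRingCat.of R) ⟶ S)
    [IsOpenImmersion f], DualAt D a f ((f.appTop ≫ (Scheme.ΓSpecIso (CommRingCat.of R)).hom).hom (c : Γ(S, ⊤))) := by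
  classical
  haveI hinst : ∀ U : S.affineOpens, IsOpenImmersion U.2.fromSpec := fun U => U.2.isOpenImmersion_fromSpec
  choose cU hcU using fun U : S.affineOpens => exists_dualAt (f := U.2.fromSpec) D a
  have hres : ∀ {U W : S.affineOpens} (i : (W : S.Opens) ⟶ U),
      (S.presheaf.map i.op).hom (cU U : Γ(S, (U : S.Opens))) = cU W := fun {U W} i =>
    DualAt.unique D a
      (DualAt.map D a (hcU U) (S.presheaf.map i.op).hom (by rw [CommRingCat.ofHom_hom]; exact U.2.map_fromSpec W.2 i.op))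
      (hcU W)
  have hres' : ∀ {U W : S.affineOpens} (i : (W : S.Opens) ⟶ U),
      (S.presheaf.map i.op).hom (↑(cU U)⁻¹ : Γ(S, (U : S.Opens))) = ↑(cU W)⁻¹ := fun {U W} i => by
    refine Units.eq_inv_of_mul_eq_one_left ?_
    rw [← hres i, ← map_mul, Units.mul_inv, map_one]
  let Us : S.affineOpens → S.Opens := fun U => U
  have hcov : (⊤ : S.Opens) ≤ iSup Us := by
    intro x _
    obtain ⟨W, hW, hx, -⟩ := Opens.isBasis_iff_nbhd.mp S.isBasis_affineOpens (Opens.mem_top x)
    exact Opens.mem_iSup.mpr ⟨⟨W, hW⟩, hx⟩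
  have hcomp : ∀ s : ∀ U : S.affineOpens, Γ(S, (U : S.Opens)),
      (∀ {U W : S.affineOpens} (i : (W : S.Opens) ⟶ U), (S.presheaf.map i.op).hom (s U) = s W) →
      ∃ t : Γ(S, ⊤), ∀ U : S.affineOpens, (S.presheaf.map (homOfLE le_top).op).hom t = s U := by
    intro s hs
    obtain ⟨t, ht, -⟩ := S.sheaf.existsUnique_gluing' Us ⊤ (fun U => homOfLE le_top) hcov s (by
      intro U V
      refine S.sheaf.eq_of_locally_eq' (fun W : {W : S.affineOpens // (W : S.Opens) ≤ Us U ⊓ Us V} => (W.1 : S.Opens))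
        (Us U ⊓ Us V) (fun W => homOfLE W.2) ?_ _ _ fun W => ?_
      · intro x hx
        obtain ⟨W, hW, hxW, hle⟩ := Opens.isBasis_iff_nbhd.mp S.isBasis_affineOpens hx
        exact Opens.mem_iSup.mpr ⟨⟨⟨W, hW⟩, hle⟩, hxW⟩
      · show (S.presheaf.map _).hom ((S.presheaf.map _).hom (s U)) = (S.presheaf.map _).hom ((S.presheaf.map _).hom (s V))
        rw [← ConcreteCategory.comp_apply, ← ConcreteCategory.comp_apply, ← S.presheaf.map_comp, ← S.presheaf.map_comp,
          ← op_comp, ← op_comp]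
        exact (hs _).trans (hs _).symm)
    exact ⟨t, ht⟩
  obtain ⟨c, hc⟩ := hcomp (fun U => cU U) hres
  obtain ⟨c', hc'⟩ := hcomp (fun U => ↑(cU U)⁻¹) hres'
  have hcc : c * c' = 1 := by
    refine S.sheaf.eq_of_locally_eq' Us ⊤ (fun U => homOfLE le_top) hcov _ _ fun U => ?_
    show (S.presheaf.map _).hom (c * c') = (S.presheaf.map _).hom 1
    rw [map_mul, map_one, hc, hc', Units.mul_inv]
  refine ⟨Units.mkOfMulEqOne c c' hcc, fun R _ f _ => ?_⟩
  have hU : IsAffineOpen f.opensRange := isAffineOpen_opensRange f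
  have hrange : Set.range f.base ⊆ Set.range hU.fromSpec.base := by
    rw [hU.range_fromSpec]; exact subset_rfl
  obtain ⟨φ, hφ⟩ := Spec.map_surjective (IsOpenImmersion.lift hU.fromSpec f hrange)
  have hfac : Spec.map φ ≫ hU.fromSpec = f := by rw [hφ]; exact IsOpenImmersion.lift_fac _ _ _
  have e : f.appTop ≫ (Scheme.ΓSpecIso (CommRingCat.of R)).hom = S.presheaf.map (homOfLE le_top).op ≫ φ := by
    refine (congrArg (fun k : Spec (CommRingCat.of R) ⟶ S => k.appTop ≫ (Scheme.ΓSpecIso (CommRingCat.of R)).hom) hfac.symm).trans ?_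
    rw [Scheme.Hom.comp_appTop, Category.assoc, Scheme.ΓSpecIso_naturality, ← Category.assoc,
      fromSpec_appTop_hom]
  rw [e]
  show DualAt D a f (φ.hom ((S.presheaf.map _).hom c))
  rw [hc ⟨_, hU⟩]
  exact DualAt.map D a (hcU ⟨_, hU⟩) φ.hom (by rw [CommRingCat.ofHom_hom]; exact hfac)

theorem chPt_chi_one {B : Type u} [CommRing B] [Algebra R B] {χ : Multiplicative ℤ →* B} {v : Bˣ}
    (h : tVal f B (Red.gmFn (chPt f χ)) = v) : χ = zchar (AddMonoidHom.id ℤ) v := by
  refine MonoidHom.ext_mint ?_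
  have e : chPt f χ ≫ Red.chi S (1 : ℤ) = chPt f χ := by
    rw [Red.chi, chPt_DSmap]
    congr 1
    exact MonoidHom.ext_mint (by simp)
  have h2 := gmFn_chPt_chi f χ (1 : ℤ)
  rw [e] at h2
  rw [h2, RingEquiv.apply_symm_apply] at h
  simpa [zchar] using h

variable (S) in
/-- The relation of a dual pair of root homomorphisms with a scalar. -/
def IsDualPair (c : Γ(S, ⊤)) : Prop :=
  ∀ (X : Over S) (x y : X ⟶ Red.Ga S), IsUnit (1 + X.hom.appTop.hom c * Red.gaFn x * Red.gaFn y) →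
    ∃ (x' y' : X ⟶ Red.Ga S) (z : X ⟶ Red.Gm S), Red.gmFn z = 1 + X.hom.appTop.hom c * Red.gaFn x * Red.gaFn y ∧
      Red.gaFn x' * Red.gmFn z = Red.gaFn x ∧ Red.gaFn y' * Red.gmFn z = Red.gaFn y ∧
      (x ≫ D.u a) * (y ≫ D.u (negIdx D a)) =
        (y' ≫ D.u (negIdx D a)) * (z ≫ Red.DSmap S (D.P.coroot a).toAddMonoidHom ≫ D.split.inv.hom.hom ≫ D.i) *
          (x' ≫ D.u a)

/-- Every root and its opposite form a dual pair, with a unit scalar. -/
theorem exists_isDualPair : ∃ c : Γ(S, ⊤)ˣ, IsDualPair S D a (c : Γ(S, ⊤)) := by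
  obtain ⟨c, hc⟩ := exists_glob_dual D a
  refine ⟨c, fun X x y hxy => ?_⟩
  obtain ⟨v, hv⟩ := hxy
  let x' : X ⟶ Red.Ga S := GrpSchLib.GaPts.ptOfFn (Red.gaFn x * (↑v⁻¹ : Γ(X.left, ⊤)))
  let y' : X ⟶ Red.Ga S := GrpSchLib.GaPts.ptOfFn (Red.gaFn y * (↑v⁻¹ : Γ(X.left, ⊤)))
  let z : X ⟶ Red.Gm S := GmPts.ptOfUnit v
  have hz : Red.gmFn z = (v : Γ(X.left, ⊤)) := (GmPts.val_unitOfPt _).symm.trans (congrArg Units.val (GmPts.unitOfPt_ptOfUnit v))
  refine ⟨x', y', z, hz.trans hv, ?_, ?_, ext_tObj fun R _ f _ B _ _ j => ?_⟩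
  · rw [GrpSchLib.GaPts.gaFn_ptOfFn, hz, mul_assoc, Units.inv_mul, mul_one]
  · rw [GrpSchLib.GaPts.gaFn_ptOfFn, hz, mul_assoc, Units.inv_mul, mul_one]
  let ev : Γ(X.left, ⊤) →+* B := (tVal f B).toRingHom.comp j.left.appTop.hom
  have hga : ∀ w : X ⟶ Red.Ga S, j ≫ w = gaPt f (ev (Red.gaFn w)) := fun w => by
    refine GrpSchLib.GaPts.gaFn_injective ?_
    show Red.gaFn (j ≫ w) = Red.gaFn (gaPt f _)
    rw [GrpSchLib.GaPts.gaFn_comp, gaFn_gaPt]
    exact ((tVal f B).symm_apply_apply _).symm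
  let w : Bˣ := Units.map ev.toMonoidHom v
  obtain ⟨χ, hχ⟩ := (chPt_bijective f (M := ℤ)).surjective (j ≫ z)
  have hχ' : χ = zchar (AddMonoidHom.id ℤ) w := chPt_chi_one (f := f) (by
    show tVal f B (Red.gmFn (chPt f χ)) = ev v
    rw [show Red.gmFn (chPt f χ) = Red.gmFn (j ≫ z) from congrArg Red.gmFn hχ, GmPts.gmFn_comp, hz]
    rfl)
  have hcor : ((D.P.coroot a).toAddMonoidHom : D.M →+ ℤ) = (D.P.coroot' a).toAddMonoidHom := by
    refine AddMonoidHom.ext fun m => ?_
    show D.P.coroot a m = D.P.toLinearMap m (D.P.coroot a)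
    rw [D.pairing_eq]
    rfl
  have htor : j ≫ z ≫ Red.DSmap S (D.P.coroot a).toAddMonoidHom ≫ D.split.inv.hom.hom ≫ D.i =
      torG D (zchar (D.P.coroot' a).toAddMonoidHom w) := by
    rw [← Category.assoc, ← hχ, ← Category.assoc, chPt_DSmap, hχ', hcor]
    congr 2
  have hc' : ev (X.hom.appTop.hom (c : Γ(S, ⊤))) =
      algebraMap R B ((f.appTop ≫ (Scheme.ΓSpecIso (CommRingCat.of R)).hom).hom (c : Γ(S, ⊤))) := by
    have hw : j.left ≫ X.hom = Spec.map (CommRingCat.ofHom (algebraMap R B)) ≫ f := Over.w j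
    show ((X.hom.appTop ≫ j.left.appTop) ≫ (Scheme.ΓSpecIso (CommRingCat.of B)).hom).hom (c : Γ(S, ⊤)) = _
    rw [← Scheme.Hom.comp_appTop, hw, Scheme.Hom.comp_appTop, Category.assoc, Scheme.ΓSpecIso_naturality]
    rfl
  have hw : (w : B) = 1 + algebraMap R B ((f.appTop ≫ (Scheme.ΓSpecIso (CommRingCat.of R)).hom).hom (c : Γ(S, ⊤))) *
      ev (Red.gaFn x) * ev (Red.gaFn y) := by
    show ev v = _
    rw [hv, map_add, map_one, map_mul, map_mul, hc']
  have h := hc R f B (ev (Red.gaFn x)) (ev (Red.gaFn y)) w hw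
  simp only [MonObj.comp_mul]
  rw [htor, ← Category.assoc j x, ← Category.assoc j y, ← Category.assoc j x', ← Category.assoc j y', hga, hga, hga,
    hga, GrpSchLib.GaPts.gaFn_ptOfFn, GrpSchLib.GaPts.gaFn_ptOfFn, map_mul, map_mul]
  exact h

end Groth.Agent.RedRk29
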