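import Groth.Agent.RedRk29.Fix
import Groth.Agent.ComodLib.ReducedSmooth
import Mathlib.RingTheory.HopfAlgebra.Quotient
import Mathlib.LinearAlgebra.TensorProduct.Basis
import Mathlib.LinearAlgebra.Eigenspace.Zero

/-!
# The closed subgroup scheme cut out by a group of points
-/

set_option autoImplicit false

universe u

open TensorProduct WithConv
open scoped AddMonoidAlgebra

namespace Groth.Agent.RedRk29

open BigCell29

variable {k : Type u} [Field k] {A : Type u} [CommRing A] [HopfAlgebra k A]

/-- Maps separating elements give pairs separating tensors. -/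
theorem eq_zero_of_forall_pairs {B C : Type u} [CommRing B] [Algebra k B] [CommRing C] [Algebra k C]
    (S : Set (B →ₐ[k] k)) (T : Set (C →ₐ[k] k)) (hS : ∀ b, (∀ g ∈ S, g b = 0) → b = 0)
    (hT : ∀ c, (∀ h ∈ T, h c = 0) → c = 0) {z : B ⊗[k] C}
    (hz : ∀ g ∈ S, ∀ h ∈ T, Algebra.TensorProduct.lift g h (fun _ _ => Commute.all _ _) z = 0) : z = 0 := by
  classical
  let e := Module.Free.chooseBasis k C
  obtain ⟨f, rfl⟩ := TensorProduct.eq_repr_basis_right e z
  have hb : ∀ i, f i = 0 := fun i => hS _ fun g hg => by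
    have h0 : (f.sum fun i b => g b • e i) = 0 := hT _ fun h hh => by
      have := hz g hg h hh
      simp only [Finsupp.sum, map_sum, Algebra.TensorProduct.lift_tmul] at this
      simpa [Finsupp.sum] using this
    have := congrArg (fun c => e.repr c i) h0
    simp only [Finsupp.sum, map_sum, map_smul, e.repr_self, Finsupp.coe_finsetSum, Finset.sum_apply,
      Finsupp.smul_single, smul_eq_mul, mul_one, Finsupp.single_apply, Finset.sum_ite_eq', map_zero,
      Finsupp.zero_apply] at this
    split_ifs at this with h'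
    · exact this
    · simp [Finsupp.notMem_support_iff.mp h']
  rw [show f = 0 from Finsupp.ext hb, Finsupp.sum_zero_index]

variable (H : Subgroup (Pt k A k))

/-- The functions vanishing on a group of points. -/
noncomputable def vanIdeal : Ideal A := ⨅ g ∈ H, RingHom.ker g.ofConv

theorem mem_vanIdeal {a : A} : a ∈ vanIdeal H ↔ ∀ g ∈ H, g.ofConv a = 0 := by
  simp [vanIdeal, Submodule.mem_iInf]

/-- A point of the group on the quotient. -/
noncomputable def qPt (g : H) : (A ⧸ vanIdeal H) →ₐ[k] k :=
  Ideal.Quotient.liftₐ (vanIdeal H) (g : Pt k A k).ofConv fun _ ha => (mem_vanIdeal H).mp ha g g.2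

@[simp] theorem qPt_mk (g : H) (a : A) :
    qPt H g (Ideal.Quotient.mkₐ k (vanIdeal H) a) = (g : Pt k A k).ofConv a := rfl

theorem eq_zero_of_qPt (b : A ⧸ vanIdeal H) (h : ∀ f ∈ Set.range (qPt H), f b = 0) : b = 0 := by
  obtain ⟨a, rfl⟩ := Ideal.Quotient.mk_surjective b
  rw [Ideal.Quotient.eq_zero_iff_mem, mem_vanIdeal]
  exact fun g hg => h _ ⟨⟨g, hg⟩, rfl⟩

theorem lift_qPt (g h : H) (t : A ⊗[k] A) :
    Algebra.TensorProduct.lift (qPt H g) (qPt H h) (fun _ _ => Commute.all _ _)
        (Algebra.TensorProduct.map (Ideal.Quotient.mkₐ k (vanIdeal H)) (Ideal.Quotient.mkₐ k (vanIdeal H)) t) =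
      Algebra.TensorProduct.lift (g : Pt k A k).ofConv (h : Pt k A k).ofConv (fun _ _ => Commute.all _ _) t := by
  induction t using TensorProduct.induction_on with
  | zero => simp
  | tmul a b => rfl
  | add s t hs ht => simp only [map_add, hs, ht]

theorem isHopfIdeal_vanIdeal : (vanIdeal H).IsHopfIdeal k := by
  haveI : ((vanIdeal H).restrictScalars k).IsCoideal := by
    refine Submodule.IsCoideal.mk ?_ ?_
    · intro x hx
      have h := (mem_vanIdeal H).mp hx 1 (one_mem H)
      simpa using h
    · intro x hx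
      have hmk : (Submodule.restrictScalars k (vanIdeal H)).mkQ = (Ideal.Quotient.mkₐ k (vanIdeal H)).toLinearMap := rfl
      rw [hmk]
      change Algebra.TensorProduct.map (Ideal.Quotient.mkₐ k (vanIdeal H)) (Ideal.Quotient.mkₐ k (vanIdeal H))
        (Coalgebra.comul (R := k) x) = 0
      refine eq_zero_of_forall_pairs (Set.range (qPt H)) (Set.range (qPt H)) (eq_zero_of_qPt H) (eq_zero_of_qPt H) ?_
      rintro _ ⟨g, rfl⟩ _ ⟨h, rfl⟩
      have := (mem_vanIdeal H).mp hx _ (mul_mem g.2 h.2)
      rw [show ((g : Pt k A k) * (h : Pt k A k)).ofConv x = _ from AlgHom.convMul_apply _ _ x] at this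
      rw [lift_qPt]
      exact this
  refine Ideal.IsHopfIdeal.mk ?_
  intro x hx
  rw [mem_vanIdeal]
  intro g hg
  exact (mem_vanIdeal H).mp hx _ (inv_mem hg)

/-- The conjugation comorphism, with values on a product of two groups. -/
noncomputable def conjPair {B : Type u} [CommRing B] [Algebra k B] (q : A →ₐ[k] B) : Pt k A (A ⊗[k] B) :=
  toConv (Algebra.TensorProduct.includeLeft : A →ₐ[k] A ⊗[k] B) *
    toConv ((Algebra.TensorProduct.includeRight : B →ₐ[k] A ⊗[k] B).comp q) *
      (toConv (Algebra.TensorProduct.includeLeft : A →ₐ[k] A ⊗[k] B))⁻¹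

theorem mapPt_conjPair {B C : Type u} [CommRing B] [Algebra k B] [CommRing C] [Algebra k C] (q : A →ₐ[k] B)
    (g : A →ₐ[k] C) (n : B →ₐ[k] C) :
    mapPt (Algebra.TensorProduct.lift g n fun _ _ => Commute.all _ _) (conjPair q) =
      toConv g * toConv (n.comp q) * (toConv g)⁻¹ := by
  simp only [conjPair, map_mul, map_inv]
  have e1 : mapPt (Algebra.TensorProduct.lift g n fun _ _ => Commute.all _ _)
      (toConv (Algebra.TensorProduct.includeLeft : A →ₐ[k] A ⊗[k] B)) = toConv g :=
    pt_ext fun a => by simp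
  have e2 : mapPt (Algebra.TensorProduct.lift g n fun _ _ => Commute.all _ _)
      (toConv ((Algebra.TensorProduct.includeRight : B →ₐ[k] A ⊗[k] B).comp q)) = toConv (n.comp q) :=
    pt_ext fun a => by simp
  rw [e1, e2]

variable [IsAlgClosed k] [Algebra.FiniteType k A] [IsDomain A]

theorem eq_zero_of_points (a : A) (h : ∀ g : A →ₐ[k] k, g a = 0) : a = 0 := by
  by_contra hne
  obtain ⟨y, hy⟩ := ComodLib.exists_point_ne_zero (k := k) (a := a) fun hn => hne hn.eq_zero
  exact hy (h y)

theorem conjPair_vanIdeal [hN : H.Normal] {a : A} (ha : a ∈ vanIdeal H) :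
    (conjPair (Ideal.Quotient.mkₐ k (vanIdeal H))).ofConv a = 0 := by
  refine eq_zero_of_forall_pairs Set.univ (Set.range (qPt H)) (fun b hb => eq_zero_of_points b fun g => hb g trivial)
    (eq_zero_of_qPt H) ?_
  rintro g - _ ⟨h, rfl⟩
  have e : (qPt H h).comp (Ideal.Quotient.mkₐ k (vanIdeal H)) = (h : Pt k A k).ofConv := AlgHom.ext fun x => rfl
  have h1 := DFunLike.congr_fun (congrArg WithConv.ofConv (mapPt_conjPair (Ideal.Quotient.mkₐ k (vanIdeal H)) g (qPt H h))) a
  rw [e] at h1
  refine h1.trans ?_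
  exact (mem_vanIdeal H).mp ha _ (hN.conj_mem _ h.2 (toConv g))

/-- Right translation by a point. -/
noncomputable def transl {B : Type u} [CommRing B] [HopfAlgebra k B] (c : Pt k B k) : B →ₐ[k] B :=
  (toConv (AlgHom.id k B) * mapPt (Algebra.ofId k B) c).ofConv

theorem comp_transl {B : Type u} [CommRing B] [HopfAlgebra k B] (g : B →ₐ[k] k) (c : Pt k B k) :
    g.comp (transl c) = (toConv g * c).ofConv := by
  have h : mapPt g (toConv (AlgHom.id k B) * mapPt (Algebra.ofId k B) c) = toConv g * c := by
    rw [map_mul, mapPt_mapPt]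
    congr 1
    refine pt_ext fun a => ?_
    show g (algebraMap k B (c a)) = c a
    exact g.commutes _
  exact congrArg WithConv.ofConv h

theorem transl_transl {B : Type u} [CommRing B] [HopfAlgebra k B] (c c' : Pt k B k) :
    (transl c).comp (transl c') = transl (c * c') := by
  show (mapPt (transl c) (toConv (AlgHom.id k B) * mapPt (Algebra.ofId k B) c')).ofConv = _
  rw [map_mul, mapPt_mapPt,
    show (transl c).comp (Algebra.ofId k B) = Algebra.ofId k B from Subsingleton.elim _ _,
    show mapPt (transl c) (toConv (AlgHom.id k B)) = toConv (AlgHom.id k B) * mapPt (Algebra.ofId k B) c from rfl,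
    mul_assoc, ← map_mul]
  rfl

theorem transl_one {B : Type u} [CommRing B] [HopfAlgebra k B] : transl (1 : Pt k B k) = AlgHom.id k B := by
  rw [transl, map_one, mul_one]

/-- A reduced Hopf algebra of finite type is smooth. -/
theorem smooth_of_isReduced {B : Type u} [CommRing B] [HopfAlgebra k B] [Algebra.FiniteType k B]
    [_root_.IsReduced B] : Algebra.Smooth k B := by
  haveI : Algebra.FinitePresentation k B := Algebra.FinitePresentation.of_finiteType.1 inferInstance
  have := ComodLib.RedSm.formallySmooth_of_transitive (k := k) (B := B) fun g h => by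
    refine ⟨AlgEquiv.ofAlgHom (transl ((toConv g)⁻¹ * toConv h)) (transl ((toConv g)⁻¹ * toConv h)⁻¹) ?_ ?_, ?_⟩
    · rw [transl_transl, mul_inv_cancel, transl_one]
    · rw [transl_transl, inv_mul_cancel, transl_one]
    · show h = g.comp (transl ((toConv g)⁻¹ * toConv h))
      rw [comp_transl, mul_inv_cancel_left]
  exact ⟨this, inferInstance⟩

section Unipotent

variable {V : Type u} [AddCommGroup V] [Module k V] {ρ : Pt k A k →* Module.End k V}

omit [IsAlgClosed k] [Algebra.FiniteType k A] [IsDomain A] in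
theorem exists_pow_sub_one (hρ : IsRegRep ρ) (n : ℕ) :
    ∀ v : V, ∃ z : A ⊗[k] V, ∀ g : Pt k A k, ((ρ g - 1) ^ n) v = ev g z := by
  induction n with
  | zero => exact fun v => ⟨1 ⊗ₜ v, fun g => by simp⟩
  | succ n ih =>
    intro v
    obtain ⟨z, hz⟩ := ih v
    suffices ∀ z : A ⊗[k] V, ∃ z' : A ⊗[k] V, ∀ g : Pt k A k, (ρ g - 1) (ev g z) = ev g z' by
      obtain ⟨z', hz'⟩ := this z
      exact ⟨z', fun g => by rw [pow_succ', Module.End.mul_apply, hz, hz']⟩
    intro z
    induction z using TensorProduct.induction_on with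
    | zero => exact ⟨0, fun g => by simp⟩
    | tmul a w =>
      obtain ⟨zw, hzw⟩ := hρ w
      refine ⟨(LinearMap.mulLeft k a).rTensor V zw - a ⊗ₜ[k] w, fun g => ?_⟩
      have e : ev g ((LinearMap.mulLeft k a).rTensor V zw) = g.ofConv a • ev g zw := by
        clear hzw
        induction zw using TensorProduct.induction_on with
        | zero => simp
        | tmul b x => simp [smul_smul]
        | add p q hp hq => simp only [map_add, hp, hq, smul_add]
      rw [ev_tmul, map_smul, LinearMap.sub_apply, Module.End.one_apply, hzw, map_sub, e, ev_tmul, smul_sub]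
    | add p q hp hq =>
      obtain ⟨p', hp'⟩ := hp
      obtain ⟨q', hq'⟩ := hq
      exact ⟨p' + q', fun g => by simp only [map_add, hp', hq']⟩

omit [IsAlgClosed k] [Algebra.FiniteType k A] [IsDomain A] in
/-- Unipotence extends to the closure. -/
theorem isNilpotent_of_vanIdeal [Module.Finite k V] (hρ : IsRegRep ρ)
    (hnil : ∀ g ∈ H, IsNilpotent (ρ g - 1)) {g : Pt k A k} (hg : ∀ a ∈ vanIdeal H, g.ofConv a = 0) :
    IsNilpotent (ρ g - 1) := by
  refine ⟨Module.finrank k V, LinearMap.ext fun v => ?_⟩
  obtain ⟨z, hz⟩ := exists_pow_sub_one hρ (Module.finrank k V) v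
  have hz0 : ∀ h ∈ H, ev h z = 0 := fun h hh => by
    rw [← hz h, show (ρ h - 1) ^ Module.finrank k V = 0 from ?_, LinearMap.zero_apply]
    obtain ⟨m, hm⟩ := hnil h hh
    have := LinearMap.aeval_self_charpoly (ρ h - 1)
    rw [IsNilpotent.charpoly_eq_X_pow_finrank ⟨m, hm⟩, map_pow, Polynomial.aeval_X] at this
    exact this
  rw [hz g, LinearMap.zero_apply]
  refine (Module.forall_dual_apply_eq_zero_iff k _).mp fun φ => ?_
  have key : ∀ z : A ⊗[k] V, ∃ a : A, ∀ h : Pt k A k, φ (ev h z) = h.ofConv a := by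
    intro z
    induction z using TensorProduct.induction_on with
    | zero => exact ⟨0, fun h => by simp⟩
    | tmul a w => exact ⟨φ w • a, fun h => by simp [mul_comm]⟩
    | add p q hp hq =>
      obtain ⟨a, ha⟩ := hp
      obtain ⟨b, hb⟩ := hq
      exact ⟨a + b, fun h => by simp [ha, hb]⟩
  obtain ⟨a, ha⟩ := key z
  rw [ha g]
  exact hg a ((mem_vanIdeal H).mpr fun h hh => by rw [← ha h, hz0 h hh, map_zero])

end Unipotent

section Torus

variable {Λ : Type} [AddCommGroup Λ] [Module.Free ℤ Λ] [Module.Finite ℤ Λ]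

omit [Algebra.FiniteType k A] [IsDomain A] in
/-- A torus acts trivially if it acts unipotently. -/
theorem torus_eq_one {V : Type u} [AddCommGroup V] [Module k V]
    (ψ : (Multiplicative Λ →* k) →* Module.End k V)
    (hreg : ∀ v, ∃ f : Λ →₀ V, ∀ χ, ψ χ v = f.sum fun m x => χ (Multiplicative.ofAdd m) • x)
    (hnil : ∀ χ, IsNilpotent (ψ χ - 1)) (χ : Multiplicative Λ →* k) : ψ χ = 1 := by
  classical
  refine LinearMap.ext fun v => ?_
  obtain ⟨f, hf⟩ := hreg v
  have heig : ∀ m χ', ψ χ' (f m) = χ' (Multiplicative.ofAdd m) • f m := by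
    intro m χ'
    have key := wt_unique (k := k) (f := f.mapRange (ψ χ') (map_zero _))
      (f' := Finsupp.onFinset f.support (fun n => χ' (Multiplicative.ofAdd n) • f n)
        fun n hn => by rw [Finsupp.mem_support_iff]; intro h; rw [h, smul_zero] at hn; exact hn rfl) fun χ => by
      rw [Finsupp.sum_mapRange_index (fun _ => smul_zero _), Finsupp.onFinset_sum _ (fun _ => smul_zero _)]
      have h1 := hf (χ' * χ)
      rw [map_mul, Module.End.mul_apply, hf χ, map_finsuppSum] at h1
      simp only [map_smul] at h1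
      rw [h1]
      refine Finset.sum_congr rfl fun n _ => ?_
      simp only [MonoidHom.mul_apply, smul_smul]
      rw [mul_comm]
    simpa using congrArg (fun f : Λ →₀ V => f m) key
  have hzero : ∀ m, m ≠ 0 → f m = 0 := by
    intro m hm
    by_contra h0
    haveI : Infinite k := IsAlgClosed.instInfinite
    obtain ⟨x, hx⟩ := (Set.Finite.infinite_compl (Set.toFinite ({0, 1} : Set k))).nonempty
    simp only [Set.mem_compl_iff, Set.mem_insert_iff, Set.mem_singleton_iff, not_or] at hx
    obtain ⟨χ', hχ'⟩ := exists_char_eq hm (Units.mk0 x hx.1)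
    have h := heig m χ'
    rw [hχ', Units.val_mk0] at h
    obtain ⟨N, hN⟩ := hnil χ'
    have e : ∀ n, ((ψ χ' - 1) ^ n) (f m) = (x - 1) ^ n • f m := fun n => by
      induction n with
      | zero => simp
      | succ n ih =>
        rw [pow_succ', Module.End.mul_apply, ih, map_smul, LinearMap.sub_apply, Module.End.one_apply, h, pow_succ,
          mul_smul, sub_smul, one_smul]
    have := e N
    rw [hN, LinearMap.zero_apply, eq_comm, smul_eq_zero] at this
    exact (pow_ne_zero N (sub_ne_zero.mpr hx.2)) (this.resolve_right h0)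
  have hsum : ∀ χ : Multiplicative Λ →* k, (f.sum fun m x => χ (Multiplicative.ofAdd m) • x) = f 0 := fun χ => by
    rw [Finsupp.sum, Finset.sum_eq_single 0]
    · simp
    · intro m _ hm; simp [hzero m hm]
    · intro h; simp [Finsupp.notMem_support_iff.mp h]
  rw [hf, hsum, ← hsum 1, ← hf, map_one]

end Torus

end Groth.Agent.RedRk29
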