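import Groth.Agent.RedRk29.Cone
import Groth.Agent.AlgGrpQ.Flag
import Mathlib.LinearAlgebra.ExteriorPower.Basis
import Mathlib.LinearAlgebra.ExteriorAlgebra.OfAlternating
import Mathlib.LinearAlgebra.Determinant
import Mathlib.LinearAlgebra.CliffordAlgebra.Contraction
import Mathlib.LinearAlgebra.Matrix.Determinant.Basic
import Mathlib.LinearAlgebra.Dual.Lemmas
import Mathlib.LinearAlgebra.FiniteDimensional.Lemmas

/-!
# Flags in exterior powers
-/

set_option autoImplicit false

universe u

open TensorProduct WithConv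

namespace Groth.Agent.RedRk29

open BigCell29

variable {k : Type u} [Field k] {V : Type u} [AddCommGroup V] [Module k V]

/-- Wedging a vector with a fixed element. -/
noncomputable def wedgeBy (y : ExteriorAlgebra k V) : V →ₗ[k] ExteriorAlgebra k V :=
  (LinearMap.mulRight k y).comp (ExteriorAlgebra.ι k)

@[simp] theorem wedgeBy_apply (y : ExteriorAlgebra k V) (v : V) : wedgeBy y v = ExteriorAlgebra.ι k v * y := rfl

/-- Contraction by a linear form. -/
noncomputable def contr (d : Module.Dual k V) : ExteriorAlgebra k V →ₗ[k] ExteriorAlgebra k V :=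
  CliffordAlgebra.contractLeft (Q := (0 : QuadraticForm k V)) d

theorem contr_ι_mul (d : Module.Dual k V) (a : V) (b : ExteriorAlgebra k V) :
    contr d (ExteriorAlgebra.ι k a * b) = d a • b - ExteriorAlgebra.ι k a * contr d b :=
  CliffordAlgebra.contractLeft_ι_mul d a b

theorem contr_mem (d : Module.Dual k V) : ∀ (j : ℕ) (y : ExteriorAlgebra k V), y ∈ ⋀[k]^(j + 1) V →
    contr d y ∈ ⋀[k]^j V := by
  intro j
  induction j with
  | zero =>
    intro y hy
    rw [ExteriorAlgebra.exteriorPower, pow_one] at hy
    obtain ⟨a, rfl⟩ := hy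
    rw [← mul_one (ExteriorAlgebra.ι k a), contr_ι_mul,
      show contr d (1 : ExteriorAlgebra k V) = 0 from CliffordAlgebra.contractLeft_one _ d, mul_zero, sub_zero]
    exact Submodule.smul_mem _ _ (by simp [ExteriorAlgebra.exteriorPower, ← Submodule.one_le])
  | succ j ih =>
    intro y hy
    rw [ExteriorAlgebra.exteriorPower, pow_succ'] at hy
    refine Submodule.mul_induction_on hy (fun m hm n hn => ?_)
      (fun x y hx hy => by rw [map_add]; exact Submodule.add_mem _ hx hy)
    obtain ⟨a, rfl⟩ := hm
    rw [contr_ι_mul]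
    refine Submodule.sub_mem _ (Submodule.smul_mem _ _ hn) ?_
    rw [ExteriorAlgebra.exteriorPower, pow_succ']
    exact Submodule.mul_mem_mul ⟨a, rfl⟩ (ih n hn)

/-- A nonzero element of degree `j` is annihilated by at most `j` independent vectors. -/
theorem card_le_of_wedge_eq_zero : ∀ (j : ℕ) {n : ℕ} (v : Fin n → V) (y : ExteriorAlgebra k V),
    LinearIndependent k v → y ∈ ⋀[k]^j V → y ≠ 0 → (∀ i, ExteriorAlgebra.ι k (v i) * y = 0) → n ≤ j := by
  intro j
  induction j with
  | zero =>
    intro n v y hv hy hy0 hann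
    by_contra hn
    obtain ⟨r, rfl⟩ : ∃ r, algebraMap k (ExteriorAlgebra k V) r = y := by
      rw [ExteriorAlgebra.exteriorPower, pow_zero, Submodule.mem_one] at hy; exact hy
    have i : Fin n := ⟨0, by omega⟩
    have h := hann i
    rw [← Algebra.commutes, ← Algebra.smul_def, ← map_smul, ExteriorAlgebra.ι_eq_zero_iff, smul_eq_zero] at h
    rcases h with h | h
    · exact hy0 (by rw [h, map_zero])
    · exact hv.ne_zero i h
  | succ j ih =>
    intro n v y hv hy hy0 hann
    cases n with
    | zero => omega
    | succ n =>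
      obtain ⟨f, hf⟩ := LinearMap.exists_leftInverse_of_injective (Fintype.linearCombination k v)
        (LinearMap.ker_eq_bot.mpr hv.fintypeLinearCombination_injective)
      let d : Module.Dual k V := (LinearMap.proj (0 : Fin (n + 1))).comp f
      have hd : ∀ i, d (v i) = if i = 0 then 1 else 0 := fun i => by
        have := LinearMap.congr_fun hf (Pi.single i 1)
        simp only [LinearMap.coe_comp, Function.comp_apply, Fintype.linearCombination_apply_single, one_smul,
          LinearMap.id_apply] at this
        simp [d, this, Pi.single_apply, eq_comm]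
      have h0 := congrArg (contr d) (hann 0)
      rw [contr_ι_mul, hd, if_pos rfl, one_smul, map_zero, sub_eq_zero] at h0
      have hy' : contr d y ≠ 0 := fun h => hy0 (by rw [h0, h, mul_zero])
      have := ih (v ∘ Fin.succ) _ (hv.comp _ (Fin.succ_injective n)) (contr_mem d j y hy) hy' fun i => by
        have h1 := congrArg (contr d) (hann i.succ)
        rw [contr_ι_mul, hd, if_neg (Fin.succ_ne_zero i), zero_smul, map_zero, zero_sub, neg_eq_zero] at h1
        exact h1
      omega

variable (k V) in
/-- The exterior powers that carry flags. -/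
abbrev FlagSpace (j : Fin (Module.finrank k V)) : Type u := ↥(⋀[k]^((j : ℕ) + 1) V)

variable [Module.Finite k V]

theorem finrank_ker_wedgeBy_le {j : ℕ} {y : ExteriorAlgebra k V} (hy : y ∈ ⋀[k]^j V) (h0 : y ≠ 0) :
    Module.finrank k (LinearMap.ker (wedgeBy y)) ≤ j := by
  refine card_le_of_wedge_eq_zero j (fun i => (Module.finBasis k (LinearMap.ker (wedgeBy y)) i : V)) y ?_ hy h0
    fun i => LinearMap.mem_ker.mp (Module.finBasis k (LinearMap.ker (wedgeBy y)) i).2
  exact (Module.finBasis k _).linearIndependent.map' (Submodule.subtype _) (Submodule.ker_subtype _)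

/-- The joint wedge map of the members of index at least `j`. -/
noncomputable def upperWedge (p : ∀ i, FlagSpace k V i) (j : Fin (Module.finrank k V)) :
    V →ₗ[k] ({i // j ≤ i} → ExteriorAlgebra k V) :=
  LinearMap.pi fun i => wedgeBy (p i.1 : ExteriorAlgebra k V)

/-- A tuple of nonzero exterior vectors whose annihilators form a full flag. -/
def IsFlag (p : ∀ i, FlagSpace k V i) : Prop :=
  Nondeg p ∧ ∀ j : Fin (Module.finrank k V), (j : ℕ) + 1 ≤ Module.finrank k (LinearMap.ker (upperWedge p j))

theorem ιMulti_ne_zero {n : ℕ} {v : Fin n → V} (hv : LinearIndependent k v) :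
    ExteriorAlgebra.ιMulti k n v ≠ 0 := by
  classical
  obtain ⟨f, hf⟩ := LinearMap.exists_leftInverse_of_injective (Fintype.linearCombination k v)
    (LinearMap.ker_eq_bot.mpr hv.fintypeLinearCombination_injective)
  have hfv : ∀ i, f (v i) = Pi.single i 1 := fun i => by
    have := LinearMap.congr_fun hf (Pi.single i 1)
    simpa [Fintype.linearCombination_apply_single] using this
  let F : ∀ i, V [⋀^Fin i]→ₗ[k] k := fun i =>
    if h : i = n then h ▸ ((Pi.basisFun k (Fin n)).det.compLinearMap f) else 0
  intro h0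
  have h1 := congrArg (ExteriorAlgebra.liftAlternating F) h0
  rw [ExteriorAlgebra.liftAlternating_apply_ιMulti, map_zero] at h1
  simp only [F, dif_pos rfl, AlternatingMap.compLinearMap_apply] at h1
  rw [show (fun i => f (v i)) = Pi.basisFun k (Fin n) from funext fun i => by rw [hfv]; simp] at h1
  rw [Module.Basis.det_self] at h1
  exact one_ne_zero h1

theorem exists_isFlag : ∃ p : ∀ i, FlagSpace k V i, IsFlag p := by
  let b := Module.finBasis k V
  let v : ∀ j : Fin (Module.finrank k V), Fin ((j : ℕ) + 1) → V := fun j i => b (Fin.castLE j.2 i)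
  have hv : ∀ j, LinearIndependent k (v j) := fun j => b.linearIndependent.comp _ (Fin.castLE_injective _)
  refine ⟨fun j => ⟨ExteriorAlgebra.ιMulti k _ (v j), ExteriorAlgebra.ιMulti_range k _ ⟨v j, rfl⟩⟩, fun j h => ?_,
    fun j => ?_⟩
  · exact ιMulti_ne_zero (hv j) (congrArg Subtype.val h)
  · have hmem : ∀ i, v j i ∈ LinearMap.ker (upperWedge (fun j => (⟨ExteriorAlgebra.ιMulti k _ (v j),
        ExteriorAlgebra.ιMulti_range k _ ⟨v j, rfl⟩⟩ : FlagSpace k V j)) j) := fun i => by
      refine LinearMap.mem_ker.mpr (funext fun l => ?_)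
      show ExteriorAlgebra.ι k (v j i) * ExteriorAlgebra.ιMulti k _ (v l.1) = 0
      have e : ExteriorAlgebra.ι k (v j i) * ExteriorAlgebra.ιMulti k _ (v l.1) =
          ExteriorAlgebra.ιMulti k _ (Matrix.vecCons (v j i) (v l.1)) := by
        refine ((ExteriorAlgebra.ιMulti_succ_apply (R := k) _).trans ?_).symm; rfl
      rw [e]
      refine AlternatingMap.map_eq_zero_of_eq _ _ (i := 0)
        (j := (Fin.castLE (Nat.succ_le_succ l.2) i).succ) ?_ (Fin.succ_ne_zero _).symm
      simp only [Matrix.cons_val_zero, Matrix.cons_val_succ]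
      exact congrArg b (Fin.ext rfl)
    calc (j : ℕ) + 1 = Module.finrank k (Submodule.span k (Set.range (v j))) := by
          rw [finrank_span_eq_card (hv j), Fintype.card_fin]
      _ ≤ _ := Submodule.finrank_mono (Submodule.span_le.mpr (by rintro _ ⟨i, rfl⟩; exact hmem i))

variable {A : Type u} [CommRing A] [HopfAlgebra k A] (ρ : Pt k A k →* Module.End k V)

/-- The action on the exterior powers. -/
noncomputable def flagRep (j : Fin (Module.finrank k V)) : Pt k A k →* Module.End k (FlagSpace k V j) :=
  restr (extRep ρ) _ fun g x hx => exteriorPower_stable ρ _ g x hx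

theorem isRegRep_flagRep {ρ : Pt k A k →* Module.End k V} (hρ : IsRegRep ρ) (j : Fin (Module.finrank k V)) :
    IsRegRep (flagRep ρ j) :=
  isRegRep_restr (isRegRep_extRep hρ) _ _

theorem mem_ker_upperWedge_of_smul {p q : ∀ i, FlagSpace k V i} {g : Pt k A k}
    {c : Fin (Module.finrank k V) → k} (h : ∀ i, q i = c i • flagRep ρ i g (p i))
    {j : Fin (Module.finrank k V)} {v : V} (hv : v ∈ LinearMap.ker (upperWedge p j)) :
    ρ g v ∈ LinearMap.ker (upperWedge q j) := by
  refine LinearMap.mem_ker.mpr (funext fun l => ?_)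
  show ExteriorAlgebra.ι k (ρ g v) * (q l.1 : ExteriorAlgebra k V) = 0
  have h1 : ExteriorAlgebra.ι k v * (p l.1 : ExteriorAlgebra k V) = 0 := congrFun (LinearMap.mem_ker.mp hv) l
  have h2 := congrArg (ExteriorAlgebra.map (ρ g)) h1
  rw [map_mul, map_zero, ExteriorAlgebra.map_apply_ι] at h2
  rw [h l.1, Submodule.coe_smul, mul_smul_comm]
  show c l.1 • (ExteriorAlgebra.ι k (ρ g v) * ExteriorAlgebra.map (ρ g) (p l.1 : ExteriorAlgebra k V)) = 0
  rw [h2, smul_zero]

/-- The orbit closure of a flag consists of flags, away from the degenerate tuples. -/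
theorem isFlag_of_mem_cl {p q : ∀ i, FlagSpace k V i} (hp : IsFlag p)
    (hq : q ∈ Cl (flagRep ρ) p) (hn : Nondeg q) : IsFlag q := by
  refine ⟨hn, fun j => by_contra fun hlt => ?_⟩
  let Lq := upperWedge q j
  let b := Module.finBasis k (LinearMap.range Lq)
  choose v hv using fun i => (b i).2
  have hb : LinearIndependent k (fun i => Lq (v i)) := by
    simp only [hv]
    exact b.linearIndependent.map' (Submodule.subtype _) (Submodule.ker_subtype _)
  obtain ⟨f, hf⟩ := LinearMap.exists_leftInverse_of_injective (Fintype.linearCombination k fun i => Lq (v i))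
    (LinearMap.ker_eq_bot.mpr hb.fintypeLinearCombination_injective)
  let D : (∀ i, FlagSpace k V i) → k := fun x => (Matrix.of fun a i => f (upperWedge x j (v i)) a).det
  have hD : IsPolyFn k D := by
    simp only [D, Matrix.det_apply]
    refine IsPolyFn.sum _ fun σ _ => ?_
    simp only [Units.smul_def, zsmul_eq_mul]
    refine (IsPolyFn.const _).mul (IsPolyFn.prod _ fun i _ => ?_)
    classical
    have e : ∀ x : ∀ i, FlagSpace k V i, Matrix.of (fun a i => f (upperWedge x j (v i)) a) (σ i) i =
        ∑ l : {i // j ≤ i}, ((LinearMap.proj (σ i)).comp ((f.comp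
          (LinearMap.single k (fun _ : {i // j ≤ i} => ExteriorAlgebra k V) l)).comp
            ((LinearMap.mulLeft k (ExteriorAlgebra.ι k (v i))).comp (Submodule.subtype _)))) (x l.1) := fun x => by
      simp only [Matrix.of_apply, LinearMap.coe_comp, Function.comp_apply, LinearMap.coe_proj, Function.eval,
        ← Finset.sum_apply, ← map_sum]
      refine congrArg (fun z => f z (σ i)) ?_
      rw [← Finset.univ_sum_single (upperWedge x j (v i))]
      rfl
    simp only [e]
    exact IsPolyFn.sum _ fun l _ => IsPolyFn.linear _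
  have hDq : D q ≠ 0 := by
    have : (Matrix.of fun a i => f (upperWedge q j (v i)) a) = 1 := by
      ext a i
      have := LinearMap.congr_fun hf (Pi.single i 1)
      simp only [LinearMap.coe_comp, Function.comp_apply, Fintype.linearCombination_apply_single, one_smul,
        LinearMap.id_apply] at this
      rw [Matrix.of_apply, this, Matrix.one_apply, Pi.single_apply]
    simp [D, this]
  refine hDq (hq D hD fun x ⟨g, c, hx⟩ => by_contra fun hne => hlt ?_)
  have hker : (j : ℕ) + 1 ≤ Module.finrank k (LinearMap.ker (upperWedge x j)) := by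
    refine (hp.2 j).trans ?_
    have hinj : Function.Injective (ρ g) := fun a b hab => by
      have := congrArg (ρ g⁻¹) hab
      simpa [← Module.End.mul_apply, ← map_mul] using this
    refine (Submodule.equivMapOfInjective (ρ g) hinj (LinearMap.ker (upperWedge p j))).finrank_eq.le.trans ?_
    exact Submodule.finrank_mono (Submodule.map_le_iff_le_comap.mpr fun w hw =>
      mem_ker_upperWedge_of_smul ρ hx hw)
  have hind : LinearIndependent k (fun i => upperWedge x j (v i)) := by
    have hu : IsUnit (Matrix.of fun a i => f (upperWedge x j (v i)) a) :=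
      (Matrix.isUnit_iff_isUnit_det _).mpr (Ne.isUnit hne)
    exact LinearIndependent.of_comp f (Matrix.linearIndependent_cols_of_isUnit hu)
  have h1 : Module.finrank k (LinearMap.range Lq) ≤ Module.finrank k (LinearMap.range (upperWedge x j)) := by
    refine le_trans ?_ (Submodule.finrank_mono (Submodule.span_le.mpr ?_) :
      Module.finrank k (Submodule.span k (Set.range fun i => upperWedge x j (v i))) ≤ _)
    · rw [finrank_span_eq_card hind, Fintype.card_fin]
    · rintro _ ⟨i, rfl⟩; exact ⟨v i, rfl⟩
  have r1 := LinearMap.finrank_range_add_finrank_ker (upperWedge x j)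
  have r2 := LinearMap.finrank_range_add_finrank_ker Lq
  show (j : ℕ) + 1 ≤ Module.finrank k (LinearMap.ker Lq)
  omega

/-- The full flag attached to a flag tuple. -/
noncomputable def flagFil (p : ∀ i, FlagSpace k V i) (i : ℕ) : Submodule k V :=
  if i = 0 then ⊥ else if h : i - 1 < Module.finrank k V then LinearMap.ker (upperWedge p ⟨i - 1, h⟩) else ⊤

theorem monotone_flagFil (p : ∀ i, FlagSpace k V i) : Monotone (flagFil p) := by
  refine monotone_nat_of_le_succ fun i => ?_
  rcases Nat.eq_zero_or_pos i with rfl | hi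
  · simp [flagFil]
  simp only [flagFil, hi.ne', if_false, Nat.succ_ne_zero, Nat.add_sub_cancel]
  by_cases h : i < Module.finrank k V
  · rw [dif_pos h, dif_pos (by omega)]
    intro v hv
    refine LinearMap.mem_ker.mpr (funext fun l => ?_)
    exact congrFun (LinearMap.mem_ker.mp hv) ⟨l.1, le_trans (by simp [Fin.le_def]) l.2⟩
  · rw [dif_neg h]; exact le_top

theorem finrank_flagFil {p : ∀ i, FlagSpace k V i} (hp : IsFlag p) (i : ℕ) (hi : i ≤ Module.finrank k V) :
    Module.finrank k (flagFil p i) = i := by
  rcases Nat.eq_zero_or_pos i with rfl | h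
  · rw [flagFil, if_pos rfl]; exact finrank_bot k V
  rw [flagFil, if_neg h.ne', dif_pos (show i - 1 < Module.finrank k V by omega)]
  refine le_antisymm ?_ (le_trans (show i ≤ i - 1 + 1 by omega) (hp.2 ⟨i - 1, by omega⟩))
  refine le_trans (Submodule.finrank_mono ?_) ((finrank_ker_wedgeBy_le (p ⟨i - 1, by omega⟩).2
    (fun h0 => hp.1 _ (Subtype.ext h0))).trans (show i - 1 + 1 ≤ i by omega))
  exact fun v hv => LinearMap.mem_ker.mpr (congrFun (LinearMap.mem_ker.mp hv) ⟨_, le_rfl⟩)

theorem flagFil_top (p : ∀ i, FlagSpace k V i) : flagFil p (Module.finrank k V + 1) = ⊤ := by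
  simp [flagFil]

theorem flagFil_top' {p : ∀ i, FlagSpace k V i} (hp : IsFlag p) : flagFil p (Module.finrank k V) = ⊤ :=
  Submodule.eq_top_of_finrank_eq (finrank_flagFil hp _ le_rfl)

/-- The stabiliser of the lines of a flag preserves the flag. -/
theorem mem_fil_of_fix {p : ∀ i, FlagSpace k V i} {g : Pt k A k}
    (hg : ∀ i, ∃ c : k, c ≠ 0 ∧ flagRep ρ i g (p i) = c • p i) : ρ g ∈ AlgGrpQ.fil (flagFil p) 0 := by
  rw [AlgGrpQ.mem_fil]
  intro i v hv
  rw [add_zero] at hv
  rcases Nat.eq_zero_or_pos i with rfl | hi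
  · simp only [flagFil, if_true, Submodule.mem_bot] at hv ⊢
    rw [hv, map_zero]
  simp only [flagFil, hi.ne', if_false] at hv ⊢
  by_cases h : i - 1 < Module.finrank k V
  · rw [dif_pos h] at hv ⊢
    choose c hc0 hc using hg
    refine mem_ker_upperWedge_of_smul ρ (c := fun l => (c l)⁻¹) (fun l => ?_) hv
    rw [hc l, inv_smul_smul₀ (hc0 l)]
  · rw [dif_neg h]; trivial

end Groth.Agent.RedRk29
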