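import Groth.Agent.RedRk29.Double
import Groth.Agent.RedRk29.Flag

/-!
# One-parameter subgroups fixing the fixed points of a torus fix the orbit
-/

set_option autoImplicit false

universe u

open TensorProduct WithConv
open scoped AddMonoidAlgebra

namespace Groth.Agent.RedRk29

open BigCell29
open AlgGrpQ (fil)

section Defs

variable (k : Type u) [Field k] (A : Type u) [CommRing A] [HopfAlgebra k A]

/-- There is no nontrivial irreducible normal subgroup acting unipotently. -/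
def NoUnipotentNormal : Prop :=
  ∀ (V : Type u) [AddCommGroup V] [Module k V] [Module.Finite k V] (ρ : Pt k A k →* Module.End k V),
    IsRegRep ρ → Generates ρ → ∀ H : Subgroup (Pt k A k), H.Normal →
      (∀ a b : A, (∀ g ∈ H, g.ofConv (a * b) = 0) → (∀ g ∈ H, g.ofConv a = 0) ∨ ∀ g ∈ H, g.ofConv b = 0) →
      (∀ g ∈ H, IsNilpotent (ρ g - 1)) → H = ⊥

variable {k A}

/-- A one-parameter subgroup with polynomial coordinates. -/
structure IsCurve (u : k → Pt k A k) : Prop where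
  zero : u 0 = 1
  add : ∀ x y, u (x + y) = u x * u y
  poly : ∀ a : A, ∃ P : Polynomial k, ∀ y, (u y).ofConv a = P.eval y

theorem IsCurve.inv {u : k → Pt k A k} (hu : IsCurve u) (y : k) : (u y)⁻¹ = u (-y) := by
  refine inv_eq_of_mul_eq_one_right ?_
  rw [← hu.add, add_neg_cancel, hu.zero]

theorem IsCurve.exists_expand {W : Type u} [AddCommGroup W] [Module k W] {u : k → Pt k A k} (hu : IsCurve u)
    {π : Pt k A k →* Module.End k W} (hπ : IsRegRep π) (v : W) :
    ∃ f : ℕ →₀ W, ∀ y, π (u y) v = f.sum fun n w => y ^ n • w := by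
  classical
  obtain ⟨z, hz⟩ := hπ v
  suffices ∀ z : A ⊗[k] W, ∃ f : ℕ →₀ W, ∀ y, ev (u y) z = f.sum fun n w => y ^ n • w by
    obtain ⟨f, hf⟩ := this z
    exact ⟨f, fun y => by rw [hz, hf]⟩
  intro z
  induction z using TensorProduct.induction_on with
  | zero => exact ⟨0, fun y => by simp⟩
  | tmul a w =>
    obtain ⟨P, hP⟩ := hu.poly a
    refine ⟨∑ n ∈ P.support, Finsupp.single n (P.coeff n • w), fun y => ?_⟩
    rw [ev_tmul, hP, ← Finsupp.sum_finsetSum_index (fun _ => smul_zero _) fun _ _ _ => smul_add _ _ _,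
      Polynomial.eval_eq_sum, Polynomial.sum, Finset.sum_smul]
    refine Finset.sum_congr rfl fun n _ => ?_
    rw [Finsupp.sum_single_index (h := fun x w => y ^ x • w) (smul_zero _), smul_smul, mul_comm]
  | add z z' hz hz' =>
    obtain ⟨f, hf⟩ := hz
    obtain ⟨f', hf'⟩ := hz'
    refine ⟨f + f', fun y => ?_⟩
    rw [map_add, hf, hf', Finsupp.sum_add_index' (fun _ => smul_zero _) fun _ _ _ => smul_add _ _ _]

end Defs

variable {M ι J : Type} [AddCommGroup M] [Module.Free ℤ M] [Module.Finite ℤ M] [Fintype ι] [Fintype J]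
variable {k : Type u} [Field k] [IsAlgClosed k] {A : Type u} [CommRing A] [HopfAlgebra k A]
variable {W : J → Type u} [∀ j, AddCommGroup (W j)] [∀ j, Module k (W j)] [∀ j, Module.Finite k (W j)]
variable (F : Frame k A M ι) [Algebra.Smooth k A] [IsDomain A]
variable {π : ∀ j, Pt k A k →* Module.End k (W j)} {p₀ : ∀ j, W j}
variable {V : Type u} [AddCommGroup V] [Module k V] [Module.Finite k V] {ρ : Pt k A k →* Module.End k V}

/-- A curve fixing the torus fixed points of the augmented orbit fixes the orbit. -/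
theorem fix_orbit (hπ : ∀ j, IsRegRep (π j)) (hρ : IsRegRep ρ) (hgen : Generates ρ) (hne : ∀ i, F.root i ≠ 0)
    (hcl : IsClosedOrbit π p₀) (htri : ∀ q ∈ Cl π p₀, Nondeg q → HasTri π ρ q) {q₀ : ∀ s, W2 π p₀ s}
    (h2 : IsClosedOrbit (π2 π p₀) q₀) (h0 : fstP π p₀ q₀ ∈ Cl π p₀) {u : k → Pt k A k} (hu : IsCurve u)
    (hfix : ∀ e me, e ∈ Cl (π2 π p₀) q₀ → Eig F (π2 π p₀) e me → ∀ y s, π2 π p₀ s (u y) (e s) = e s)
    {z : ∀ j, W j} (hz : z ∈ Cl π p₀) (hzn : Nondeg z) (y : k) (j : J) : π j (u y) (z j) = z j := by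
  classical
  choose f hf using fun j => hu.exists_expand (hπ j) (z j)
  have hf0 : ∀ j, f j 0 = z j := fun j => by
    have h := hf j 0
    rw [hu.zero, map_one, Module.End.one_apply, Finsupp.sum] at h
    rw [h, Finset.sum_eq_single 0]
    · simp
    · intro n _ hn; simp [hn]
    · intro hn; simp [Finsupp.notMem_support_iff.mp hn]
  have hne' : ∀ j, (f j).support.Nonempty := fun j => ⟨0, Finsupp.mem_support_iff.mpr (hf0 j ▸ hzn j)⟩
  let N : J → ℕ := fun j => (f j).support.max' (hne' j)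
  suffices hN : N j = 0 by
    rw [hf j y, ← hf0 j, Finsupp.sum, Finset.sum_eq_single 0]
    · simp
    · intro n hn hn0
      exact absurd ((f j).support.le_max' n hn) (fun h : n ≤ N j => by omega)
    · intro hn; simp [Finsupp.notMem_support_iff.mp hn]
  by_contra hN
  let c : k → ∀ j, W j := fun t j => ∑ n ∈ (f j).support, t ^ (N j - n) • f j n
  have hc0 : c 0 = fun j => f j (N j) := funext fun j => by
    show ∑ n ∈ (f j).support, (0 : k) ^ (N j - n) • f j n = _
    rw [Finset.sum_eq_single (N j)]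
    · simp
    · intro n hn hn'
      have : n ≤ N j := (f j).support.le_max' n hn
      rw [zero_pow (by omega), zero_smul]
    · intro hn; simp [Finsupp.notMem_support_iff.mp hn]
  have hcl' : c 0 ∈ Cl π p₀ := by
    refine cl_curve π (fun i => ?_) fun t ht => cl_orb π hz ⟨u t⁻¹, fun j => t ^ N j, fun j => ?_⟩
    · refine ⟨∑ n ∈ (f i.1).support, Polynomial.C ((Module.finBasis k (W i.1)).repr (f i.1 n) i.2) *
        Polynomial.X ^ (N i.1 - n), fun t => ?_⟩
      simp only [crd, c, map_sum, map_smul, Finsupp.coe_finsetSum, Finset.sum_apply, Finsupp.smul_apply,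
        smul_eq_mul, Polynomial.eval_finsetSum, Polynomial.eval_mul, Polynomial.eval_C, Polynomial.eval_pow,
        Polynomial.eval_X]
      exact Finset.sum_congr rfl fun n _ => mul_comm _ _
    · rw [hf j, Finsupp.sum, Finset.smul_sum]
      refine Finset.sum_congr rfl fun n hn => ?_
      have : n ≤ N j := (f j).support.le_max' n hn
      rw [smul_smul, inv_pow, pow_sub₀ _ ht this]
  have hn' : Nondeg (c 0) := fun j => by
    rw [hc0]
    exact Finsupp.mem_support_iff.mp ((f j).support.max'_mem (hne' j))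
  obtain ⟨e, me, he, hee, hpair⟩ := exists_cover hπ F hcl hρ hgen hne htri h2 h0 hcl' hn'
  obtain ⟨ψ, hψ⟩ := LinearMap.exists_extend (sndP π p₀ e j)
  have hψ' : ∀ w : orbSpan π p₀ j, ψ (w : W j) = sndP π p₀ e j w := fun w => LinearMap.congr_fun hψ w
  let zj : orbSpan π p₀ j := ⟨z j, mem_orbSpan π p₀ (hcl.2 z hz hzn) j⟩
  have hconst : ∀ y, ψ (π j (u y) (z j)) = ψ (z j) := fun y => by
    have h := LinearMap.congr_fun (hfix e me he hee y (.inr j)) (spanRep π p₀ j (u y) zj)
    change sndP π p₀ e j (spanRep π p₀ j (u y)⁻¹ (spanRep π p₀ j (u y) zj)) =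
      sndP π p₀ e j (spanRep π p₀ j (u y) zj) at h
    rw [← Module.End.mul_apply, ← map_mul, inv_mul_cancel, map_one, Module.End.one_apply] at h
    rw [← show (spanRep π p₀ j (u y) zj : W j) = π j (u y) (z j) from rfl, hψ', ← h, ← hψ']
  let P : Polynomial k := ∑ n ∈ (f j).support, Polynomial.monomial n (ψ (f j n))
  have hP : P = Polynomial.C (ψ (z j)) := Polynomial.funext fun y => by
    rw [Polynomial.eval_C, ← hconst y, hf j y, Finsupp.sum, map_sum]
    simp [P, Polynomial.eval_finsetSum, mul_comm]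
  have hcoef := congrArg (fun P : Polynomial k => P.coeff (N j)) hP
  simp only [P, Polynomial.finsetSum_coeff, Polynomial.coeff_monomial, Polynomial.coeff_C, Finset.sum_ite_eq',
    if_neg hN] at hcoef
  rw [if_pos ((f j).support.max'_mem (hne' j))] at hcoef
  have hmem : f j (N j) ∈ orbSpan π p₀ j := by
    have := mem_orbSpan π p₀ (hcl.2 (c 0) hcl' hn') j
    rwa [show c 0 j = f j (N j) from congrFun hc0 j] at this
  refine hpair j ?_
  rw [← hψ', show ((⟨c 0 j, mem_orbSpan π p₀ (hcl.2 (c 0) hcl' hn') j⟩ : orbSpan π p₀ j) : W j) =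
    f j (N j) from congrFun hc0 j, hcoef]

omit [Fintype ι] [Module.Free ℤ M] [Module.Finite ℤ M] in
/-- A closed orbit of flags with triangular stabilisers in a generating representation. -/
theorem exists_base :
    ∃ (V : Type u) (_ : AddCommGroup V) (_ : Module k V) (_ : Module.Finite k V)
      (ρ : Pt k A k →* Module.End k V) (p : ∀ i, FlagSpace k V i),
      IsRegRep ρ ∧ Generates ρ ∧ IsClosedOrbit (flagRep ρ) p ∧
        ∀ q ∈ Cl (flagRep ρ) p, Nondeg q → HasTri (flagRep ρ) ρ q := by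
  haveI : Algebra.FinitePresentation k A := Algebra.Smooth.finitePresentation
  haveI : Algebra.FiniteType k A := Algebra.FiniteType.of_finitePresentation
  obtain ⟨s, hs⟩ := (Algebra.FiniteType.out : (⊤ : Subalgebra k A).FG)
  letI : HopfRep.Comod k A A := HopfRep.Comod.regular k A
  obtain ⟨U, hUf, hsU, hU⟩ := ComodLib.exists_finite_subcomod_le (k := k) (C := A) (V := A) s.finite_toSet
  letI cU : HopfRep.Comod k A U := ComodSub.Comod.restr (HopfRep.Comod.regular k A) U hU
  have hi : Hoch.IsComodHom A U.subtype := ComodSub.isComodHom_subtype _ U hU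
  let ρ := AlgGrpQ.rho k A U
  have hgen : Generates ρ := by
    refine top_le_iff.mp (hs ▸ Algebra.adjoin_mono fun a ha => ?_)
    refine ⟨⟨a, Set.mem_of_subset_of_mem hsU ha⟩, (Coalgebra.counit (R := k)).comp U.subtype, fun g => ?_⟩
    rw [LinearMap.comp_apply, ← AlgGrpQ.counit_rho g a]
    refine congrArg _ ?_
    rw [AlgGrpQ.rho_apply, ComodLib.comodHom_actF hi, AlgGrpQ.rho_apply]
    rfl
  obtain ⟨f₀, hf₀⟩ := exists_isFlag (k := k) (V := U)
  obtain ⟨p, hp, hmin⟩ := exists_minimal (flagRep ρ) {p | IsFlag p} ⟨f₀, hf₀⟩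
  refine ⟨U, inferInstance, inferInstance, hUf, ρ, p, isRegRep_rho, hgen, ⟨hp.1, fun q hq hn => ?_⟩,
    fun q hq hn => ?_⟩
  · exact mem_orb_of_vIdeal_eq (fun i => isRegRep_flagRep isRegRep_rho i) hp.1 hn
      (hmin q (isFlag_of_mem_cl ρ hp hq hn) hq)
  · have hfl := isFlag_of_mem_cl ρ hp hq hn
    exact ⟨_, flagFil q, monotone_flagFil q, by simp [flagFil], flagFil_top' hfl,
      finrank_flagFil hfl, fun g hg => mem_fil_of_fix ρ hg⟩

omit [Fintype ι] [Module.Free ℤ M] [Module.Finite ℤ M] in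
/-- A curve fixing a closed orbit with triangular stabilisers and acting unipotently is trivial. -/
theorem eq_one_of_fix_orbit (hred : NoUnipotentNormal k A) (hρ : IsRegRep ρ) (hgen : Generates ρ)
    (hcl : IsClosedOrbit π p₀) (htri : ∀ q ∈ Cl π p₀, Nondeg q → HasTri π ρ q)
    {u : k → Pt k A k} (hu : IsCurve u) (hnil : ∀ y, IsNilpotent (ρ (u y) - 1))
    (hfix : ∀ z ∈ Cl π p₀, Nondeg z → ∀ y j, π j (u y) (z j) = z j) (y : k) : u y = 1 := by
  classical
  let Fx : Subgroup (Pt k A k) :=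
    { carrier := {g | ∀ z ∈ Cl π p₀, Nondeg z → ∀ j, π j g (z j) = z j}
      one_mem' := fun z _ _ j => by simp
      mul_mem' := fun {g h} hg hh z hz hn j => by
        rw [map_mul, Module.End.mul_apply, hh z hz hn j, hg z hz hn j]
      inv_mem' := fun {g} hg z hz hn j => by
        conv_lhs => rw [← hg z hz hn j]
        rw [← Module.End.mul_apply, ← map_mul, inv_mul_cancel, map_one, Module.End.one_apply] }
  haveI : Fx.Normal := ⟨fun g hg h z hz hn j => by
    have h1 := hg (fun j => π j h⁻¹ (z j)) (cl_orb π hz ⟨h⁻¹, 1, fun j => by simp⟩) (fun j h0 => hn j (by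
      have := congrArg (π j h) (show π j h⁻¹ (z j) = 0 from h0)
      rwa [map_zero, ← Module.End.mul_apply, ← map_mul, mul_inv_cancel, map_one, Module.End.one_apply] at this)) j
    show π j (h * g * h⁻¹) (z j) = z j
    rw [map_mul, map_mul, Module.End.mul_apply, Module.End.mul_apply, h1, ← Module.End.mul_apply, ← map_mul,
      mul_inv_cancel, map_one, Module.End.one_apply]⟩
  let H : Subgroup (Pt k A k) := Subgroup.normalClosure (Set.range u)
  have hle : H ≤ Fx := Subgroup.normalClosure_le_normal (by rintro _ ⟨y, rfl⟩; exact fun z hz hn => hfix z hz hn y)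
  obtain ⟨n, fl, hfl, hf0, hfn, hrk, hst⟩ := htri p₀ (orb_subset_cl π p₀ (mem_orb_self π p₀)) hcl.1
  have hfil : ∀ g ∈ H, ρ g ∈ fil fl 0 := fun g hg =>
    hst g (fix_mem_lineStab π (hle hg p₀ (orb_subset_cl π p₀ (mem_orb_self π p₀)) hcl.1))
  have hone : ∀ g ∈ H, ρ g - 1 ∈ fil fl 1 := by
    intro g hg
    induction hg using Subgroup.closure_induction with
    | mem g hg =>
      refine sub_one_mem_fil_one hfl hf0 hfn hrk (hfil g (Subgroup.subset_closure hg)) ?_
      obtain ⟨_, ⟨y, rfl⟩, hc⟩ := Group.mem_conjugatesOfSet_iff.mp hg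
      obtain ⟨c, rfl⟩ := isConj_iff.mp hc
      obtain ⟨m, hm⟩ := hnil y
      refine ⟨m, ?_⟩
      have e : ρ (c * u y * c⁻¹) - 1 = ρ c * (ρ (u y) - 1) * ρ c⁻¹ := by
        rw [map_mul, map_mul, mul_sub, sub_mul, mul_one, ← map_mul ρ c c⁻¹, mul_inv_cancel, map_one]
      have hcc : ρ c⁻¹ * ρ c = 1 := by rw [← map_mul, inv_mul_cancel, map_one]
      have hpow : ∀ m, (ρ c * (ρ (u y) - 1) * ρ c⁻¹) ^ m * ρ c = ρ c * (ρ (u y) - 1) ^ m := fun m => by
        induction m with
        | zero => simp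
        | succ m ih =>
          calc (ρ c * (ρ (u y) - 1) * ρ c⁻¹) ^ (m + 1) * ρ c
              = ((ρ c * (ρ (u y) - 1) * ρ c⁻¹) ^ m * ρ c) * ((ρ (u y) - 1) * (ρ c⁻¹ * ρ c)) := by
                rw [pow_succ]; noncomm_ring
            _ = _ := by rw [ih, hcc, mul_one, pow_succ, mul_assoc]
      rw [e]
      have h2 := congrArg (· * ρ c⁻¹) (hpow m)
      simp only [hm, mul_zero, zero_mul, mul_assoc] at h2
      rwa [show ρ c * ρ c⁻¹ = 1 by rw [← map_mul, mul_inv_cancel, map_one], mul_one, ← mul_assoc] at h2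
    | one => simp
    | mul g h hgm hhm hg hh =>
      have e : ρ (g * h) - 1 = ρ g * (ρ h - 1) + (ρ g - 1) := by rw [map_mul, mul_sub, mul_one]; abel
      rw [e]
      exact Submodule.add_mem _ (by simpa using AlgGrpQ.mul_mem_fil (hfil g hgm) hh) hg
    | inv g hgm hg =>
      have e : ρ g⁻¹ - 1 = -(ρ g⁻¹ * (ρ g - 1)) := by
        rw [mul_sub, ← map_mul, inv_mul_cancel, map_one, mul_one, neg_sub]
      rw [e]
      exact Submodule.neg_mem _ (by simpa using AlgGrpQ.mul_mem_fil (hfil _ (inv_mem hgm)) hg)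
  have hcurve : ∀ g ∈ H, ∃ (m : ℕ) (Φ : (Fin m → k) → Pt k A k),
      (∀ a : A, ∃ P : MvPolynomial (Fin m) k, ∀ x, (Φ x).ofConv a = MvPolynomial.eval x P) ∧
        (∀ x, Φ x ∈ H) ∧ g ∈ Set.range Φ ∧ 1 ∈ Set.range Φ := by
    intro g hg
    induction hg using Subgroup.closure_induction with
    | mem g hg =>
      obtain ⟨_, ⟨y, rfl⟩, hc⟩ := Group.mem_conjugatesOfSet_iff.mp hg
      obtain ⟨c, rfl⟩ := isConj_iff.mp hc
      refine ⟨1, fun x : Fin 1 → k => c * u (x 0) * c⁻¹, fun a => ?_, fun x => ?_, ⟨fun _ => y, rfl⟩,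
        ⟨fun _ => 0, by simp [hu.zero]⟩⟩
      · obtain ⟨b, hb⟩ := exists_conj c a
        obtain ⟨P, hP⟩ := hu.poly b
        exact ⟨Polynomial.aeval (MvPolynomial.X 0) P, fun x => by
          rw [hb, hP, ← Polynomial.coe_aeval_eq_eval, ← MvPolynomial.aeval_eq_eval,
            ← Polynomial.aeval_algHom_apply]
          simp⟩
      · exact Subgroup.normalClosure_normal.conj_mem _
          (Subgroup.subset_normalClosure (Set.mem_range_self (x 0))) c
    | one =>
      exact ⟨0, fun _ => 1, fun a => ⟨MvPolynomial.C ((1 : Pt k A k).ofConv a), fun x => by simp⟩,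
        fun _ => one_mem _, ⟨fun i => i.elim0, rfl⟩, ⟨fun i => i.elim0, rfl⟩⟩
    | mul g h _ _ hg hh =>
      obtain ⟨m₁, Φ₁, hp₁, hH₁, ⟨x₁, hx₁⟩, ⟨o₁, ho₁⟩⟩ := hg
      obtain ⟨m₂, Φ₂, hp₂, hH₂, ⟨x₂, hx₂⟩, ⟨o₂, ho₂⟩⟩ := hh
      refine ⟨m₁ + m₂, fun x => Φ₁ (fun i => x (Fin.castAdd m₂ i)) * Φ₂ (fun i => x (Fin.natAdd m₁ i)),
        fun a => ?_, fun x => mul_mem (hH₁ _) (hH₂ _), ⟨Fin.append x₁ x₂, by simp [hx₁, hx₂]⟩,
        ⟨Fin.append o₁ o₂, by simp [ho₁, ho₂]⟩⟩
      suffices ∀ t : A ⊗[k] A, ∃ P : MvPolynomial (Fin (m₁ + m₂)) k, ∀ x,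
          Algebra.TensorProduct.lift (Φ₁ fun i => x (Fin.castAdd m₂ i)).ofConv
            (Φ₂ fun i => x (Fin.natAdd m₁ i)).ofConv (fun _ _ => Commute.all _ _) t = MvPolynomial.eval x P by
        obtain ⟨P, hP⟩ := this (Coalgebra.comul (R := k) a)
        refine ⟨P, fun x => ?_⟩
        rw [← hP x, AlgHom.convMul_apply]
      intro t
      induction t using TensorProduct.induction_on with
      | zero => exact ⟨0, fun x => by simp⟩
      | tmul b b' =>
        obtain ⟨P₁, hP₁⟩ := hp₁ b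
        obtain ⟨P₂, hP₂⟩ := hp₂ b'
        exact ⟨MvPolynomial.rename (Fin.castAdd m₂) P₁ * MvPolynomial.rename (Fin.natAdd m₁) P₂, fun x => by
          simp [hP₁, hP₂, MvPolynomial.eval_rename, Function.comp_def]⟩
      | add t t' ht ht' =>
        obtain ⟨P, hP⟩ := ht
        obtain ⟨P', hP'⟩ := ht'
        exact ⟨P + P', fun x => by simp [hP, hP']⟩
    | inv g _ hg =>
      obtain ⟨m, Φ, hp, hH, ⟨x₁, hx₁⟩, ⟨o, ho⟩⟩ := hg
      refine ⟨m, fun x => (Φ x)⁻¹, fun a => ?_, fun x => inv_mem (hH x), ⟨x₁, by simp [hx₁]⟩, ⟨o, by simp [ho]⟩⟩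
      obtain ⟨P, hP⟩ := hp (HopfAlgebra.antipode k a)
      exact ⟨P, fun x => by rw [← hP]; rfl⟩
  have hprime : ∀ a b : A, (∀ g ∈ H, g.ofConv (a * b) = 0) →
      (∀ g ∈ H, g.ofConv a = 0) ∨ ∀ g ∈ H, g.ofConv b = 0 := by
    intro a b hab
    by_contra hcon
    push Not at hcon
    obtain ⟨⟨g, hg, hga⟩, h, hh, hhb⟩ := hcon
    obtain ⟨m₁, Φ₁, hp₁, hH₁, ⟨x₁, hx₁⟩, ⟨o₁, ho₁⟩⟩ := hcurve g hg
    obtain ⟨m₂, Φ₂, hp₂, hH₂, ⟨x₂, hx₂⟩, ⟨o₂, ho₂⟩⟩ := hcurve h hh
    let Φ : (Fin (m₁ + m₂) → k) → Pt k A k := fun x =>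
      Φ₁ (fun i => x (Fin.castAdd m₂ i)) * Φ₂ (fun i => x (Fin.natAdd m₁ i))
    have hp : ∀ t : A ⊗[k] A, ∃ P : MvPolynomial (Fin (m₁ + m₂)) k, ∀ x,
        Algebra.TensorProduct.lift (Φ₁ fun i => x (Fin.castAdd m₂ i)).ofConv
          (Φ₂ fun i => x (Fin.natAdd m₁ i)).ofConv (fun _ _ => Commute.all _ _) t = MvPolynomial.eval x P := by
      intro t
      induction t using TensorProduct.induction_on with
      | zero => exact ⟨0, fun x => by simp⟩
      | tmul b b' =>
        obtain ⟨P₁, hP₁⟩ := hp₁ b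
        obtain ⟨P₂, hP₂⟩ := hp₂ b'
        exact ⟨MvPolynomial.rename (Fin.castAdd m₂) P₁ * MvPolynomial.rename (Fin.natAdd m₁) P₂, fun x => by
          simp [hP₁, hP₂, MvPolynomial.eval_rename, Function.comp_def]⟩
      | add t t' ht ht' =>
        obtain ⟨P, hP⟩ := ht
        obtain ⟨P', hP'⟩ := ht'
        exact ⟨P + P', fun x => by simp [hP, hP']⟩
    obtain ⟨Pa, hPa⟩ := hp (Coalgebra.comul (R := k) a)
    obtain ⟨Pb, hPb⟩ := hp (Coalgebra.comul (R := k) b)
    have ha : ∀ x, (Φ x).ofConv a = MvPolynomial.eval x Pa := fun x => by rw [← hPa x, AlgHom.convMul_apply]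
    have hb : ∀ x, (Φ x).ofConv b = MvPolynomial.eval x Pb := fun x => by rw [← hPb x, AlgHom.convMul_apply]
    have hzero : Pa * Pb = 0 := MvPolynomial.funext fun x => by
      rw [map_mul, ← ha, ← hb, ← map_mul, map_zero]
      exact hab _ (mul_mem (hH₁ _) (hH₂ _))
    rcases mul_eq_zero.mp hzero with h0 | h0
    · refine hga ?_
      have := ha (Fin.append x₁ o₂)
      rw [h0, map_zero] at this
      simpa [Φ, hx₁, ho₂] using this
    · refine hhb ?_
      have := hb (Fin.append o₁ x₂)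
      rw [h0, map_zero] at this
      simpa [Φ, hx₂, ho₁] using this
  have hnilH : ∀ g ∈ H, IsNilpotent (ρ g - 1) := fun g hg => ⟨n, AlgGrpQ.eq_zero_of_mem_fil hf0 hfn (by
    have hp : ∀ m, (ρ g - 1) ^ (m + 1) ∈ fil fl (m + 1) := fun m => by
      induction m with
      | zero => simpa using hone g hg
      | succ m ih => rw [pow_succ]; exact AlgGrpQ.mul_mem_fil ih (hone g hg)
    cases n with
    | zero => simpa using AlgGrpQ.one_mem_fil
    | succ m => exact hp m)⟩
  have hbot := hred V ρ hρ hgen H inferInstance hprime hnilH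
  exact (Subgroup.eq_bot_iff_forall H).mp hbot _ (Subgroup.subset_normalClosure ⟨y, rfl⟩)

end Groth.Agent.RedRk29
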