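import Groth.Agent.RedRk29.Extremal
import Groth.Agent.BigCell29.CellAlg
import Mathlib.AlgebraicGeometry.Properties

/-!
# Centralisers of cocharacters are irreducible, and the torus is its own centraliser
-/

set_option autoImplicit false

universe u

open TensorProduct WithConv
open scoped AddMonoidAlgebra

namespace Groth.Agent.RedRk29

open BigCell29

variable {k : Type u} [Field k] {A : Type u} [CommRing A] [HopfAlgebra k A]

section Domain

open AlgebraicGeometry CategoryTheory

/-- The fixed subgroup of an action of the multiplicative group on a connected smooth group is irreducible. -/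
theorem isDomain_zRing [Algebra.Smooth k A] [IsDomain A] (D : Coact k A ℤ) : IsDomain D.ZRing := by
  haveI : Algebra.FinitePresentation k A := Algebra.Smooth.finitePresentation
  haveI : Algebra.FormallySmooth k A := Algebra.Smooth.formallySmooth
  haveI := D.isOpenImmersion_cellMor
  haveI : IsIntegral (Spec (CommRingCat.of A)) := (affine_isIntegral_iff _).mpr ‹_›
  have φ : D.CellRing →ₐ[k] k := D.cellLift (D.inv.inU_one) (D.inZ_one) (D.inU_one)
  haveI : Nontrivial D.CellRing := RingHom.domain_nontrivial φ.toRingHom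
  haveI : Nonempty (Spec (CommRingCat.of D.CellRing)) := inferInstanceAs (Nonempty (PrimeSpectrum D.CellRing))
  haveI := isIntegral_of_isOpenImmersion D.cellMor
  haveI : IsDomain D.CellRing := (affine_isIntegral_iff (CommRingCat.of D.CellRing)).mp ‹_›
  have h : (D.cellLift (D.inv.inU_one (B := D.ZRing)) D.inZ_zPt D.inU_one).comp D.inclZ = AlgHom.id k D.ZRing := by
    rw [D.cellLift_inclZ]
    exact D.zHom_ext (by rw [D.mapPt_zLift, mapPt_id])
  have hinj : Function.Injective D.inclZ := fun a b hab => by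
    have := congrArg (D.cellLift (D.inv.inU_one (B := D.ZRing)) D.inZ_zPt D.inU_one) hab
    rwa [← AlgHom.comp_apply, ← AlgHom.comp_apply, h] at this
  exact Function.Injective.isDomain D.inclZ hinj

end Domain

variable {M ι : Type} [AddCommGroup M] (F : Frame k A M ι) [IsAlgClosed k]

theorem eval_act (g : Pt k A k) (χ : Multiplicative M →* k) (a : A) :
    (AddMonoidAlgebra.lift k k M χ) (F.T.coact.act g a) = (F.T.tor χ * g * (F.T.tor χ)⁻¹) a := by
  have h : mapPt (AddMonoidAlgebra.lift k k M χ) (F.T.coact.act g) = F.T.tor χ * g * (F.T.tor χ)⁻¹ := by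
    rw [F.T.act_eq, map_mul, map_mul, map_inv, F.T.mapPt_tor, mapPt_mapPt]
    have e1 : (AddMonoidAlgebra.lift k k M χ).toRingHom.toMonoidHom.comp (univChar k M) = χ := by ext m; simp
    have e2 : (AddMonoidAlgebra.lift k k M χ).comp AddMonoidAlgebra.singleZeroAlgHom = AlgHom.id k k :=
      Subsingleton.elim _ _
    rw [e1, e2, mapPt_id]
  exact DFunLike.congr_fun (congrArg WithConv.ofConv h) a

variable [Module.Free ℤ M] [Module.Finite ℤ M]

omit [IsAlgClosed k] in
theorem lift_cchar (μ : M →+ ℤ) (s : kˣ) (P : k[M]) :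
    AddMonoidAlgebra.lift k k ℤ (cchar (AddMonoidHom.id ℤ) s) (AddMonoidAlgebra.mapDomainAlgHom k k μ P) =
      AddMonoidAlgebra.lift k k M (cchar μ s) P := by
  rw [AddMonoidAlgebra.mapDomainAlgHom_apply]
  induction P using AddMonoidAlgebra.induction_linear with
  | zero => simp
  | add x y hx hy => simp only [map_add, AddMonoidAlgebra.mapDomain_add, hx, hy]
  | single m c =>
    rw [AddMonoidAlgebra.mapDomain_single, AddMonoidAlgebra.lift_single, AddMonoidAlgebra.lift_single]
    rfl

theorem inZ_iff_comm {μ : M →+ ℤ} {g : Pt k A k} :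
    (F.cochar μ).InZ g ↔ ∀ s : kˣ, F.T.tor (cchar μ s) * g = g * F.T.tor (cchar μ s) := by
  constructor
  · intro hg s
    rw [← mul_inv_eq_iff_eq_mul]
    refine pt_ext fun a => ?_
    rw [← eval_act, ← lift_cchar μ s]
    have e : (AddMonoidAlgebra.mapDomainAlgHom k k μ) (F.T.coact.act g a) = (F.cochar μ).act g a := by
      rw [Coact.act_push]; rfl
    rw [e, ((F.cochar μ).inZ_iff g).mp hg, mapPt_apply, AddMonoidAlgebra.singleZeroAlgHom_apply,
      AddMonoidAlgebra.lift_single, ofAdd_zero, map_one, smul_eq_mul, mul_one]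
  · intro h
    rw [Coact.inZ_iff]
    refine pt_ext fun a => ?_
    rw [← sub_eq_zero]
    refine AddMonoidAlgebra.coeff_injective ?_
    rw [AddMonoidAlgebra.coeff_zero]
    refine eq_zero_of_sum_char_mul_eq_zero (k := k) (M := ℤ) fun χ => ?_
    set P := (F.cochar μ).act g a - mapPt AddMonoidAlgebra.singleZeroAlgHom g a
    have hs : IsUnit (χ (Multiplicative.ofAdd 1)) := (Group.isUnit _).map χ
    obtain ⟨s, hs⟩ := hs
    have hχ : χ = cchar (AddMonoidHom.id ℤ) s := MonoidHom.ext_mint (by simp [cchar, hs])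
    have : (P.coeff.sum fun m r => r * χ (Multiplicative.ofAdd m)) = AddMonoidAlgebra.lift k k ℤ χ P := by
      rw [AddMonoidAlgebra.lift_apply]
      exact Finset.sum_congr rfl fun m _ => rfl
    rw [this, hχ, map_sub, sub_eq_zero]
    have e : (F.cochar μ).act g a = AddMonoidAlgebra.mapDomainAlgHom k k μ (F.T.coact.act g a) := by
      rw [Coact.act_push]; rfl
    rw [e, lift_cchar, eval_act, h s, mul_inv_cancel_right, mapPt_apply, AddMonoidAlgebra.singleZeroAlgHom_apply,
      AddMonoidAlgebra.lift_single, ofAdd_zero, map_one, smul_eq_mul, mul_one]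

variable [Fintype ι] [Algebra.Smooth k A] [IsDomain A]

/-- A function vanishing on a dense part of a fixed subgroup vanishes on it. -/
theorem vanish_inZ {μ : M →+ ℤ} {c : A} (hc : Coalgebra.counit (R := k) c ≠ 0) {a : A}
    (h : ∀ g : Pt k A k, (F.cochar μ).InZ g → g.ofConv c ≠ 0 → g.ofConv a = 0) {g : Pt k A k}
    (hg : (F.cochar μ).InZ g) : g.ofConv a = 0 := by
  set D := F.cochar μ
  haveI := isDomain_zRing D
  haveI : Algebra.FinitePresentation k A := Algebra.Smooth.finitePresentation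
  haveI : Algebra.FiniteType k A := Algebra.FiniteType.of_finitePresentation
  haveI : Algebra.FiniteType k D.ZRing :=
    .of_surjective (Ideal.Quotient.mkₐ k D.idealZ) Ideal.Quotient.mk_surjective
  have h0 : D.zPt.ofConv (a * c) = 0 := by
    by_contra hne
    obtain ⟨x, hx⟩ := ComodLib.exists_point_ne_zero (k := k) (a := D.zPt.ofConv (a * c)) fun hn => hne hn.eq_zero
    refine hx ?_
    have hz : D.InZ (mapPt x D.zPt) := Coact.InZ.map D D.inZ_zPt x
    by_cases hxc : (mapPt x D.zPt).ofConv c = 0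
    · rw [map_mul, map_mul]
      exact mul_eq_zero_of_right _ hxc
    · rw [map_mul, map_mul]
      exact mul_eq_zero_of_left (h _ hz hxc) _
  rw [map_mul, mul_eq_zero] at h0
  have hcne : D.zPt.ofConv c ≠ 0 := fun h1 => hc (by
    have := congrArg (D.zLift (D.inZ_one (B := k))) h1
    rw [map_zero] at this
    have e := DFunLike.congr_fun (congrArg WithConv.ofConv (D.mapPt_zLift (D.inZ_one (B := k)))) c
    exact (by simpa using e.symm.trans this))
  have ha := congrArg (D.zLift hg) (h0.resolve_right hcne)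
  rw [map_zero] at ha
  exact (DFunLike.congr_fun (congrArg WithConv.ofConv (D.mapPt_zLift hg)) a).symm.trans ha

omit [Fintype ι] [Algebra.Smooth k A] [IsDomain A] in
theorem exists_unit_pow_ne_one {S : Set ℤ} (hS : S.Finite) : ∃ s : kˣ, ∀ n ∈ S, n ≠ 0 → ((s ^ n : kˣ) : k) ≠ 1 := by
  classical
  haveI : Infinite k := IsAlgClosed.instInfinite
  let P : Polynomial k := Polynomial.X * ∏ n ∈ hS.toFinset.filter (· ≠ 0), (Polynomial.X ^ n.natAbs - 1)
  have hP : P ≠ 0 := mul_ne_zero Polynomial.X_ne_zero (Finset.prod_ne_zero_iff.mpr fun n hn => by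
    have := (Finset.mem_filter.mp hn).2
    exact (Polynomial.monic_X_pow_sub_C 1 (by omega)).ne_zero)
  obtain ⟨x, hx⟩ := Polynomial.exists_eval_ne_zero_of_natDegree_lt_card P hP
    (lt_of_lt_of_le (Cardinal.natCast_lt_aleph0) (Cardinal.aleph0_le_mk k))
  simp only [P, Polynomial.eval_mul, Polynomial.eval_X, mul_ne_zero_iff, Polynomial.eval_prod,
    Finset.prod_ne_zero_iff, Polynomial.eval_sub, Polynomial.eval_pow, Polynomial.eval_one, sub_ne_zero] at hx
  refine ⟨Units.mk0 x hx.1, fun n hn hn0 he => hx.2 n (by simp [hn, hn0]) ?_⟩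
  rcases Int.natAbs_eq n with h | h <;> rw [h, Units.val_zpow_eq_zpow_val] at he
  · rwa [zpow_natCast] at he
  · rwa [zpow_neg, zpow_natCast, inv_eq_one] at he

/-- The torus is the fixed subgroup of a regular cocharacter. -/
theorem exists_tor_of_inZ {lam : M →+ ℤ} (hlam : ∀ i, lam (F.root i) ≠ 0) {g : Pt k A k}
    (hg : (F.cochar lam).InZ g) : ∃ χ, g = F.T.tor χ := by
  obtain ⟨n, m, eneg, epos, h⟩ := exists_signEnum F lam hlam
  obtain ⟨c, hc, hcell⟩ := exists_cell_fn F lam h
  obtain ⟨s, hs⟩ := exists_unit_pow_ne_one (k := k) (Set.finite_range fun i => lam (F.root i))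
  have hker : ∀ a, F.T.π a = 0 → g.ofConv a = 0 := fun a ha =>
    vanish_inZ F hc (fun g' hg' hgc => by
      obtain ⟨y, χ, x, e⟩ := hcell g' hgc
      rw [mem_torus_of_comm F lam h (χ₀ := cchar lam s) (fun i => by
        simpa using hs _ ⟨i, rfl⟩ (hlam i)) e ((inZ_iff_comm F).mp hg' s)]
      show AddMonoidAlgebra.lift k k M χ (F.T.π a) = 0
      rw [ha, map_zero]) hg
  obtain ⟨σ, hσ⟩ : ∃ σ : k[M] →ₐ[k] k, σ.comp F.T.π = g.ofConv := by
    refine ⟨(Ideal.Quotient.liftₐ (RingHom.ker F.T.π) g.ofConv hker).comp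
      (Ideal.quotientKerAlgEquivOfSurjective F.π_surj).symm.toAlgHom, AlgHom.ext fun a => ?_⟩
    have : (Ideal.quotientKerAlgEquivOfSurjective F.π_surj).symm (F.T.π a) =
        Ideal.Quotient.mk (RingHom.ker F.T.π) a := by
      rw [AlgEquiv.symm_apply_eq]
      rfl
    show (Ideal.Quotient.liftₐ (RingHom.ker F.T.π) g.ofConv hker)
      ((Ideal.quotientKerAlgEquivOfSurjective F.π_surj).symm (F.T.π a)) = g.ofConv a
    rw [this]
    rfl
  refine ⟨(AddMonoidAlgebra.lift k k M).symm σ, pt_ext fun a => ?_⟩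
  show g.ofConv a = AddMonoidAlgebra.lift k k M _ (F.T.π a)
  rw [Equiv.apply_symm_apply, ← hσ]
  rfl

/-- The torus is its own centraliser. -/
theorem exists_tor_of_comm (hne : ∀ i, F.root i ≠ 0) {g : Pt k A k}
    (hcomm : ∀ χ, F.T.tor χ * g = g * F.T.tor χ) : ∃ χ, g = F.T.tor χ := by
  obtain ⟨lam, hlam, -⟩ := exists_perturb (0 : M →+ ℤ) (Set.finite_range F.root)
  exact exists_tor_of_inZ F (fun i => hlam _ ⟨i, rfl⟩ (hne i)) ((inZ_iff_comm F).mpr fun s => hcomm _)

/-- The coordinates of a fixed point of the cell vanish off the fixed roots. -/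
theorem coord_eq_zero_of_inZ {μ lam : M →+ ℤ} {n m : ℕ} {eneg : Fin n → ι} {epos : Fin m → ι}
    (h : F.IsSignEnum lam eneg epos) {y : Fin n → k} {χ : Multiplicative M →* k} {x : Fin m → k}
    (hg : (F.cochar μ).InZ (F.prodPt eneg y * F.T.tor χ * F.prodPt epos x)) :
    (∀ j, μ (F.root (eneg j)) ≠ 0 → y j = 0) ∧ ∀ j, μ (F.root (epos j)) ≠ 0 → x j = 0 := by
  obtain ⟨s, hs⟩ := exists_unit_pow_ne_one (k := k) (Set.finite_range fun i => μ (F.root i))
  set χ₀ := cchar μ s with hχ₀
  have e : F.prodPt eneg (fun j => χ₀ (Multiplicative.ofAdd (F.root (eneg j))) * y j) * F.T.tor χ *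
      F.prodPt epos (fun j => χ₀ (Multiplicative.ofAdd (F.root (epos j))) * x j) =
        F.prodPt eneg y * F.T.tor χ * F.prodPt epos x := by
    rw [← conj_prodPt, ← conj_prodPt]
    calc _ = F.T.tor χ₀ * (F.prodPt eneg y * ((F.T.tor χ₀)⁻¹ * (F.T.tor χ * F.T.tor χ₀)) * F.prodPt epos x) *
          (F.T.tor χ₀)⁻¹ := by group
      _ = F.T.tor χ₀ * (F.prodPt eneg y * F.T.tor χ * F.prodPt epos x) * (F.T.tor χ₀)⁻¹ := by
        rw [← map_mul F.T.tor χ χ₀, mul_comm χ χ₀, map_mul, inv_mul_cancel_left]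
      _ = _ := by rw [hχ₀, (inZ_iff_comm F).mp hg s, mul_inv_cancel_right]
  obtain ⟨e1, -, e3⟩ := cell_unique F lam h e
  have hz : ∀ {a b : k}, a ≠ 1 → a * b = b → b = 0 := fun ha hab =>
    by_contra fun hb => ha ((mul_eq_right₀ hb).mp hab)
  exact ⟨fun j hj => hz (by simpa [hχ₀] using hs _ ⟨_, rfl⟩ hj) (congrFun e1 j),
    fun j hj => hz (by simpa [hχ₀] using hs _ ⟨_, rfl⟩ hj) (congrFun e3 j)⟩

end Groth.Agent.RedRk29
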