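import Groth.Agent.RedRk29.BruhatPts
import Groth.Agent.RedRk29.Centr
import Groth.Agent.RedRk29.Geom
import Groth.Agent.BigCell29.CellMap
import Groth.Agent.BigCell29.Global

/-!
# Translates of the big cell by Weyl elements cover the group
-/

set_option autoImplicit false
set_option maxHeartbeats 800000

universe u

open CategoryTheory CategoryTheory.Limits MonoidalCategory CartesianMonoidalCategory AlgebraicGeometry
open TensorProduct WithConv
open scoped AddMonoidAlgebra MonObj GrpObj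

noncomputable section

namespace Groth.Agent.RedRk29

open BigCell29 GrpSchLib GrpSchLib.AffineHopf Rank2Red38 RedSub30.RootPoly

variable {S : Scheme.{u}} {G : Over S} [GrpObj G] (D : Red.SplitRed G)

/-- An affine model with a frame of a geometric fibre. -/
theorem exists_geom_frame (s : S) :
    ∃ (A : Type u) (_ : CommRing A) (_ : HopfAlgebra (AlgebraicClosure (S.residueField s)) A)
      (_ : IsDomain A) (_ : Algebra.FiniteType (AlgebraicClosure (S.residueField s)) A)
      (_ : Algebra.Smooth (AlgebraicClosure (S.residueField s)) A)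
      (Md : Model (Red.geomPt s) G A) (F : Frame (AlgebraicClosure (S.residueField s)) A D.M D.idx),
      F.toPreFrame = Md.preFrame D := by
  obtain ⟨haff, hsm, hfib⟩ := D.reductive
  obtain ⟨hX1, hX2, hX3, hX4⟩ := hfib s
  let K := AlgebraicClosure (S.residueField s)
  let f := Red.geomPt s
  haveI := haff
  obtain ⟨A, i1, i2, ⟨Md⟩⟩ := exists_model (R := K) f G
  haveI : Algebra.Smooth K A := Md.smooth hsm
  haveI : IsDomain A := by
    haveI := hX1
    haveI := hX2
    haveI := hX3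
    haveI := Obs28.Unip.isIntegral_grp (G := Red.geomFibre s G)
    have hIso : IsIso Md.hom.left := inferInstance
    haveI : Nonempty (Spec (CommRingCat.of A)) :=
      ⟨(inv (Md.hom.left : Spec (CommRingCat.of A) ⟶ (Red.geomFibre s G).left)).base (Classical.choice inferInstance)⟩
    exact (affine_isIntegral_iff (CommRingCat.of A)).mp
      (@isIntegral_of_isOpenImmersion (Spec (CommRingCat.of A)) (Red.geomFibre s G).left Md.hom.left
        (@IsOpenImmersion.of_isIso _ _ Md.hom.left hIso) inferInstance inferInstance)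
  haveI : Algebra.FinitePresentation K A := Algebra.Smooth.finitePresentation
  haveI : Algebra.FiniteType K A := Algebra.FiniteType.of_finitePresentation
  have hdim : ringKrullDim A = ((Module.finrank ℤ D.M + Fintype.card D.idx : ℕ) : WithBot ℕ∞) := by
    rw [← D.dim_fibre s, ← PrimeSpectrum.topologicalKrullDim_eq_ringKrullDim]
    exact (Scheme.homeoOfIso (asIso
      (Md.hom.left : Spec (CommRingCat.of A) ⟶ (Red.geomFibre s G).left))).isHomeomorph.topologicalKrullDim_eq
  let F : Frame K A D.M D.idx :=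
    { Md.preFrame D with
      cot := fun x h0 hT hu => PreFrame.cot_of_dim (Md.preFrame D) (fun i => D.P.ne_zero i)
        (fun p hp => ⟨K, inferInstance, inferInstance,
          (show RingHom.ker (algebraMap K K) = p by
            rw [(Ideal.eq_bot_or_top p).resolve_right hp.ne_top]
            exact (RingHom.ker_eq_bot_iff_eq_zero _).mpr fun _ h => h),
          ((ringKrullDim_eq_of_ringEquiv (Algebra.TensorProduct.lid K A).toRingEquiv).trans hdim).le⟩)
        x h0 hT hu }
  exact ⟨A, i1, i2, inferInstance, inferInstance, inferInstance, Md, F, rfl⟩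

variable (b : D.P.Base)

theorem neg_iff_not_pos (c : D.idx) : c ∈ RedSub.negRoots D.P b ↔ c ∉ RedSub.posRoots D.P b := by
  refine Iff.trans ?_ (simple_base D b).neg_mem_posOf_iff
  show -D.P.root c ∈ AddSubmonoid.closure (D.P.root '' (b.support : Set D.idx)) ↔
    D.P.root (D.P.reflectionPerm c c) ∈ AddSubmonoid.closure (D.P.root '' (b.support : Set D.idx))
  rw [RootData.root_neg]

variable {D} {b} {n m : ℕ} {eneg : Fin n → D.idx} {epos : Fin m → D.idx}
  (hneg : RedSub.Enumerates (RedSub.negRoots D.P b) eneg) (hpos : RedSub.Enumerates (RedSub.posRoots D.P b) epos)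

include hneg hpos in
/-- Products in the big cell factor through the cell map. -/
theorem exists_cell_lift (X : Over S) {v u : X ⟶ G} (t : X ⟶ D.T)
    (hv : v ∈ ⨆ (c : D.idx) (_ : ¬ c ∈ RedSub.posRoots D.P b), rootSub D X c)
    (hu : u ∈ ⨆ (c : D.idx) (_ : c ∈ RedSub.posRoots D.P b), rootSub D X c) :
    ∃ y : X ⟶ RedSub.pow (Red.Ga S) n ⊗ (D.T ⊗ RedSub.pow (Red.Ga S) m),
      y ≫ RedSub.cellMap D eneg epos = v * I D X t * u := by
  obtain ⟨lam, hgen, hlam⟩ := exists_form_posRoots D b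
  have hm : ∀ {k : ℕ} {e : Fin k → D.idx} {R : Set D.idx}, RedSub.Enumerates R e →
      ∀ c, c ∈ List.ofFn e ↔ c ∈ R := fun he c => by rw [List.mem_ofFn, ← he.2, Set.mem_range]
  have hlp : IsPosClosed D lam (List.ofFn epos) :=
    IsPosClosed.of_enumerates (fun i j k hi hj hk => by
      show D.P.root k ∈ AddSubmonoid.closure _
      exact hk ▸ add_mem hi hj) hlam hpos
  have hln : IsPosClosed D (-lam) (List.ofFn eneg) :=
    IsPosClosed.of_enumerates (fun i j k hi hj hk => by
      show -D.P.root k ∈ AddSubmonoid.closure _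
      rw [← hk, neg_add]
      exact add_mem hi hj) (fun c hc => by
      have h : D.P.reflectionPerm c c ∈ RedSub.posRoots D.P b := by
        show D.P.root (D.P.reflectionPerm c c) ∈ AddSubmonoid.closure _
        rw [RootData.root_neg]
        exact hc
      have h' := hlam _ h
      rw [RootData.root_neg, map_neg] at h'
      simpa using h') hneg
  obtain ⟨x, hx⟩ := hlp.exists_lift
    ((iSup₂_le fun c hc => by rintro _ ⟨z, rfl⟩; exact hlp.U_mem ((hm hpos c).mpr hc) z :
      (⨆ (c : D.idx) (_ : c ∈ RedSub.posRoots D.P b), rootSub D X c) ≤ prodSub D X hlp) hu)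
  obtain ⟨y, hy⟩ := hln.exists_lift
    ((iSup₂_le fun c hc => by rintro _ ⟨z, rfl⟩; exact hln.U_mem ((hm hneg c).mpr ((neg_iff_not_pos D b c).mpr hc)) z :
      (⨆ (c : D.idx) (_ : ¬ c ∈ RedSub.posRoots D.P b), rootSub D X c) ≤ prodSub D X hln) hv)
  refine ⟨lift y (lift t x), ?_⟩
  rw [RedSub.cellMap, MonObj.comp_mul, MonObj.comp_mul, lift_fst_assoc, lift_snd_assoc, lift_fst_assoc,
    lift_snd_assoc, lift_snd_assoc, hx, hy, mul_assoc]
  rfl

variable {nr : D.idx → (𝟙_ (Over S) ⟶ G)} (hnr : RedSub.RealisesReflections D nr)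

variable (D) in
/-- Over a geometric point the torus is its own centraliser and, with the root groups, generates the group. -/
theorem geom_pts (s : S) :
    (∀ x : Γ((tObj (Red.geomPt s) (AlgebraicClosure (S.residueField s))).left, ⊤), x ≠ 0 → IsUnit x) ∧
    (∀ g : tObj (Red.geomPt s) (AlgebraicClosure (S.residueField s)) ⟶ G,
      (∀ t, g * I D _ t = I D _ t * g) → ∃ t, g = I D _ t) ∧
    ∀ g : tObj (Red.geomPt s) (AlgebraicClosure (S.residueField s)) ⟶ G,
      g ∈ Subgroup.closure (((I D (tObj (Red.geomPt s) (AlgebraicClosure (S.residueField s)))).range :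
          Set (tObj (Red.geomPt s) (AlgebraicClosure (S.residueField s)) ⟶ G)) ∪
        ⋃ c, (rootSub D (tObj (Red.geomPt s) (AlgebraicClosure (S.residueField s))) c :
          Set (tObj (Red.geomPt s) (AlgebraicClosure (S.residueField s)) ⟶ G))) := by
  classical
  let K := AlgebraicClosure (S.residueField s)
  let X := tObj (Red.geomPt s) K
  haveI : Nonempty S := ⟨s⟩
  obtain ⟨A, i1, i2, i3, i4, i5, Md, F, hF⟩ := exists_geom_frame D s
  have htor : ∀ χ : Multiplicative D.M →* K, Md.pt (F.T.tor χ) = torG D χ := fun χ => by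
    rw [hF]; exact Md.pt_torPt D χ
  have hrt : ∀ (i : D.idx) (x : K), Md.pt (F.rt i x) = rtG D i x := fun i x => by
    show Md.pt (linePt (F.toPreFrame.φ i) x) = _
    rw [hF]; exact Md.pt_linePt D i x
  have hroot : ∀ i, F.root i ≠ 0 := fun i => by rw [hF]; exact D.P.ne_zero i
  have hI : ∀ χ : Multiplicative D.M →* K, ∃ t : X ⟶ D.T, torG D χ = I D X t := fun χ =>
    ⟨chPt _ χ ≫ D.split.inv.hom.hom, (Category.assoc _ _ _).symm⟩
  have hfield : ∀ x : Γ(X.left, ⊤), x ≠ 0 → IsUnit x := fun x hx => by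
    have h : IsUnit (tVal (Red.geomPt s) K x) :=
      Ne.isUnit ((map_ne_zero_iff _ (tVal (Red.geomPt s) K).injective).mpr hx)
    simpa using h.map (tVal (Red.geomPt s) K).symm
  have hZ : ∀ g : X ⟶ G, (∀ t, g * I D X t = I D X t * g) → ∃ t, g = I D X t := fun g hg => by
    obtain ⟨χ, hχ⟩ := exists_tor_of_comm F hroot (g := Md.ofPt g) fun χ => Md.pt_bijective.injective (by
      obtain ⟨t, ht⟩ := hI χ
      rw [Md.pt_mul, Md.pt_mul, Md.pt_ofPt, htor, ht]
      exact (hg t).symm)
    obtain ⟨t, ht⟩ := hI χ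
    exact ⟨t, by rw [← Md.pt_ofPt g, hχ, htor, ht]⟩
  refine ⟨hfield, hZ, fun g => ?_⟩
  let H : Subgroup (X ⟶ G) := Subgroup.closure (((I D X).range : Set (X ⟶ G)) ∪ ⋃ c, (rootSub D X c : Set (X ⟶ G)))
  show g ∈ H
  have hprod : ∀ {k : ℕ} (e : Fin k → D.idx) (x : Fin k → K), Md.pt (F.prodPt e x) ∈ H := fun e x => by
    rw [Frame.prodPt, Md.pt_list_prod]
    refine list_prod_mem fun z hz => ?_
    obtain ⟨z', hz', rfl⟩ := List.mem_map.mp hz
    obtain ⟨k, rfl⟩ := List.mem_ofFn.mp hz'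
    rw [hrt]
    exact Subgroup.subset_closure (Or.inr (Set.mem_iUnion.mpr ⟨e k, (tVal (Red.geomPt s) K).symm (x k), rfl⟩))
  have ht : ∀ χ, Md.pt (F.T.tor χ) ∈ H := fun χ => by
    obtain ⟨t, ht⟩ := hI χ
    rw [htor, ht]
    exact Subgroup.subset_closure (Or.inl ⟨t, rfl⟩)
  obtain ⟨lam, hlam, -⟩ := exists_perturb (0 : D.M →+ ℤ) (Set.finite_range F.root)
  have hlam' : ∀ i, lam (F.root i) ≠ 0 := fun i => hlam _ ⟨i, rfl⟩ (hroot i)
  obtain ⟨k, l, e, e', he⟩ := exists_signEnum F lam hlam'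
  obtain ⟨c, hc, hcell⟩ := exists_cell_fn F lam he
  obtain ⟨g₁, h₁, h₂⟩ := exists_two_dense (A := A) hc (Md.ofPt g)
  obtain ⟨y₁, χ₁, x₁, e₁⟩ := hcell g₁ h₁
  obtain ⟨y₂, χ₂, x₂, e₂⟩ := hcell _ h₂
  have hm₁ : Md.pt g₁ ∈ H := by rw [e₁, Md.pt_mul, Md.pt_mul]; exact mul_mem (mul_mem (hprod _ _) (ht _)) (hprod _ _)
  have hm₂ : Md.pt (g₁ * Md.ofPt g) ∈ H := by
    rw [e₂, Md.pt_mul, Md.pt_mul]; exact mul_mem (mul_mem (hprod _ _) (ht _)) (hprod _ _)
  rw [Md.pt_mul, Md.pt_ofPt] at hm₂
  simpa using mul_mem (inv_mem hm₁) hm₂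

include hneg hpos hnr in
/-- Every geometric point is in a translate of the big cell by a simple word. -/
theorem exists_translate_geom (s : S) (g : tObj (Red.geomPt s) (AlgebraicClosure (S.residueField s)) ⟶ G) :
    ∃ l : List D.idx, (∀ a ∈ l, a ∈ b.support) ∧
      ∃ y : tObj (Red.geomPt s) (AlgebraicClosure (S.residueField s)) ⟶
        RedSub.pow (Red.Ga S) n ⊗ (D.T ⊗ RedSub.pow (Red.Ga S) m),
        g = y ≫ ((toUnit _ ≫ (l.map nr).prod) * RedSub.cellMap D eneg epos) := by
  classical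
  let K := AlgebraicClosure (S.residueField s)
  let X := tObj (Red.geomPt s) K
  haveI : Nonempty S := ⟨s⟩
  obtain ⟨hfield, hZ, hgen⟩ := geom_pts D s
  let B := bnData D hnr X b hfield hZ
  have hall : g ∈ Subgroup.closure ((B.T : Set (X ⟶ G)) ∪ ⋃ c, (B.U c : Set (X ⟶ G))) := hgen g
  obtain ⟨l, hl, v, hv, _, ⟨t, rfl⟩, u', hu, rfl⟩ := B.exists_translate hall
  obtain ⟨y, hy⟩ := exists_cell_lift hneg hpos X t hv hu
  refine ⟨l, hl, y, ?_⟩
  rw [MonObj.comp_mul, hy, ← Category.assoc, toUnit_unique (y ≫ toUnit _) (toUnit X)]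
  congr 1
  show (l.map fun a => toUnit X ≫ nr a).prod = toUnit X ≫ (l.map nr).prod
  clear hy hall hv hu
  induction l with
  | nil => simp [MonObj.comp_one]
  | cons a l ih =>
    simp only [List.map_cons, List.prod_cons, MonObj.comp_mul]
    rw [ih fun x hx => hl x (List.mem_cons_of_mem _ hx)]

include hneg hpos in
/-- A set of translates of the big cell containing the geometric points covers the group. -/
theorem mem_range_of_geom (p : G.left) (Wset : Set (𝟙_ (Over S) ⟶ G))
    (hgeom : ∀ g : tObj (Red.geomPt (G.hom.base p)) (AlgebraicClosure (S.residueField (G.hom.base p))) ⟶ G,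
      ∃ w ∈ Wset, ∃ y : _ ⟶ RedSub.pow (Red.Ga S) n ⊗ (D.T ⊗ RedSub.pow (Red.Ga S) m),
        g = y ≫ ((toUnit _ ≫ w) * RedSub.cellMap D eneg epos)) :
    ∃ w ∈ Wset, p ∈ Set.range ((toUnit _ ≫ w) * RedSub.cellMap D eneg epos).left.base := by
  classical
  haveI hopenim := BigCell29.isOpenImmersion_cellMap D b hneg hpos
  set s := G.hom.base p
  let K := AlgebraicClosure (S.residueField s)
  obtain ⟨A, i1, i2, i3, i4, i5, Md, -, -⟩ := exists_geom_frame D s
  obtain ⟨q, hq, -⟩ := Scheme.Pullback.exists_preimage_pullback (f := G.hom) (g := Red.geomPt s) p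
    (Classical.choice (inferInstanceAs (Nonempty (PrimeSpectrum K)))) (Scheme.fromSpecResidueField_apply s _).symm
  let φ : Spec (CommRingCat.of A) ⟶ G.left := Md.hom.left ≫ pullback.fst G.hom (Red.geomPt s)
  obtain ⟨P, hP⟩ : ∃ P : Spec (CommRingCat.of A), φ.base P = p := by
    refine ⟨Md.inv.left.base q, ?_⟩
    show (Md.inv.left ≫ Md.hom.left ≫ pullback.fst G.hom (Red.geomPt s)).base q = p
    rw [← Category.assoc, ← Over.comp_left, Md.inv_hom]
    exact (congrArg (fun z : (Red.geomFibre s G).left ⟶ G.left => z.base q) (Category.id_comp _)).trans hq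
  obtain ⟨M, hM, hle⟩ := Ideal.exists_le_maximal _ P.2.ne_top
  haveI := hM
  letI := Ideal.Quotient.field M
  haveI : Module.Finite K (A ⧸ M) := finite_of_finite_type_of_isJacobsonRing K (A ⧸ M)
  haveI : Algebra.IsAlgebraic K (A ⧸ M) := Algebra.IsAlgebraic.of_finite K _
  let e : K ≃ₐ[K] (A ⧸ M) := AlgEquiv.ofBijective (Algebra.ofId K (A ⧸ M))
    IsAlgClosed.algebraMap_bijective_of_isIntegral
  let ψ : A →ₐ[K] K := (e.symm : (A ⧸ M) →ₐ[K] K).comp (Ideal.Quotient.mkₐ K M)
  have hker : RingHom.ker ψ.toRingHom = M := by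
    ext x
    simp [ψ, RingHom.mem_ker, Ideal.Quotient.eq_zero_iff_mem]
  let g := Md.pt (toConv ψ)
  obtain ⟨w, hw, y, hy⟩ := hgeom g
  refine ⟨w, hw, ?_⟩
  set W := ((toUnit _ ≫ w) * RedSub.cellMap D eneg epos :
    RedSub.pow (Red.Ga S) n ⊗ (D.T ⊗ RedSub.pow (Red.Ga S) m) ⟶ G)
  have hopen : IsOpen (Set.range W.left.base) := by
    let L : G ⟶ G := (toUnit G ≫ w) * 𝟙 G
    let L' : G ⟶ G := (toUnit G ≫ w⁻¹) * 𝟙 G
    have hLL : ∀ w : 𝟙_ (Over S) ⟶ G, ((toUnit G ≫ w) * 𝟙 G) ≫ ((toUnit G ≫ w⁻¹) * 𝟙 G) = 𝟙 G := fun w => by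
      rw [MonObj.comp_mul, ← Category.assoc, toUnit_unique (_ ≫ toUnit G) (toUnit G), Category.comp_id,
        GrpObj.comp_inv, inv_mul_cancel_left]
    haveI : IsIso L := ⟨L', hLL _, by simpa [L, L'] using hLL w⁻¹⟩
    haveI : IsIso L.left := (inferInstance : IsIso ((Over.forget S).map L))
    have hW : W = RedSub.cellMap D eneg epos ≫ L := by
      rw [MonObj.comp_mul, ← Category.assoc, toUnit_unique (RedSub.cellMap D eneg epos ≫ toUnit G) (toUnit _),
        Category.comp_id]
    rw [hW, Over.comp_left]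
    exact (inferInstance : IsOpenImmersion ((RedSub.cellMap D eneg epos).left ≫ L.left)).base_open.isOpen_range
  let m₀ : Spec (CommRingCat.of A) := ⟨M, hM.isPrime⟩
  have hm₀ : φ.base m₀ ∈ Set.range W.left.base := by
    obtain ⟨o⟩ := (inferInstance : Nonempty (PrimeSpectrum K))
    refine ⟨y.left.base o, ?_⟩
    show (y ≫ W).left.base o = _
    rw [← hy]
    rw [show g = DSPtsLib.theta (Red.geomPt s) (spMap ψ ≫ Md.hom) from Md.pt_eq _, DSPtsLib.theta_left]
    show φ.base ((Spec.map (CommRingCat.ofHom ψ.toRingHom)).base o) = _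
    congr 1
    refine PrimeSpectrum.ext ?_
    show o.asIdeal.comap ψ.toRingHom = M
    rw [(Ideal.eq_bot_or_top o.asIdeal).resolve_right o.2.ne_top]
    exact hker
  have hspec : P ⤳ m₀ := (PrimeSpectrum.le_iff_specializes P m₀).mp hle
  rw [← hP]
  exact (hspec.map φ.continuous).mem_open hopen hm₀

include hneg hpos hnr in
/-- The translates of the big cell by simple words cover the group. -/
theorem cover_translates (p : G.left) : ∃ l : List D.idx, (∀ a ∈ l, a ∈ b.support) ∧
    p ∈ Set.range ((toUnit _ ≫ (l.map nr).prod) * RedSub.cellMap D eneg epos).left.base := by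
  obtain ⟨w, ⟨l, hl, rfl⟩, h⟩ := mem_range_of_geom hneg hpos p {w | ∃ l : List D.idx,
      (∀ a ∈ l, a ∈ b.support) ∧ (l.map nr).prod = w} fun g => by
    obtain ⟨l, hl, y, hy⟩ := exists_translate_geom hneg hpos hnr _ g
    exact ⟨_, ⟨l, hl, rfl⟩, y, hy⟩
  exact ⟨l, hl, h⟩

end Groth.Agent.RedRk29
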