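import Groth.Agent.BigCell29.SplitCell

/-!
# A point inducing a reflection exchanges the two root groups
-/

set_option autoImplicit false

universe u

open TensorProduct WithConv Finsupp
open scoped AddMonoidAlgebra

namespace Groth.Agent.RedRk29

open BigCell29

variable {R : Type u} [CommRing R] {A : Type u} [CommRing A] [HopfAlgebra R A]
  {B C : Type u} [CommRing B] [Algebra R B] [CommRing C] [Algebra R C] {M ι : Type} [AddCommGroup M]

/-- A constant point. -/
noncomputable def cstPt (B : Type u) [CommRing B] [Algebra R B] : Pt R A R →* Pt R A B :=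
  mapPt (Algebra.ofId R B)

theorem mapPt_cstPt (f : B →ₐ[R] C) (g : Pt R A R) : mapPt f (cstPt B g) = cstPt C g := by
  rw [cstPt, mapPt_mapPt, Subsingleton.elim (f.comp (Algebra.ofId R B)) (Algebra.ofId R C)]
  rfl

/-- A root, its opposite, and a point inducing the reflection. -/
structure Refl (F : Frame R A M ι) where
  /-- the root -/
  a : ι
  /-- its opposite -/
  a' : ι
  root_a' : F.root a' = -F.root a
  /-- the reflection -/
  s : M →+ M
  s_s : ∀ m, s (s m) = m
  s_a : s (F.root a) = -F.root a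
  s_line : ∀ m, ∃ z : ℤ, s m = m + z • F.root a
  s_root : ∀ i, ∃ i', F.root i' = s (F.root i)
  /-- a point inducing the reflection -/
  n : Pt R A R
  normS : ∀ (B : Type u) [CommRing B] [Algebra R B] (χ : Multiplicative M →* B),
    F.T.tor χ * cstPt B n = cstPt B n * F.T.tor (χ.comp s.toMultiplicative)
  reduced : ∀ i (p q : ℤ), p ≠ 0 → p • F.root i = q • F.root a → i = a ∨ i = a'
  /-- an adapted cocharacter -/
  lam : M →+ ℤ
  lam_pos : 0 < lam (F.root a)
  lam_ne : ∀ i, lam (F.root i) ≠ 0

variable {F : Frame R A M ι} (d : Refl F)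

theorem Refl.s_a' : d.s (F.root d.a') = F.root d.a := by rw [d.root_a', map_neg, d.s_a, neg_neg]

theorem Refl.lam_a' : d.lam (F.root d.a') = -d.lam (F.root d.a) := by rw [d.root_a', map_neg]

theorem Refl.normS_inv (χ : Multiplicative M →* B) :
    F.T.tor χ * (cstPt B d.n)⁻¹ = (cstPt B d.n)⁻¹ * F.T.tor (χ.comp d.s.toMultiplicative) := by
  have h := d.normS B (χ.comp d.s.toMultiplicative)
  rw [show (χ.comp d.s.toMultiplicative).comp d.s.toMultiplicative = χ by ext m; simp [d.s_s]] at h
  calc F.T.tor χ * (cstPt B d.n)⁻¹ =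
      (cstPt B d.n)⁻¹ * (cstPt B d.n * F.T.tor χ) * (cstPt B d.n)⁻¹ := by group
    _ = (cstPt B d.n)⁻¹ * F.T.tor (χ.comp d.s.toMultiplicative) := by rw [← h]; group

/-- The same datum seen from the opposite root. -/
noncomputable def Refl.swap : Refl F where
  a := d.a'
  a' := d.a
  root_a' := by rw [d.root_a', neg_neg]
  s := d.s
  s_s := d.s_s
  s_a := by rw [d.s_a', d.root_a', neg_neg]
  s_line m := by
    obtain ⟨z, hz⟩ := d.s_line m
    exact ⟨-z, by rw [hz, d.root_a', neg_smul_neg]⟩
  s_root := d.s_root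
  n := d.n
  normS := d.normS
  reduced i p q hp h := (d.reduced i p (-q) hp (by rw [h, d.root_a', smul_neg, neg_smul])).symm
  lam := -d.lam
  lam_pos := by rw [AddMonoidHom.neg_apply, d.lam_a', neg_neg]; exact d.lam_pos
  lam_ne i := by simpa using d.lam_ne i

/-- The same datum with the inverse point. -/
noncomputable def Refl.invN : Refl F :=
  { d with
    n := d.n⁻¹
    normS := fun B _ _ χ => by
      rw [show cstPt B d.n⁻¹ = (cstPt B d.n)⁻¹ from map_inv (cstPt B) d.n]
      exact d.normS_inv χ }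

theorem prodPt_single [DecidableEq ι] : ∀ {k : ℕ} (e : Fin k → ι) (x : Fin k → B) (j : Fin k),
    (∀ i, i ≠ j → x i = 0) → F.prodPt e x = F.rt (e j) (x j) := by
  intro k
  induction k with
  | zero => exact fun _ _ j => j.elim0
  | succ k ih =>
    intro e x j h
    rw [Frame.prodPt, List.ofFn_succ, List.prod_cons]
    cases j using Fin.cases with
    | zero =>
      rw [List.prod_eq_one, mul_one]
      intro g hg
      obtain ⟨i, rfl⟩ := List.mem_ofFn.mp hg
      rw [h _ (Fin.succ_ne_zero i), F.rt_zero]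
    | succ j =>
      rw [h 0 (Fin.succ_ne_zero j).symm, F.rt_zero, one_mul]
      exact ih (fun i => e i.succ) (fun i => x i.succ) j fun i hi => h _ fun h' => hi (Fin.succ_injective _ h')

theorem Refl.conj_tor_univ (B : Type u) [CommRing B] [Algebra R B] (y : B) :
    F.T.tor (univChar B M) * mapPt AddMonoidAlgebra.singleZeroAlgHom
        (cstPt B d.n * F.rt d.a' y * (cstPt B d.n)⁻¹) * (F.T.tor (univChar B M))⁻¹ =
      cstPt B[M] d.n * F.rt d.a' (AddMonoidAlgebra.single (F.root d.a) y) * (cstPt B[M] d.n)⁻¹ := by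
  rw [map_mul, map_mul, map_inv, mapPt_cstPt, F.mapPt_rt]
  set N := cstPt (R := R) (A := A) B[M] d.n
  set χ := univChar B M
  have h1 : F.T.tor χ * N = N * F.T.tor (χ.comp d.s.toMultiplicative) := d.normS _ χ
  calc F.T.tor χ * (N * F.rt d.a' (AddMonoidAlgebra.singleZeroAlgHom y) * N⁻¹) * (F.T.tor χ)⁻¹
      = (F.T.tor χ * N) * F.rt d.a' (AddMonoidAlgebra.singleZeroAlgHom y) * (F.T.tor χ * N)⁻¹ := by
          simp only [mul_inv_rev, mul_assoc]; rfl
    _ = N * (F.T.tor (χ.comp d.s.toMultiplicative) * F.rt d.a' (AddMonoidAlgebra.singleZeroAlgHom y) *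
          (F.T.tor (χ.comp d.s.toMultiplicative))⁻¹) * N⁻¹ := by rw [h1]; simp only [mul_inv_rev, mul_assoc]; rfl
    _ = _ := by
      rw [F.conj_rt]
      simp [χ, d.s_a', AddMonoidAlgebra.single_mul_single]

theorem Refl.inU_conj (y : B) : (F.cochar d.lam).InU (cstPt B d.n * F.rt d.a' y * (cstPt B d.n)⁻¹) := by
  rw [← Coact.isPos_act_iff]
  refine ⟨cstPt (nonneg R B) d.n * linePt (F.φ d.a')
    (⟨AddMonoidAlgebra.single (d.lam (F.root d.a)) y, fun n hn => ?_⟩ : nonneg R B) *
      (cstPt (nonneg R B) d.n)⁻¹, ?_, ?_⟩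
  · rw [AddMonoidAlgebra.coeff_single, Finsupp.single_apply, if_neg (by have := d.lam_pos; omega)]
  · rw [map_mul, map_mul, map_inv, mapPt_cstPt, mapPt_linePt, ev0_apply]
    show _ * F.rt d.a' _ * _ = 1
    rw [show (AddMonoidAlgebra.single (d.lam (F.root d.a)) y).coeff 0 = 0 by
      rw [AddMonoidAlgebra.coeff_single, Finsupp.single_apply, if_neg d.lam_pos.ne'], F.rt_zero, mul_one,
      mul_inv_cancel]
  · rw [Coact.act_push, F.T.act_eq, d.conj_tor_univ, map_mul, map_mul, map_inv, map_mul, map_mul, map_inv,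
      mapPt_cstPt, mapPt_cstPt, mapPt_linePt, F.mapPt_rt, AddMonoidAlgebra.mapDomainAlgHom_apply,
      AddMonoidAlgebra.mapDomain_single]
    rfl

variable [Fintype ι] [Module.Free ℤ M] [Module.Finite ℤ M]

/-- The reflecting point carries the root group of `-a` onto that of `a`, by a scalar. -/
theorem Refl.exists_conj_coord (hne : F.root d.a ≠ 0) :
    ∃ κ : R, ∀ (B : Type u) [CommRing B] [Algebra R B] (y : B),
      cstPt B d.n * F.rt d.a' y * (cstPt B d.n)⁻¹ = F.rt d.a (algebraMap R B κ * y) := by
  classical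
  let sp := Finset.univ.filter fun i => 0 < d.lam (F.root i)
  let e : Fin sp.card → ι := fun j => (sp.equivFin.symm j : ι)
  have he : ∀ j, 0 < d.lam (F.root (e j)) := fun j => (Finset.mem_filter.mp (sp.equivFin.symm j).2).2
  have hinj : Function.Injective e := Subtype.val_injective.comp sp.equivFin.symm.injective
  have hr : ∀ i, 0 < d.lam (F.root i) → i ∈ Set.range e := fun i hi =>
    ⟨sp.equivFin ⟨i, Finset.mem_filter.mpr ⟨Finset.mem_univ i, hi⟩⟩, by simp [e]⟩
  let g : ∀ (B : Type u) [CommRing B] [Algebra R B], B → Pt R A B := fun B _ _ y =>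
    cstPt B d.n * F.rt d.a' y * (cstPt B d.n)⁻¹
  obtain ⟨P, hP, -⟩ := F.exists_coords he hinj hr (d.inU_conj (Polynomial.X : Polynomial R))
  have hnat : ∀ (B : Type u) [CommRing B] [Algebra R B] (y : B),
      F.prodPt e (fun j => Polynomial.aeval y (P j)) = g B y := fun B _ _ y => by
    have := congrArg (mapPt (Polynomial.aeval y)) hP
    rw [F.mapPt_prodPt, map_mul, map_mul, map_inv, mapPt_cstPt, F.mapPt_rt, Polynomial.aeval_X] at this
    exact this
  have heq : ∀ j, Polynomial.aeval (AddMonoidAlgebra.single (F.root d.a) (Polynomial.X : Polynomial R)) (P j) =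
      (AddMonoidAlgebra.single (F.root (e j)) (P j) : (Polynomial R)[M]) := by
    have e1 : F.prodPt e (fun j => Polynomial.aeval
        (AddMonoidAlgebra.single (F.root d.a) (Polynomial.X : Polynomial R)) (P j)) =
        F.prodPt e (fun j => (AddMonoidAlgebra.single (F.root (e j)) (P j) : (Polynomial R)[M])) := by
      rw [hnat]
      show cstPt (Polynomial R)[M] d.n * F.rt d.a' _ * (cstPt (Polynomial R)[M] d.n)⁻¹ = _
      rw [← d.conj_tor_univ]
      rw [show cstPt (Polynomial R) d.n * F.rt d.a' Polynomial.X * (cstPt (Polynomial R) d.n)⁻¹ = F.prodPt e P from hP.symm]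
      set χ := univChar (Polynomial R) M
      rw [F.mapPt_prodPt, Frame.prodPt, Frame.prodPt]
      have key : ∀ l : List (Pt R A (Polynomial R)[M]),
          F.T.tor χ * l.prod * (F.T.tor χ)⁻¹ = (l.map fun h => F.T.tor χ * h * (F.T.tor χ)⁻¹).prod := fun l => by
        induction l with
        | nil => simp
        | cons h l ih => rw [List.map_cons, List.prod_cons, List.prod_cons, ← ih]; group
      rw [key, List.map_ofFn]
      refine congrArg List.prod (List.ofFn_inj.mpr (funext fun j => ?_))
      simp [F.conj_rt, χ, AddMonoidAlgebra.single_mul_single]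
    obtain ⟨x, -, hu⟩ := F.exists_coords he hinj hr (F.prodPt_inU d.lam e he fun j =>
      (AddMonoidAlgebra.single (F.root (e j)) (P j) : (Polynomial R)[M]))
    exact fun j => congrFun ((hu _ e1).trans (hu _ rfl).symm) j
  have hdeg : ∀ j k, (P j).coeff k ≠ 0 → e j = d.a ∧ k = 1 := by
    intro j k hk
    have h := congrArg (fun x : (Polynomial R)[M] => (x.coeff (F.root (e j))).coeff k) (heq j)
    simp only [Polynomial.aeval_eq_sum_range, AddMonoidAlgebra.single_pow, AddMonoidAlgebra.coeff_sum,
      Finsupp.finsetSum_apply, AddMonoidAlgebra.coeff_single, Finsupp.single_eq_same, Polynomial.finsetSum_coeff,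
      AddMonoidAlgebra.coeff_smul, Finsupp.smul_apply, Finsupp.single_apply] at h
    obtain ⟨i, -, hi⟩ := Finset.exists_ne_zero_of_sum_ne_zero (h.trans_ne hk)
    have hroot : i • F.root d.a = F.root (e j) := by
      by_contra hne'
      simp [hne'] at hi
    have hik : i = k := by
      by_contra hne'
      simp [hroot, Polynomial.coeff_X_pow, Ne.symm hne'] at hi
    subst hik
    have hej : e j = d.a := by
      refine (d.reduced (e j) 1 i one_ne_zero (by rw [one_smul, ← hroot, natCast_zsmul])).resolve_right fun h' => ?_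
      have := he j
      rw [h', d.lam_a'] at this
      have := d.lam_pos
      omega
    refine ⟨hej, ?_⟩
    rw [hej] at hroot
    have h' : ((i : ℤ) - 1) • F.root d.a = 0 := by rw [sub_smul, natCast_zsmul, hroot, one_smul, sub_self]
    have := (smul_eq_zero.mp h').resolve_right hne
    omega
  obtain ⟨j₀, hj₀⟩ := hr d.a d.lam_pos
  refine ⟨(P j₀).coeff 1, fun B _ _ y => ?_⟩
  rw [show cstPt B d.n * F.rt d.a' y * (cstPt B d.n)⁻¹ = g B y from rfl, ← hnat,
    prodPt_single e _ j₀ fun i hi => ?_, hj₀]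
  · congr 1
    rw [Polynomial.aeval_eq_sum_range' (n := (P j₀).natDegree + 2) (by omega), Finset.sum_eq_single 1]
    · rw [pow_one, Algebra.smul_def]
    · intro b _ hb
      have : (P j₀).coeff b = 0 := by_contra fun h => hb (hdeg _ _ h).2
      rw [this, zero_smul]
    · intro h; simp at h
  · have : P i = 0 := Polynomial.ext fun k => by
      rw [Polynomial.coeff_zero]
      exact by_contra fun h => hi (hinj ((hdeg i k h).1.trans hj₀.symm))
    rw [this, map_zero]

end Groth.Agent.RedRk29
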