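import Groth.Agent.RedRk29.Raise
import Groth.Agent.BigCell29.SplitCell
import Groth.Agent.AlgGrpQ.Irred
import Groth.Agent.ComodLib.Orbits
import Mathlib.Algebra.MvPolynomial.Funext
import Mathlib.Algebra.MonoidAlgebra.NoZeroDivisors
import Mathlib.AlgebraicGeometry.Scheme

/-!
# The big cell on rational points
-/

set_option autoImplicit false

universe u

open TensorProduct WithConv
open scoped AddMonoidAlgebra

namespace Groth.Agent.RedRk29

open BigCell29

variable {k : Type u} [Field k] {A : Type u} [CommRing A] [HopfAlgebra k A]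
  {M ι : Type} [AddCommGroup M] (F : Frame k A M ι)

/-- A regular function is pulled back to a regular function by translations, inversion and conjugation. -/
theorem exists_mul_right (c : Pt k A k) (a : A) : ∃ b : A, ∀ g : Pt k A k, (g * c).ofConv a = g.ofConv b :=
  (AlgGrpQ.isReg_id.mul (AlgGrpQ.isReg_const c)) a

theorem exists_conj (c : Pt k A k) (a : A) : ∃ b : A, ∀ g : Pt k A k, (c * g * c⁻¹).ofConv a = g.ofConv b :=
  (((AlgGrpQ.isReg_const c).mul AlgGrpQ.isReg_id).mul (AlgGrpQ.isReg_const c⁻¹)) a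

theorem rt_injective (i : ι) : Function.Injective (F.rt i : k → Pt k A k) := by
  intro x y h
  obtain ⟨a, ha⟩ := F.φ_surj i Polynomial.X
  have := DFunLike.congr_fun (congrArg WithConv.ofConv h) a
  simp only [PreFrame.rt, linePt_apply, ha, Polynomial.aeval_X] at this
  exact this

theorem rt_neg (i : ι) (x : k) : (F.rt i x)⁻¹ = F.rt i (-x) :=
  (eq_inv_of_mul_eq_one_right (by
    show linePt (F.φ i) x * linePt (F.φ i) (-x) = 1
    rw [← F.rt_add, add_neg_cancel]; exact F.rt_zero i)).symm

theorem rt_add' (i : ι) (x y : k) : F.rt i (x + y) = F.rt i x * F.rt i y := F.rt_add k i x y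

/-- The inverse of a character. -/
noncomputable def charInv (χ : Multiplicative M →* k) : Multiplicative M →* k := χ.comp invMonoidHom

@[simp] theorem charInv_apply (χ : Multiplicative M →* k) (m : Multiplicative M) : charInv χ m = χ m⁻¹ := rfl

theorem charInv_mul_self (χ : Multiplicative M →* k) : charInv χ * χ = 1 :=
  MonoidHom.ext fun m => by
    show χ m⁻¹ * χ m = 1
    rw [← map_mul, inv_mul_cancel, map_one]

theorem tor_charInv (χ : Multiplicative M →* k) : F.T.tor (charInv χ) = (F.T.tor χ)⁻¹ :=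
  eq_inv_of_mul_eq_one_left (by rw [← map_mul, charInv_mul_self, map_one])

theorem conj_prodPt {n : ℕ} (e : Fin n → ι) (χ : Multiplicative M →* k) (x : Fin n → k) :
    F.T.tor χ * F.prodPt e x * (F.T.tor χ)⁻¹ =
      F.prodPt e fun j => χ (Multiplicative.ofAdd (F.root (e j))) * x j := by
  show MulAut.conj (F.T.tor χ) (F.prodPt e x) = _
  rw [Frame.prodPt, map_list_prod, List.map_ofFn]
  congr 2
  funext j
  exact F.conj_rt (e j) χ (x j)

theorem prodPt_zero {n : ℕ} (e : Fin n → ι) : F.prodPt e (0 : Fin n → k) = 1 :=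
  List.prod_eq_one fun g hg => by
    obtain ⟨j, rfl⟩ := List.mem_ofFn.mp hg
    exact F.rt_zero _

section Cell

variable [Fintype ι] (lam : M →+ ℤ)

theorem exists_signEnum (hlam : ∀ i, lam (F.root i) ≠ 0) :
    ∃ (n m : ℕ) (eneg : Fin n → ι) (epos : Fin m → ι), F.IsSignEnum lam eneg epos := by
  classical
  let sn := Finset.univ.filter fun i => lam (F.root i) < 0
  let sp := Finset.univ.filter fun i => 0 < lam (F.root i)
  refine ⟨sn.card, sp.card, fun j => (sn.equivFin.symm j : ι), fun j => (sp.equivFin.symm j : ι),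
    ⟨fun j => (Finset.mem_filter.mp (sn.equivFin.symm j).2).2, fun j => (Finset.mem_filter.mp (sp.equivFin.symm j).2).2,
      Subtype.val_injective.comp sn.equivFin.symm.injective, Subtype.val_injective.comp sp.equivFin.symm.injective,
      fun i hi => ⟨sn.equivFin ⟨i, Finset.mem_filter.mpr ⟨Finset.mem_univ i, hi⟩⟩, by simp⟩,
      fun i hi => ⟨sp.equivFin ⟨i, Finset.mem_filter.mpr ⟨Finset.mem_univ i, hi⟩⟩, by simp⟩, hlam⟩⟩

variable [Module.Free ℤ M] [Module.Finite ℤ M] [IsAlgClosed k] [Algebra.Smooth k A]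

/-- The big cell contains the points off a hypersurface avoiding the identity. -/
theorem exists_cell_fn {n m : ℕ} {eneg : Fin n → ι} {epos : Fin m → ι} (h : F.IsSignEnum lam eneg epos) :
    ∃ c : A, Coalgebra.counit (R := k) c ≠ 0 ∧ ∀ g : Pt k A k, g.ofConv c ≠ 0 →
      ∃ (y : Fin n → k) (χ : Multiplicative M →* k) (x : Fin m → k),
        g = F.prodPt eneg y * F.T.tor χ * F.prodPt epos x := by
  haveI : Algebra.FinitePresentation k A := Algebra.Smooth.finitePresentation
  haveI : Algebra.FormallySmooth k A := Algebra.Smooth.formallySmooth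
  haveI := F.isOpenImmersion_splitMor h
  have hopen : IsOpen (Set.range (PrimeSpectrum.comap (F.splitHom eneg epos).toRingHom)) :=
    (F.splitMor eneg epos).isOpenEmbedding.isOpen_range
  let p0 : PrimeSpectrum A := ⟨RingHom.ker (Bialgebra.counitAlgHom k A).toRingHom, RingHom.ker_isPrime _⟩
  have hp0 : p0 ∈ Set.range (PrimeSpectrum.comap (F.splitHom eneg epos).toRingHom) := by
    refine ⟨⟨RingHom.ker (splLift (R := k) (B := k) (0 : Fin n → k) (1 : Multiplicative M →* k) (0 : Fin m → k)).toRingHom,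
      RingHom.ker_isPrime _⟩, PrimeSpectrum.ext ?_⟩
    have e : mapPt (splLift (R := k) (B := k) (0 : Fin n → k) (1 : Multiplicative M →* k) (0 : Fin m → k))
        (toConv (F.splitHom eneg epos)) = 1 := by
      rw [F.mapPt_splitHom, splLift_Y, splLift_T, splLift_X, prodPt_zero, prodPt_zero, map_one, mul_one, mul_one]
    ext a
    have e' := DFunLike.congr_fun (congrArg WithConv.ofConv e) a
    simp only [mapPt_apply] at e'
    show splLift (R := k) (B := k) (0 : Fin n → k) (1 : Multiplicative M →* k) (0 : Fin m → k)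
        (F.splitHom eneg epos a) = 0 ↔ Coalgebra.counit (R := k) a = 0
    rw [show splLift (R := k) (B := k) (0 : Fin n → k) (1 : Multiplicative M →* k) (0 : Fin m → k)
        (F.splitHom eneg epos a) = (1 : Pt k A k).ofConv a from e']
    simp
  obtain ⟨_, ⟨c, rfl⟩, hc0, hsub⟩ :=
    PrimeSpectrum.isTopologicalBasis_basic_opens.exists_subset_of_mem_open hp0 hopen
  refine ⟨c, hc0, fun g hg => ?_⟩
  haveI : Algebra.FinitePresentation k k[M] := finitePresentation_addMonoidAlgebra k M
  haveI : Algebra.FinitePresentation k (MvPolynomial (Fin n) k ⊗[k] k[M]) := .trans k (MvPolynomial (Fin n) k) _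
  haveI : Algebra.FinitePresentation k (SplitRing k M n m) :=
    Algebra.FinitePresentation.trans k (MvPolynomial (Fin n) k ⊗[k] k[M])
      ((MvPolynomial (Fin n) k ⊗[k] k[M]) ⊗[k] MvPolynomial (Fin m) k)
  haveI : Algebra.FiniteType k (SplitRing k M n m) := Algebra.FiniteType.of_finitePresentation
  obtain ⟨f, hf⟩ := ComodLib.exists_lift_of_mem_range (F.splitHom eneg epos) g.ofConv
    (hsub (show c ∉ RingHom.ker g.ofConv.toRingHom from hg))
  refine ⟨coordY f, coordT f, coordX f, ?_⟩
  rw [← F.mapPt_splitHom eneg epos f]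
  exact WithConv.ext hf.symm

omit [IsAlgClosed k] [Algebra.Smooth k A] [Fintype ι] [Module.Free ℤ M] [Module.Finite ℤ M] in
theorem cell_unique {n m : ℕ} {eneg : Fin n → ι} {epos : Fin m → ι} (h : F.IsSignEnum lam eneg epos)
    {y y' : Fin n → k} {χ χ' : Multiplicative M →* k} {x x' : Fin m → k}
    (e : F.prodPt eneg y * F.T.tor χ * F.prodPt epos x = F.prodPt eneg y' * F.T.tor χ' * F.prodPt epos x') :
    y = y' ∧ χ = χ' ∧ x = x' := by
  have e' : (splLift (R := k) (B := k) y χ x).comp (F.splitHom eneg epos) =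
      (splLift (R := k) (B := k) y' χ' x').comp (F.splitHom eneg epos) := by
    have h1 : mapPt (splLift (R := k) (B := k) y χ x) (toConv (F.splitHom eneg epos)) =
        mapPt (splLift (R := k) (B := k) y' χ' x') (toConv (F.splitHom eneg epos)) := by
      rw [F.mapPt_splitHom, F.mapPt_splitHom, splLift_Y, splLift_T, splLift_X, splLift_Y, splLift_T, splLift_X, e]
    exact congrArg WithConv.ofConv h1
  have := F.splitHom_epi h e'
  exact ⟨by rw [← splLift_Y (R := k) y χ x, this, splLift_Y], by rw [← splLift_T (R := k) y χ x, this, splLift_T],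
    by rw [← splLift_X (R := k) y χ x, this, splLift_X]⟩

/-- Off a hypersurface avoiding the identity, points decompose along the signs of a generic cocharacter. -/
theorem exists_cell_decomp (hlam : ∀ i, lam (F.root i) ≠ 0) :
    ∃ c : A, Coalgebra.counit (R := k) c ≠ 0 ∧ ∀ g : Pt k A k, g.ofConv c ≠ 0 →
      ∃ (v : Pt k A k) (χ : Multiplicative M →* k) (u : Pt k A k),
        v ∈ posRt F (-lam) ∧ u ∈ posRt F lam ∧ g = v * F.T.tor χ * u := by
  obtain ⟨n, m, eneg, epos, h⟩ := exists_signEnum F lam hlam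
  obtain ⟨c, hc, hg⟩ := exists_cell_fn F lam h
  refine ⟨c, hc, fun g hgc => ?_⟩
  obtain ⟨y, χ, x, e⟩ := hg g hgc
  exact ⟨_, χ, _, prodPt_mem_posRt F (-lam) (fun j => by simp [h.neg j]) y, prodPt_mem_posRt F lam h.pos x, e⟩

omit [Fintype ι] [Module.Free ℤ M] [Module.Finite ℤ M] in
/-- Every point is a quotient of two points off a given hypersurface. -/
theorem exists_two_dense [IsDomain A] {c : A} (hc : Coalgebra.counit (R := k) c ≠ 0) (g : Pt k A k) :
    ∃ g₁ : Pt k A k, g₁.ofConv c ≠ 0 ∧ (g₁ * g).ofConv c ≠ 0 := by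
  haveI : Algebra.FiniteType k A := Algebra.FiniteType.of_finitePresentation
  obtain ⟨b, hb⟩ := exists_mul_right g c
  have hb0 : b ≠ 0 := fun h => hc (by
    have := hb g⁻¹
    rw [inv_mul_cancel, h, map_zero] at this
    simpa using this)
  have hc0 : c ≠ 0 := fun h => hc (by rw [h, map_zero])
  obtain ⟨x, hx⟩ := ComodLib.exists_point_ne_zero (k := k) (a := c * b) fun hn => mul_ne_zero hc0 hb0 hn.eq_zero
  rw [map_mul, mul_ne_zero_iff] at hx
  exact ⟨toConv x, hx.1, by rw [hb]; exact hx.2⟩

omit [IsAlgClosed k] [Algebra.Smooth k A] [Fintype ι] [Module.Free ℤ M] [Module.Finite ℤ M] in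
/-- An element of the cell commuting with a regular element of the torus is in the torus. -/
theorem mem_torus_of_comm {n m : ℕ} {eneg : Fin n → ι} {epos : Fin m → ι} (h : F.IsSignEnum lam eneg epos)
    {χ₀ : Multiplicative M →* k} (hχ : ∀ i, χ₀ (Multiplicative.ofAdd (F.root i)) ≠ 1)
    {y : Fin n → k} {χ : Multiplicative M →* k} {x : Fin m → k} {g : Pt k A k}
    (hg : g = F.prodPt eneg y * F.T.tor χ * F.prodPt epos x) (hcomm : F.T.tor χ₀ * g = g * F.T.tor χ₀) :
    g = F.T.tor χ := by
  have e : F.prodPt eneg (fun j => χ₀ (Multiplicative.ofAdd (F.root (eneg j))) * y j) * F.T.tor χ *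
      F.prodPt epos (fun j => χ₀ (Multiplicative.ofAdd (F.root (epos j))) * x j) =
        F.prodPt eneg y * F.T.tor χ * F.prodPt epos x := by
    rw [← hg, ← conj_prodPt, ← conj_prodPt,
      show F.T.tor χ = F.T.tor χ₀ * F.T.tor χ * (F.T.tor χ₀)⁻¹ by
        rw [← map_mul, mul_comm, map_mul, mul_inv_cancel_right]]
    calc _ = F.T.tor χ₀ * g * (F.T.tor χ₀)⁻¹ := by rw [hg]; group
      _ = g := by rw [hcomm, mul_inv_cancel_right]
  obtain ⟨e1, -, e3⟩ := cell_unique F lam h e
  have hz : ∀ {a b : k}, a ≠ 1 → a * b = b → b = 0 := fun ha hab =>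
    by_contra fun hb => ha ((mul_eq_right₀ hb).mp hab)
  have hy : y = 0 := funext fun j => hz (hχ _) (congrFun e1 j)
  have hx : x = 0 := funext fun j => hz (hχ _) (congrFun e3 j)
  rw [hg, hy, hx, prodPt_zero, prodPt_zero, one_mul, mul_one]

end Cell

section Torus

variable [Module.Free ℤ M] [Module.Finite ℤ M]

theorem isDomain_monoidAlgebra : IsDomain k[M] := by
  haveI : TwoUniqueSums M :=
    (AddEquiv.twoUniqueSums_iff (Module.Free.chooseBasis ℤ M).repr.toAddEquiv).mpr inferInstance
  haveI : NoZeroDivisors k[M] := inferInstance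
  exact NoZeroDivisors.to_isDomain _

variable [IsAlgClosed k]

theorem exists_char_lift_ne_zero {b : k[M]} (hb : b ≠ 0) :
    ∃ χ : Multiplicative M →* k, AddMonoidAlgebra.lift k k M χ b ≠ 0 := by
  by_contra h
  push Not at h
  refine hb (AddMonoidAlgebra.coeff_injective ?_)
  rw [AddMonoidAlgebra.coeff_zero]
  refine eq_zero_of_sum_char_mul_eq_zero (k := k) fun χ => ?_
  refine Eq.trans ?_ (h χ)
  rw [AddMonoidAlgebra.lift_apply]
  simp [Finsupp.sum, mul_comm]

/-- Every torus point is a product of two torus points off a hypersurface, transported along a regular map. -/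
theorem exists_two_torus {ψ : (Multiplicative M →* k) → Pt k A k} (hψ1 : ψ 1 = 1)
    (hψ : ∀ a : A, ∃ b : k[M], ∀ χ, (ψ χ).ofConv a = AddMonoidAlgebra.lift k k M χ b)
    {c : A} (hc : Coalgebra.counit (R := k) c ≠ 0) (χ : Multiplicative M →* k) :
    ∃ χ₁, (ψ χ₁).ofConv c ≠ 0 ∧ (ψ (charInv χ₁ * χ)).ofConv c ≠ 0 := by
  haveI := isDomain_monoidAlgebra (k := k) (M := M)
  obtain ⟨b, hb⟩ := hψ c
  have hb0 : b ≠ 0 := fun h => hc (by
    have := hb 1
    rw [h, hψ1, map_zero] at this
    simpa using this)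
  let τ : k[M] →ₐ[k] k[M] := AddMonoidAlgebra.lift k k[M] M
    { toFun := fun m => χ m • AddMonoidAlgebra.single (-m.toAdd) (1 : k)
      map_one' := by simp [AddMonoidAlgebra.one_def]
      map_mul' := fun p q => by simp [AddMonoidAlgebra.single_mul_single, AddMonoidAlgebra.smul_single, neg_add_rev,
        add_comm, mul_comm] }
  have hτ : ∀ χ₁ : Multiplicative M →* k, ∀ z : k[M],
      AddMonoidAlgebra.lift k k M χ₁ (τ z) = AddMonoidAlgebra.lift k k M (charInv χ₁ * χ) z := by
    intro χ₁ z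
    induction z using AddMonoidAlgebra.induction_linear with
    | zero => simp
    | add p q hp hq => simp only [map_add, hp, hq]
    | single m r => simp [τ, AddMonoidAlgebra.smul_single, mul_comm, mul_assoc]
  have hτb : τ b ≠ 0 := fun h => by
    obtain ⟨χ', hχ'⟩ := exists_char_lift_ne_zero hb0
    refine hχ' ?_
    have := hτ (χ * charInv χ') b
    rw [h, map_zero] at this
    have e : charInv (χ * charInv χ') * χ = χ' := MonoidHom.ext fun m => by
      simp only [MonoidHom.mul_apply, charInv_apply, inv_inv]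
      rw [mul_comm (χ m⁻¹), mul_assoc, ← map_mul χ, inv_mul_cancel, map_one, mul_one]
    rw [e] at this
    exact this.symm
  obtain ⟨χ₁, h1⟩ := exists_char_lift_ne_zero (mul_ne_zero hb0 hτb)
  rw [map_mul, mul_ne_zero_iff] at h1
  exact ⟨χ₁, by rw [hb]; exact h1.1, by rw [hb, ← hτ]; exact h1.2⟩

omit [Module.Free ℤ M] [Module.Finite ℤ M] [IsAlgClosed k] in
theorem regular_conj_tor (c : Pt k A k) (a : A) :
    ∃ b : k[M], ∀ χ, (c * F.T.tor χ * c⁻¹).ofConv a = AddMonoidAlgebra.lift k k M χ b := by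
  obtain ⟨b, hb⟩ := exists_conj c a
  exact ⟨F.T.π b, fun χ => hb _⟩

end Torus

section Commute

variable [Fintype ι] [Module.Free ℤ M] [Module.Finite ℤ M] [IsAlgClosed k]

/-- Two root groups commute when no root is a positive combination of their roots. -/
theorem rt_commute {a b : ι} (lam : M →+ ℤ) (hlam : ∀ i, lam (F.root i) ≠ 0) (ha : 0 < lam (F.root a))
    (hb : 0 < lam (F.root b)) (hnone : ∀ r : ι, ∀ p q : ℕ, 1 ≤ p → 1 ≤ q → F.root r ≠ p • F.root a + q • F.root b)
    (x y : k) : F.rt a x * F.rt b y = F.rt b y * F.rt a x := by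
  obtain ⟨n, m, eneg, epos, h⟩ := exists_signEnum F lam hlam
  let ω : Pt k A (MvPolynomial (Fin 2) k) := F.rt a (MvPolynomial.X 0 : (MvPolynomial (Fin 2) k)) * F.rt b (MvPolynomial.X 1 : (MvPolynomial (Fin 2) k)) *
    (F.rt a (MvPolynomial.X 0 : (MvPolynomial (Fin 2) k)))⁻¹ * (F.rt b (MvPolynomial.X 1 : (MvPolynomial (Fin 2) k)))⁻¹
  have hω : (F.cochar lam).InU ω :=
    (((F.inU_rt lam ha _).mul _ (F.inU_rt lam hb _)).mul _ (Coact.InU.inv _ (F.inU_rt lam ha _))).mul _
      (Coact.InU.inv _ (F.inU_rt lam hb _))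
  obtain ⟨c, hc, hcu⟩ := F.exists_coords h.pos h.pos_inj h.pos_range hω
  suffices hc0 : c = 0 by
    have h1 := congrArg (mapPt (MvPolynomial.aeval ![x, y] : (MvPolynomial (Fin 2) k) →ₐ[k] k)) hc
    rw [hc0, F.mapPt_prodPt] at h1
    have h2 : F.prodPt epos ((MvPolynomial.aeval ![x, y] : (MvPolynomial (Fin 2) k) →ₐ[k] k) ∘ (0 : Fin m → (MvPolynomial (Fin 2) k))) = 1 := by
      rw [show (MvPolynomial.aeval ![x, y] : (MvPolynomial (Fin 2) k) →ₐ[k] k) ∘ (0 : Fin m → (MvPolynomial (Fin 2) k)) = 0 from funext fun _ => map_zero _,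
        prodPt_zero]
    rw [h2] at h1
    simp only [ω, map_mul, map_inv, F.mapPt_rt, MvPolynomial.aeval_X, Matrix.cons_val_zero, Matrix.cons_val_one] at h1
    calc F.rt a x * F.rt b y = F.rt a x * F.rt b y * (F.rt a x)⁻¹ * (F.rt b y)⁻¹ * (F.rt b y * F.rt a x) := by group
      _ = _ := by rw [← h1, one_mul]
  have haxis : ∀ i : Fin 2, ∀ j, (MvPolynomial.aeval (Function.update (MvPolynomial.X : Fin 2 → (MvPolynomial (Fin 2) k)) i 0)) (c j) = 0 := by
    intro i j
    set σ : (MvPolynomial (Fin 2) k) →ₐ[k] (MvPolynomial (Fin 2) k) := MvPolynomial.aeval (Function.update (MvPolynomial.X : Fin 2 → (MvPolynomial (Fin 2) k)) i 0)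
    have h1 : F.prodPt epos (σ ∘ c) = mapPt σ ω := by rw [← F.mapPt_prodPt, hc]
    have h2 : mapPt σ ω = 1 := by
      fin_cases i <;>
        simp [ω, map_mul, map_inv, F.mapPt_rt, σ, PreFrame.rt_zero]
    have h3 := (F.exists_coords h.pos h.pos_inj h.pos_range ((F.cochar lam).inU_one (B := (MvPolynomial (Fin 2) k)))).unique
      (h1.trans h2) (show F.prodPt epos (0 : Fin m → (MvPolynomial (Fin 2) k)) = 1 from List.prod_eq_one fun g hg => by
        obtain ⟨l, rfl⟩ := List.mem_ofFn.mp hg
        exact F.rt_zero _)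
    exact congrFun h3 j
  have hscale : ∀ χ : Multiplicative M →* k, ∀ j,
      (MvPolynomial.aeval ![MvPolynomial.C (χ (Multiplicative.ofAdd (F.root a))) * MvPolynomial.X 0,
        MvPolynomial.C (χ (Multiplicative.ofAdd (F.root b))) * MvPolynomial.X 1] : (MvPolynomial (Fin 2) k) →ₐ[k] (MvPolynomial (Fin 2) k)) (c j) =
        MvPolynomial.C (χ (Multiplicative.ofAdd (F.root (epos j)))) * c j := by
    intro χ j
    set σ : (MvPolynomial (Fin 2) k) →ₐ[k] (MvPolynomial (Fin 2) k) := MvPolynomial.aeval ![MvPolynomial.C (χ (Multiplicative.ofAdd (F.root a))) * MvPolynomial.X 0,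
        MvPolynomial.C (χ (Multiplicative.ofAdd (F.root b))) * MvPolynomial.X 1]
    let χP : Multiplicative M →* (MvPolynomial (Fin 2) k) := (MvPolynomial.C : k →+* (MvPolynomial (Fin 2) k)).toMonoidHom.comp χ
    have h1 : F.prodPt epos (σ ∘ c) = mapPt σ ω := by rw [← F.mapPt_prodPt, hc]
    have h2 : mapPt σ ω = F.T.tor χP * ω * (F.T.tor χP)⁻¹ := by
      have e : ∀ g g' : Pt k A (MvPolynomial (Fin 2) k), F.T.tor χP * (g * g') * (F.T.tor χP)⁻¹ =
          (F.T.tor χP * g * (F.T.tor χP)⁻¹) * (F.T.tor χP * g' * (F.T.tor χP)⁻¹) := fun g g' => by group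
      have e' : ∀ g : Pt k A (MvPolynomial (Fin 2) k), F.T.tor χP * g⁻¹ * (F.T.tor χP)⁻¹ = (F.T.tor χP * g * (F.T.tor χP)⁻¹)⁻¹ :=
        fun g => by group
      simp only [ω, map_mul, map_inv, F.mapPt_rt, e, e', F.conj_rt]
      simp [σ, χP]
    have h4 : F.T.tor χP * ω * (F.T.tor χP)⁻¹ =
        F.prodPt epos fun l => MvPolynomial.C (χ (Multiplicative.ofAdd (F.root (epos l)))) * c l := by
      rw [← hc]
      show MulAut.conj (F.T.tor χP) (F.prodPt epos c) = _
      rw [Frame.prodPt, map_list_prod, List.map_ofFn]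
      congr 2
      funext l
      exact F.conj_rt (epos l) χP (c l)
    exact congrFun ((F.exists_coords h.pos h.pos_inj h.pos_range
      (F.prodPt_inU lam epos h.pos _)).unique (h1.trans (h2.trans h4)) rfl) j
  funext j
  refine MvPolynomial.ext _ _ fun d => by_contra fun hd => ?_
  rw [Pi.zero_apply, MvPolynomial.coeff_zero] at hd
  have hcoef : ∀ (s : Fin 2 → k), ((MvPolynomial.aeval fun i => MvPolynomial.C (s i) * MvPolynomial.X i : (MvPolynomial (Fin 2) k) →ₐ[k] (MvPolynomial (Fin 2) k)) (c j)).coeff d =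
      (d.prod fun i e => s i ^ e) * (c j).coeff d := by
    intro s
    induction c j using MvPolynomial.induction_on' with
    | monomial e r =>
      rw [MvPolynomial.aeval_monomial, MvPolynomial.algebraMap_eq, Finsupp.prod]
      simp only [mul_pow, Finset.prod_mul_distrib, ← map_pow, ← map_prod, ← mul_assoc, ← map_mul]
      rw [MvPolynomial.prod_X_pow_eq_monomial, MvPolynomial.C_mul_monomial, MvPolynomial.coeff_monomial,
        MvPolynomial.coeff_monomial, mul_one]
      split_ifs with he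
      · subst he; rw [Finsupp.prod, mul_comm]
      · rw [mul_zero]
    | add p q hp hq => simp only [map_add, MvPolynomial.coeff_add, hp, hq, mul_add]
  have hd1 : ∀ i, d i ≠ 0 := fun i hi => hd (by
    have h1 := congrArg (fun p : (MvPolynomial (Fin 2) k) => p.coeff d) (haxis i j)
    rw [show (MvPolynomial.aeval (Function.update (MvPolynomial.X : Fin 2 → (MvPolynomial (Fin 2) k)) i 0) : (MvPolynomial (Fin 2) k) →ₐ[k] (MvPolynomial (Fin 2) k)) =
        MvPolynomial.aeval (fun l => MvPolynomial.C (if l = i then 0 else 1) * MvPolynomial.X l) from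
      MvPolynomial.algHom_ext fun l => by
        by_cases hl : l = i <;> simp [hl]] at h1
    simp only [hcoef, MvPolynomial.coeff_zero] at h1
    rcases mul_eq_zero.mp h1 with h2 | h2
    · rw [Finsupp.prod, Finset.prod_eq_zero_iff] at h2
      obtain ⟨l, hl, hl0⟩ := h2
      split_ifs at hl0 with hli
      · exact absurd (hli ▸ hi) (Finsupp.mem_support_iff.mp hl)
      · simp at hl0
    · exact h2)
  refine hnone (epos j) (d 0) (d 1) (Nat.one_le_iff_ne_zero.mpr (hd1 0)) (Nat.one_le_iff_ne_zero.mpr (hd1 1)) ?_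
  refine eval_injective (k := k) (MonoidHom.ext fun χ => ?_)
  have h1 := congrArg (fun p : (MvPolynomial (Fin 2) k) => p.coeff d) (hscale χ j)
  rw [show (![MvPolynomial.C (χ (Multiplicative.ofAdd (F.root a))) * MvPolynomial.X 0,
      MvPolynomial.C (χ (Multiplicative.ofAdd (F.root b))) * MvPolynomial.X 1] : Fin 2 → (MvPolynomial (Fin 2) k)) =
      fun i => MvPolynomial.C (![χ (Multiplicative.ofAdd (F.root a)), χ (Multiplicative.ofAdd (F.root b))] i) *
        MvPolynomial.X i from funext fun i => by fin_cases i <;> rfl] at h1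
  simp only [hcoef, MvPolynomial.coeff_C_mul] at h1
  show χ (Multiplicative.ofAdd (F.root (epos j))) =
    χ (Multiplicative.ofAdd (d 0 • F.root a + d 1 • F.root b))
  rw [← mul_right_cancel₀ hd h1, Finsupp.prod_fintype _ _ (fun i => pow_zero _), Fin.prod_univ_two]
  simp [ofAdd_add, ofAdd_nsmul]

end Commute

end Groth.Agent.RedRk29
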