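import Groth.Agent.RedRk29.Extremal
import Groth.Agent.AlgGrpQ.UniPow
import Groth.Agent.AlgGrpQ.Flag
import Mathlib.RingTheory.RootsOfUnity.PrimitiveRoots
import Mathlib.RingTheory.RootsOfUnity.AlgebraicallyClosed
import Mathlib.RingTheory.Nilpotent.Basic

/-!
# Torus fixed points of a closed orbit with triangular stabilisers are extremal
-/

set_option autoImplicit false

universe u

open TensorProduct WithConv
open scoped AddMonoidAlgebra

namespace Groth.Agent.RedRk29

open BigCell29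
open AlgGrpQ (fil mem_fil mul_mem_fil mul_mem_fil_right fil_antitone)

section Linear

variable {k : Type u} [Field k] {V : Type u} [AddCommGroup V] [Module k V] {F : ℕ → Submodule k V}

/-- A unipotent endomorphism preserving a full flag is the identity on its gradeds. -/
theorem sub_one_mem_fil_one [Module.Finite k V] (hF : Monotone F) (h0 : F 0 = ⊥) {n : ℕ} (hn : F n = ⊤)
    (hr : ∀ i, i ≤ n → Module.finrank k (F i) = i) {f : Module.End k V} (hf : f ∈ fil F 0)
    (hnil : IsNilpotent (f - 1)) : f - 1 ∈ fil F 1 := by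
  rw [mem_fil]
  intro i w hw
  have hN : f - 1 ∈ fil F 0 := Submodule.sub_mem _ hf AlgGrpQ.one_mem_fil
  by_cases hi : n ≤ i
  · have htop : F i = ⊤ := eq_top_iff.mpr (hn ▸ hF hi)
    rw [htop]; trivial
  push Not at hi
  have hlt : F i < F (i + 1) := lt_of_le_of_ne (hF (Nat.le_succ i)) fun h => by
    have := congrArg (fun S : Submodule k V => Module.finrank k S) h
    simp only [hr i hi.le, hr (i + 1) hi] at this
    omega
  obtain ⟨v, hv, hvi⟩ := SetLike.exists_of_lt hlt
  have hsup : F i ⊔ Submodule.span k {v} = F (i + 1) := by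
    refine Submodule.eq_of_le_of_finrank_le (sup_le hlt.le ((Submodule.span_singleton_le_iff_mem _ _).mpr hv)) ?_
    have hlt' : F i < F i ⊔ Submodule.span k {v} := lt_of_le_of_ne le_sup_left fun h =>
      hvi (h ▸ Submodule.mem_sup_right (Submodule.mem_span_singleton_self v))
    have := Submodule.finrank_lt_finrank_of_lt hlt'
    rw [hr i hi.le] at this
    rw [hr (i + 1) hi]
    omega
  obtain ⟨u, hu, _, hc, hsum⟩ := Submodule.mem_sup.mp (hsup ▸ hN (i + 1) v (by simpa using hv))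
  obtain ⟨c, rfl⟩ := Submodule.mem_span_singleton.mp hc
  have hpow : ∀ m : ℕ, ((f - 1) ^ m) v - c ^ m • v ∈ F i := fun m => by
    induction m with
    | zero => simp
    | succ m ih =>
      have e1 : (f - 1) v = u + c • v := hsum.symm
      have h1 : (f - 1) (((f - 1) ^ m) v - c ^ m • v) ∈ F i := hN i _ (by simpa using ih)
      have e : ((f - 1) ^ (m + 1)) v - c ^ (m + 1) • v = (f - 1) (((f - 1) ^ m) v - c ^ m • v) + c ^ m • u := by
        rw [map_sub, map_smul, e1, pow_succ' (f - 1), Module.End.mul_apply, pow_succ, ← smul_smul, smul_add]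
        abel
      rw [e]
      exact Submodule.add_mem _ h1 (Submodule.smul_mem _ _ hu)
  obtain ⟨N, hN'⟩ := hnil
  have := hpow N
  rw [hN', LinearMap.zero_apply, zero_sub, Submodule.neg_mem_iff] at this
  have hc0 : c = 0 := by
    by_contra hc0
    exact hvi ((Submodule.smul_mem_iff _ (pow_ne_zero N hc0)).mp this)
  obtain ⟨w', hw', _, hd, rfl⟩ := Submodule.mem_sup.mp (hsup ▸ hw)
  obtain ⟨d, rfl⟩ := Submodule.mem_span_singleton.mp hd
  rw [map_add, map_smul]
  refine Submodule.add_mem _ (hN i _ (by simpa using hw')) (Submodule.smul_mem _ _ ?_)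
  rw [← hsum, hc0, zero_smul, add_zero]
  exact hu

/-- A unipotent endomorphism of invertible finite order is the identity. -/
theorem eq_one_of_pow_eq_one {f : Module.End k V} (hnil : IsNilpotent (f - 1)) {ℓ : ℕ} (hℓ : (ℓ : k) ≠ 0)
    (hpow : f ^ ℓ = 1) : f = 1 := by
  have h1 : (∑ i ∈ Finset.range ℓ, f ^ i) * (f - 1) = 0 := by rw [geom_sum_mul, hpow, sub_self]
  have hu : IsUnit (∑ i ∈ Finset.range ℓ, f ^ i) := by
    have e : (∑ i ∈ Finset.range ℓ, f ^ i) = algebraMap k _ (ℓ : k) + ∑ i ∈ Finset.range ℓ, (f ^ i - 1) := by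
      rw [map_natCast, Finset.sum_sub_distrib, Finset.sum_const, Finset.card_range, nsmul_one, add_sub_cancel]
    rw [e]
    refine IsNilpotent.isUnit_add_left_of_commute ?_ ((Ne.isUnit hℓ).map _) ((Algebra.commutes _ _).symm)
    have hg : ∀ i : ℕ, ∃ z, f ^ i - 1 = z * (f - 1) ∧ Commute z (f - 1) := fun i =>
      ⟨∑ j ∈ Finset.range i, f ^ j, (geom_sum_mul f i).symm,
        Commute.sum_left _ _ _ fun j _ => ((Commute.refl f).pow_left j).sub_right (Commute.one_right _)⟩
    choose z hz hzc using hg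
    rw [show ∑ i ∈ Finset.range ℓ, (f ^ i - 1) = (∑ i ∈ Finset.range ℓ, z i) * (f - 1) by
      rw [Finset.sum_mul]; exact Finset.sum_congr rfl fun i _ => hz i]
    exact (Commute.sum_left _ _ _ fun i _ => hzc i).isNilpotent_mul_left hnil
  exact sub_eq_zero.mp (hu.mul_right_eq_zero.mp h1)

end Linear

variable {k : Type u} [Field k] [IsAlgClosed k] {A : Type u} [CommRing A] [HopfAlgebra k A]
  {M ι : Type} [AddCommGroup M] [Module.Free ℤ M] [Module.Finite ℤ M] (F : Frame k A M ι)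
  {J : Type} [Fintype J] {W : J → Type u} [∀ j, AddCommGroup (W j)] [∀ j, Module k (W j)]
  [∀ j, Module.Finite k (W j)] (π : ∀ j, Pt k A k →* Module.End k (W j))

/-- The stabiliser of the lines of a tuple. -/
noncomputable def lineStab (p : ∀ j, W j) : Subgroup (Pt k A k) where
  carrier := {g | ∀ j, ∃ c : k, c ≠ 0 ∧ π j g (p j) = c • p j}
  one_mem' j := ⟨1, one_ne_zero, by simp⟩
  mul_mem' {g h} hg hh j := by
    obtain ⟨c, hc, hgc⟩ := hg j
    obtain ⟨d, hd, hhd⟩ := hh j
    exact ⟨d * c, mul_ne_zero hd hc, by rw [map_mul, Module.End.mul_apply, hhd, map_smul, hgc, smul_smul]⟩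
  inv_mem' {g} hg j := by
    obtain ⟨c, hc, hgc⟩ := hg j
    refine ⟨c⁻¹, inv_ne_zero hc, ?_⟩
    have := congrArg (π j g⁻¹) hgc
    rw [← Module.End.mul_apply, ← map_mul, inv_mul_cancel, map_one, Module.End.one_apply, map_smul] at this
    rw [eq_inv_smul_iff₀ hc]; exact this.symm

omit [IsAlgClosed k] [Fintype J] [∀ j, Module.Finite k (W j)] in
theorem mem_lineStab {p : ∀ j, W j} {g : Pt k A k} :
    g ∈ lineStab π p ↔ ∀ j, ∃ c : k, c ≠ 0 ∧ π j g (p j) = c • p j := Iff.rfl

omit [Fintype J] [∀ j, Module.Finite k (W j)] [Module.Free ℤ M] [Module.Finite ℤ M] [IsAlgClosed k] in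
theorem tor_mem_lineStab {p : ∀ j, W j} {m : J → M} (he : Eig F π p m) (χ : Multiplicative M →* k) :
    F.T.tor χ ∈ lineStab π p := fun j =>
  ⟨χ (Multiplicative.ofAdd (m j)), ((Group.isUnit (Multiplicative.ofAdd (m j))).map χ).ne_zero, he.2 j χ⟩

omit [IsAlgClosed k] [Fintype J] [∀ j, Module.Finite k (W j)] in
theorem fix_mem_lineStab {p : ∀ j, W j} {g : Pt k A k} (h : ∀ j, π j g (p j) = p j) : g ∈ lineStab π p :=
  fun j => ⟨1, one_ne_zero, by rw [one_smul, h j]⟩

omit [Module.Free ℤ M] [Module.Finite ℤ M] [IsAlgClosed k] in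
theorem tor_injective : Function.Injective (F.T.tor : (Multiplicative M →* k) → Pt k A k) := by
  intro χ χ' h
  refine (AddMonoidAlgebra.lift k k M).injective (AlgHom.ext fun x => ?_)
  obtain ⟨a, rfl⟩ := F.π_surj x
  exact DFunLike.congr_fun (congrArg WithConv.ofConv h) a

variable [Fintype ι] [Algebra.Smooth k A] [IsDomain A]

/-- Conjugating the torus into the centraliser of a regular element gives a map of characters. -/
theorem exists_char_map {lam : M →+ ℤ} (hlam : ∀ i, lam (F.root i) ≠ 0) {χ₀ : Multiplicative M →* k}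
    (hχ₀ : ∀ i, χ₀ (Multiplicative.ofAdd (F.root i)) ≠ 1) (c : Pt k A k)
    (hcomm : ∀ χ, F.T.tor χ₀ * (c * F.T.tor χ * c⁻¹) = (c * F.T.tor χ * c⁻¹) * F.T.tor χ₀) :
    ∃ φ : M →+ M, ∀ χ : Multiplicative M →* k,
      ∃ χ' : Multiplicative M →* k, c * F.T.tor χ * c⁻¹ = F.T.tor χ' ∧
        ∀ m, χ' (Multiplicative.ofAdd m) = χ (Multiplicative.ofAdd (φ m)) := by
  obtain ⟨n, m, eneg, epos, h⟩ := exists_signEnum F lam hlam
  obtain ⟨cc, hcc, hcell⟩ := exists_cell_fn F lam h
  have htor : ∀ χ, ∃ χ', c * F.T.tor χ * c⁻¹ = F.T.tor χ' := by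
    intro χ
    obtain ⟨χ₁, h1, h2⟩ := exists_two_torus (k := k) (ψ := fun χ => c * F.T.tor χ * c⁻¹) (by simp)
      (regular_conj_tor F c) hcc χ
    obtain ⟨y, t, x, e⟩ := hcell _ h1
    obtain ⟨y', t', x', e'⟩ := hcell _ h2
    refine ⟨t * t', ?_⟩
    rw [map_mul, ← mem_torus_of_comm F lam h hχ₀ e (hcomm _), ← mem_torus_of_comm F lam h hχ₀ e' (hcomm _)]
    show _ = (c * F.T.tor χ₁ * c⁻¹) * (c * F.T.tor (charInv χ₁ * χ) * c⁻¹)
    rw [map_mul, tor_charInv]
    group
  choose t ht using htor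
  have hmul : ∀ χ χ', t (χ * χ') = t χ * t χ' := fun χ χ' => tor_injective F (by
    rw [map_mul, ← ht, ← ht, ← ht, map_mul]; group)
  have hone : t 1 = 1 := tor_injective F (by rw [← ht, map_one, mul_one, mul_inv_cancel])
  have hchar : ∀ x : M, ∃ n : M, ∀ χ, t χ (Multiplicative.ofAdd x) = χ (Multiplicative.ofAdd n) := by
    intro x
    obtain ⟨a, ha⟩ := F.π_surj (AddMonoidAlgebra.single x 1)
    obtain ⟨b, hb⟩ := regular_conj_tor F c a
    have hval : ∀ χ, t χ (Multiplicative.ofAdd x) = AddMonoidAlgebra.lift k k M χ b := fun χ => by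
      rw [← hb, ht]
      show _ = AddMonoidAlgebra.lift k k M (t χ) (F.T.π a)
      rw [ha, AddMonoidAlgebra.lift_single, one_smul]
    have hbn : b ≠ 0 := fun hb0 => by
      have := hval 1
      rw [hb0, map_zero, hone] at this
      simp at this
    obtain ⟨n, hn⟩ : ∃ n, b.coeff n ≠ 0 := by
      by_contra hall
      push Not at hall
      exact hbn (AddMonoidAlgebra.coeff_injective (Finsupp.ext fun n => by simp [hall n]))
    refine ⟨n, fun χ => ?_⟩
    have hcoef := eq_zero_of_sum_char_mul_eq_zero (k := k)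
      (f := Finsupp.onFinset b.coeff.support
        (fun l => b.coeff l * (t χ (Multiplicative.ofAdd x) - χ (Multiplicative.ofAdd l)))
        fun l hl => Finsupp.mem_support_iff.mpr (left_ne_zero_of_mul hl)) fun χ' => by
      rw [Finsupp.onFinset_sum _ (fun _ => zero_mul _)]
      have hs : ∀ ψ : Multiplicative M →* k, AddMonoidAlgebra.lift k k M ψ b =
          ∑ l ∈ b.coeff.support, b.coeff l * ψ (Multiplicative.ofAdd l) := fun ψ => by
        rw [AddMonoidAlgebra.lift_apply]; simp [Finsupp.sum]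
      have h2 := hval (χ * χ')
      rw [hmul, MonoidHom.mul_apply, hs, hval χ', hs χ', Finset.mul_sum] at h2
      simp only [mul_sub, sub_mul, Finset.sum_sub_distrib, sub_eq_zero]
      refine Eq.trans ?_ (h2.trans (Finset.sum_congr rfl fun l _ => by rw [MonoidHom.mul_apply]; ring))
      exact Finset.sum_congr rfl fun l _ => by ring
    have := congrArg (fun f : M →₀ k => f n) hcoef
    simp only [Finsupp.onFinset_apply, Finsupp.coe_zero, Pi.zero_apply, mul_eq_zero, sub_eq_zero] at this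
    exact this.resolve_left hn
  choose φ hφ using hchar
  refine ⟨AddMonoidHom.mk' φ fun x y => eval_injective (k := k) (MonoidHom.ext fun χ => ?_),
    fun χ => ⟨t χ, ht χ, fun x => hφ x χ⟩⟩
  show χ (Multiplicative.ofAdd (φ (x + y))) = χ (Multiplicative.ofAdd (φ x + φ y))
  rw [← hφ, ofAdd_add, map_mul, hφ, hφ, ofAdd_add, map_mul]

section Root

variable {V : Type u} [AddCommGroup V] [Module k V] [Module.Finite k V] (ρ : Pt k A k →* Module.End k V)

/-- The regular functions given by the matrix coefficients generate. -/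
def Generates : Prop := Algebra.adjoin k {a : A | ∃ v φ, ∀ g, (φ : V →ₗ[k] k) (ρ g v) = g.ofConv a} = ⊤

omit [IsAlgClosed k] [Module.Finite k V] [Fintype ι] [Algebra.Smooth k A] [IsDomain A] in
theorem Generates.injective {ρ : Pt k A k →* Module.End k V} (hgen : Generates ρ) : Function.Injective ρ := by
  intro g h e
  refine WithConv.ofConv_injective (AlgHom.ext_of_adjoin_eq_top hgen fun a ha => ?_)
  obtain ⟨v, φ, hv⟩ := ha
  rw [← hv, ← hv, e]

variable {ρ} (hgen : Generates ρ) {fl : ℕ → Submodule k V} (hfl : Monotone fl) {n : ℕ}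

include hgen hfl in
omit [IsAlgClosed k] [Fintype ι] [Algebra.Smooth k A] [IsDomain A] in
/-- Roots of unipotent elements of a line stabiliser, to first order. -/
theorem exists_root_elt (hρ : IsRegRep ρ) {p : ∀ j, W j} (hπ : ∀ j, IsRegRep (π j)) {u : Pt k A k} (hu : u ∈ lineStab π p)
    (hfn : fl n = ⊤) (hf0 : fl 0 = ⊥) {i : ℕ} (hi : 1 ≤ i) (hui : ρ u - 1 ∈ fil fl i) {ℓ : ℕ} (hℓ : (ℓ : k) ≠ 0) :
    ∃ q ∈ lineStab π p, ρ q - 1 - (ℓ : k)⁻¹ • (ρ u - 1) ∈ fil fl (i + 1) := by
  set N := ρ u - 1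
  have hN2 : ∀ m : ℕ, 2 ≤ m → N ^ m ∈ fil fl (i + 1) := by
    intro m hm
    have : ∀ m : ℕ, 1 ≤ m → N ^ m ∈ fil fl (i * m) := fun m hm => by
      induction m, hm using Nat.le_induction with
      | base => simpa using hui
      | succ m _ ih => rw [pow_succ, Nat.mul_succ]; exact mul_mem_fil ih hui
    exact fil_antitone hfl (by nlinarith) (this m (by omega))
  obtain ⟨p', hp'⟩ := CharP.exists k
  rcases CharP.char_is_prime_or_zero k p' with hpp | rfl
  · haveI := Fact.mk hpp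
    have hcop : Nat.Coprime ℓ p' := ((Nat.Prime.coprime_iff_not_dvd hpp).mpr fun h => hℓ
      ((CharP.cast_eq_zero_iff k p' ℓ).mpr h)).symm
    obtain ⟨m, hm⟩ : ∃ m : ℕ, (m : k) = (ℓ : k)⁻¹ := by
      obtain ⟨m, hm⟩ := Nat.exists_mul_mod_eq_one_of_coprime hcop hpp.one_lt
      have hm' : ℓ * m % p' = 1 := by first | exact hm | exact hm.2
      refine ⟨m, eq_inv_of_mul_eq_one_left ?_⟩
      have e := congrArg (fun x : ℕ => (x : k)) (Nat.div_add_mod (ℓ * m) p')
      simp only [hm', Nat.cast_add, Nat.cast_mul, CharP.cast_eq_zero k p', zero_mul, zero_add, Nat.cast_one] at e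
      rw [mul_comm, ← e]
    refine ⟨u ^ m, pow_mem hu m, ?_⟩
    rw [← hm, map_pow, show ρ u = 1 + N from (add_sub_cancel _ _).symm]
    have h2 : N * N ∈ fil fl (i + 1) := fil_antitone hfl (by omega) (mul_mem_fil hui hui)
    have h0 : 1 + N ∈ fil fl 0 := Submodule.add_mem _ AlgGrpQ.one_mem_fil (fil_antitone hfl (Nat.zero_le i) hui)
    clear hm
    induction m with
    | zero => simp
    | succ m ih =>
      rw [show (1 + N) ^ (m + 1) - 1 - ((m + 1 : ℕ) : k) • N =
          ((1 + N) ^ m - 1 - (m : k) • N) * (1 + N) + (m : k) • (N * N) by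
        rw [pow_succ, Nat.cast_succ, add_smul, one_smul, sub_mul, sub_mul, one_mul, smul_mul_assoc, mul_add, mul_one,
          mul_add, mul_one, smul_add]
        abel]
      exact Submodule.add_mem _ (by simpa using mul_mem_fil ih h0) (Submodule.smul_mem _ _ h2)
  · haveI : CharZero k := CharP.charP_to_charZero k
    obtain ⟨B, hB⟩ : IsNilpotent N := AlgGrpQ.isNilpotent_of_mem_fil hf0 hfn (fil_antitone hfl hi hui)
    let bn : ℕ → Polynomial k := fun j => Polynomial.C ((j.factorial : k))⁻¹ * descPochhammer k j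
    have hbn : ∀ (e j : ℕ), (bn j).eval (e : k) = (e.choose j : k) := fun e j => by
      simp only [bn, Polynomial.eval_mul, Polynomial.eval_C, descPochhammer_eval_eq_descFactorial,
        Nat.descFactorial_eq_factorial_mul_choose, Nat.cast_mul]
      field_simp [Nat.cast_ne_zero.mpr j.factorial_ne_zero]
    have hpowf : ∀ e : ℕ, ρ (u ^ e) = ∑ j ∈ Finset.range B, (bn j).eval (e : k) • N ^ j := fun e => by
      rw [map_pow, show ρ u = N + 1 from (sub_add_cancel _ _).symm, (Commute.one_right N).add_pow]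
      refine Eq.trans (Finset.sum_congr rfl fun j _ => (by
        rw [one_pow, mul_one, hbn, Nat.cast_smul_eq_nsmul, nsmul_eq_mul, ← Nat.cast_comm] :
          N ^ j * 1 ^ (e - j) * (e.choose j : Module.End k V) = (bn j).eval (e : k) • N ^ j)) ?_
      rw [Finset.sum_subset (Finset.subset_union_left (s₂ := Finset.range B)) fun j _ hj => by
          rw [hbn, Nat.choose_eq_zero_of_lt (by simpa using hj), Nat.cast_zero, zero_smul],
        ← Finset.sum_subset (Finset.subset_union_right (s₁ := Finset.range (e + 1))) fun j _ hj => by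
          rw [pow_eq_zero_of_le (by simpa using hj) hB, smul_zero]]
    have hP : ∀ a : A, ∃ P : Polynomial k, ∀ e : ℕ, P.eval (e : k) = (u ^ e).ofConv a := by
      let S : Subalgebra k A :=
        { carrier := {a | ∃ P : Polynomial k, ∀ e : ℕ, P.eval (e : k) = (u ^ e).ofConv a}
          mul_mem' := fun ⟨P, hP⟩ ⟨Q, hQ⟩ => ⟨P * Q, fun e => by rw [Polynomial.eval_mul, hP, hQ, map_mul]⟩
          add_mem' := fun ⟨P, hP⟩ ⟨Q, hQ⟩ => ⟨P + Q, fun e => by rw [Polynomial.eval_add, hP, hQ, map_add]⟩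
          algebraMap_mem' := fun r => ⟨Polynomial.C r, fun e => by
            rw [Polynomial.eval_C, AlgHom.commutes, Algebra.algebraMap_self_apply]⟩ }
      suffices hS : ⊤ ≤ S from fun a => hS (Algebra.mem_top : a ∈ (⊤ : Subalgebra k A))
      rw [← hgen]
      refine Algebra.adjoin_le ?_
      rintro a ⟨v, φ, hv⟩
      refine ⟨∑ j ∈ Finset.range B, Polynomial.C (φ ((N ^ j) v)) * bn j, fun e => ?_⟩
      rw [← hv, hpowf, Polynomial.eval_finsetSum, LinearMap.sum_apply, map_sum]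
      exact Finset.sum_congr rfl fun j _ => by simp [mul_comm]
    choose P hP using hP
    let e : A →ₐ[k] k :=
      { toFun := fun a => (P a).eval (ℓ : k)⁻¹
        map_one' := by rw [show P 1 = 1 from AlgGrpQ.poly_ext fun e => by rw [hP, map_one, Polynomial.eval_one],
          Polynomial.eval_one]
        map_mul' := fun a b => by
          rw [show P (a * b) = P a * P b from AlgGrpQ.poly_ext fun e => by
            rw [hP, map_mul, Polynomial.eval_mul, hP, hP], Polynomial.eval_mul]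
        map_zero' := by rw [show P 0 = 0 from AlgGrpQ.poly_ext fun e => by rw [hP, map_zero, Polynomial.eval_zero],
          Polynomial.eval_zero]
        map_add' := fun a b => by
          rw [show P (a + b) = P a + P b from AlgGrpQ.poly_ext fun e => by
            rw [hP, map_add, Polynomial.eval_add, hP, hP], Polynomial.eval_add]
        commutes' := fun r => by
          rw [show P (algebraMap k A r) = Polynomial.C r from AlgGrpQ.poly_ext fun e => by
            rw [hP, AlgHom.commutes, Algebra.algebraMap_self_apply, Polynomial.eval_C], Polynomial.eval_C,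
            Algebra.algebraMap_self_apply] }
    refine ⟨toConv e, fun j => ?_, ?_⟩
    · have hval : ∀ φ : W j →ₗ[k] k, φ (p j) = 0 → φ (π j (toConv e) (p j)) = 0 := fun φ hφ => by
        obtain ⟨a, ha⟩ := (hπ j).exists_coef (p j) φ
        rw [ha]
        show (P a).eval _ = 0
        rw [show P a = 0 from AlgGrpQ.poly_ext fun e => by
          obtain ⟨c, -, hc⟩ := (pow_mem hu e) j
          rw [hP, ← ha, hc, map_smul, hφ, smul_zero, Polynomial.eval_zero], Polynomial.eval_zero]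
      have hmem : π j (toConv e) (p j) ∈ Submodule.span k {p j} := by
        by_contra hne
        obtain ⟨φ, h1, h2⟩ := Submodule.exists_dual_map_eq_bot_of_notMem hne inferInstance
        exact h1 (hval φ ((Submodule.mem_bot k).mp (h2 ▸ ⟨p j, Submodule.mem_span_singleton_self _, rfl⟩)))
      obtain ⟨c, hc⟩ := Submodule.mem_span_singleton.mp hmem
      by_cases hc0 : c = 0
      · refine ⟨1, one_ne_zero, ?_⟩
        have hpj : p j = 0 := by
          have := congrArg (π j (toConv e)⁻¹) hc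
          rw [hc0, zero_smul, map_zero, ← Module.End.mul_apply, ← map_mul, inv_mul_cancel, map_one,
            Module.End.one_apply] at this
          exact this.symm
        rw [hpj, map_zero, smul_zero]
      · exact ⟨c, hc0, hc.symm⟩
    · have he : ρ (toConv e) = ∑ j ∈ Finset.range (max B 2), (bn j).eval (ℓ : k)⁻¹ • N ^ j := by
        rw [← Finset.sum_subset (Finset.range_mono (le_max_left B 2)) fun j _ hj => by
          rw [pow_eq_zero_of_le (by simpa using hj) hB, smul_zero]]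
        refine LinearMap.ext fun v => sub_eq_zero.mp ((Module.forall_dual_apply_eq_zero_iff k _).mp fun φ => ?_)
        obtain ⟨a, ha⟩ := hρ.exists_coef v φ
        rw [map_sub, ha]
        show (P a).eval _ - _ = 0
        rw [show P a = ∑ j ∈ Finset.range B, Polynomial.C (φ ((N ^ j) v)) * bn j from AlgGrpQ.poly_ext fun e => by
          rw [hP, ← ha, hpowf, Polynomial.eval_finsetSum, LinearMap.sum_apply, map_sum]
          exact Finset.sum_congr rfl fun j _ => by simp [mul_comm], Polynomial.eval_finsetSum,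
          LinearMap.sum_apply, map_sum, sub_eq_zero]
        exact Finset.sum_congr rfl fun j _ => by simp [mul_comm]
      rw [he, ← Finset.sum_range_add_sum_Ico _ (le_max_right B 2)]
      have e0 : (bn 0).eval (ℓ : k)⁻¹ = 1 := by simp [bn]
      have e1 : (bn 1).eval (ℓ : k)⁻¹ = (ℓ : k)⁻¹ := by simp [bn]
      simp only [Finset.sum_range_succ, Finset.sum_range_zero, zero_add, e0, e1, pow_zero, one_smul, pow_one]
      rw [show ∀ (a b c : Module.End k V), a + b + c - a - b = c from fun a b c => by abel]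
      exact Submodule.sum_mem _ fun j hj => Submodule.smul_mem _ _ (hN2 j (Finset.mem_Ico.mp hj).1)

end Root

section Classify

variable {V : Type u} [AddCommGroup V] [Module k V] [Module.Finite k V] {ρ : Pt k A k →* Module.End k V}

/-- The stabiliser of the lines of a tuple preserves a full flag of the representation. -/
def HasTri (ρ : Pt k A k →* Module.End k V) (p : ∀ j, W j) : Prop :=
  ∃ (n : ℕ) (fl : ℕ → Submodule k V), Monotone fl ∧ fl 0 = ⊥ ∧ fl n = ⊤ ∧
    (∀ i, i ≤ n → Module.finrank k (fl i) = i) ∧ ∀ g ∈ lineStab π p, ρ g ∈ fil fl 0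

variable (hρ : IsRegRep ρ) (hgen : Generates ρ)

omit [IsAlgClosed k] [Module.Finite k V] [Fintype ι] [Algebra.Smooth k A] [IsDomain A] in
theorem conj_pow' (g t : Pt k A k) (n : ℕ) : (g⁻¹ * t * g) ^ n = g⁻¹ * t ^ n * g := by
  induction n with
  | zero => simp
  | succ n ih => rw [pow_succ, pow_succ, ih]; group

include hρ hgen in
/-- A point moving a torus fixed tuple to another one can be corrected to normalise the torus. -/
theorem exists_normalizing (hπ : ∀ j, IsRegRep (π j)) (hne : ∀ i, F.root i ≠ 0) {lam : M →+ ℤ}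
    (hlam : ∀ i, lam (F.root i) ≠ 0) {x : ∀ j, W j} {m : J → M} (he : Eig F π x m)
    (hfix : ∀ g ∈ posRt F lam, ∀ j, π j g (x j) = x j) (htri : HasTri π ρ x) {y : ∀ j, W j} {m' : J → M}
    (hy : Eig F π y m') {g : Pt k A k} {c : J → k} (hyx : ∀ j, y j = c j • π j g (x j)) :
    ∃ (h : Pt k A k) (c' : J → k) (φ φ' : M →+ M),
      (∀ j, y j = c' j • π j h (x j)) ∧
      (∀ χ, ∃ χ' : Multiplicative M →* k, h * F.T.tor χ * h⁻¹ = F.T.tor χ' ∧
        ∀ a, χ' (Multiplicative.ofAdd a) = χ (Multiplicative.ofAdd (φ' a))) ∧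
      (∀ χ, ∃ χ' : Multiplicative M →* k, h⁻¹ * F.T.tor χ * h = F.T.tor χ' ∧
        ∀ a, χ' (Multiplicative.ofAdd a) = χ (Multiplicative.ofAdd (φ a))) := by
  classical
  obtain ⟨n, fl, hfl, hf0, hfn, hfr, htri⟩ := htri
  have hinj := hgen.injective
  have hψmem : ∀ χ, g⁻¹ * F.T.tor χ * g ∈ lineStab π x := by
    intro χ j
    have hc : c j ≠ 0 := fun h0 => hy.1 j (by rw [hyx j, h0, zero_smul])
    refine ⟨χ (Multiplicative.ofAdd (m' j)), ((Group.isUnit (Multiplicative.ofAdd (m' j))).map χ).ne_zero, ?_⟩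
    have e := hy.2 j χ
    rw [hyx j, map_smul, smul_comm] at e
    rw [map_mul, map_mul, Module.End.mul_apply, Module.End.mul_apply, smul_right_injective _ hc e, map_smul,
      ← Module.End.mul_apply, ← map_mul, inv_mul_cancel, map_one, Module.End.one_apply]
  set R := lineStab π x
  have hTR : ∀ χ, F.T.tor χ ∈ R := fun χ => tor_mem_lineStab F π he χ
  let R₁ : Set (Pt k A k) := {r | r ∈ R ∧ ρ r - 1 ∈ fil fl 1}
  have hR1 : ∀ r ∈ R, IsNilpotent (ρ r - 1) → r ∈ R₁ := fun r hr hnil =>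
    ⟨hr, sub_one_mem_fil_one hfl hf0 hfn hfr (htri r hr) hnil⟩
  have hmulR1 : ∀ a b, a ∈ R₁ → b ∈ R₁ → a * b ∈ R₁ := fun a b ha hb => ⟨mul_mem ha.1 hb.1, by
    rw [map_mul, show ρ a * ρ b - 1 = (ρ a - 1) * (ρ b - 1) + (ρ a - 1) + (ρ b - 1) by noncomm_ring]
    exact Submodule.add_mem _ (Submodule.add_mem _ (fil_antitone hfl (by omega) (mul_mem_fil ha.2 hb.2)) ha.2) hb.2⟩
  have hinvR1 : ∀ a, a ∈ R₁ → a⁻¹ ∈ R₁ := fun a ha => ⟨inv_mem ha.1, by
    rw [show ρ a⁻¹ - 1 = -(ρ a⁻¹ * (ρ a - 1)) by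
      rw [mul_sub, ← map_mul, inv_mul_cancel, map_one, mul_one, neg_sub]]
    exact Submodule.neg_mem _ (by simpa using mul_mem_fil (htri _ (inv_mem ha.1)) ha.2)⟩
  have hconjR1 : ∀ s a, s ∈ R → a ∈ R₁ → s * a * s⁻¹ ∈ R₁ := fun s a hs ha =>
    ⟨mul_mem (mul_mem hs ha.1) (inv_mem hs), by
      rw [map_mul, map_mul, show ρ s * ρ a * ρ s⁻¹ - 1 = ρ s * (ρ a - 1) * ρ s⁻¹ by
        rw [mul_sub, sub_mul, mul_one, ← map_mul ρ s s⁻¹, mul_inv_cancel, map_one]]
      simpa using mul_mem_fil (mul_mem_fil (htri _ hs) ha.2) (htri _ (inv_mem hs))⟩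
  have htorR1 : ∀ χ, F.T.tor χ ∈ R₁ → χ = 1 := by
    intro χ hχ
    obtain ⟨N, hN⟩ := AlgGrpQ.isNilpotent_of_mem_fil hf0 hfn hχ.2
    refine tor_injective F (hinj ?_)
    rw [map_one, map_one]
    refine LinearMap.ext fun v => ?_
    rw [tor_eq_sum_wt F hρ v χ, Module.End.one_apply]
    conv_rhs => rw [← sum_wt F hρ v]
    refine Finset.sum_congr rfl fun a ha => ?_
    have hpow : ∀ b : ℕ, ((ρ (F.T.tor χ) - 1) ^ b) (wt F hρ v a) =
        (χ (Multiplicative.ofAdd a) - 1) ^ b • wt F hρ v a := fun b => by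
      induction b with
      | zero => simp
      | succ b ih =>
        rw [pow_succ', Module.End.mul_apply, ih, map_smul, LinearMap.sub_apply, (wt_mem F hρ v a) χ,
          Module.End.one_apply, smul_sub, smul_smul, pow_succ, mul_sub, mul_one, sub_smul]
    have := hpow N
    rw [hN, LinearMap.zero_apply] at this
    have h1 := sub_eq_zero.mp (eq_zero_of_pow_eq_zero
      ((smul_eq_zero.mp this.symm).resolve_right (Finsupp.mem_support_iff.mp ha)))
    show χ (Multiplicative.ofAdd a) • wt F hρ v a = wt F hρ v a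
    rw [h1, one_smul]
  obtain ⟨nn, mm, eneg, epos, hsign⟩ := exists_signEnum F lam hlam
  obtain ⟨cc, hcc, hcell⟩ := exists_cell_decomp F lam hlam
  have hpart : ∀ s ∈ R, s.ofConv cc ≠ 0 → ∃ χ', ∃ r ∈ R₁, s = F.T.tor χ' * r := by
    intro s hs hsc
    obtain ⟨v, χ', u, hv, hu, rfl⟩ := hcell s hsc
    have huR : u ∈ R := fix_mem_lineStab π fun j => hfix u hu j
    have hvR : v ∈ R := by
      have := mul_mem (mul_mem hs (inv_mem huR)) (inv_mem (hTR χ'))
      simpa using this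
    refine ⟨χ', (F.T.tor χ')⁻¹ * v * F.T.tor χ' * u,
      hmulR1 _ _ ?_ (hR1 u huR (isNilpotent_sub_one F lam hρ hu)), by group⟩
    have := hconjR1 _ v (inv_mem (hTR χ')) (hR1 v hvR (isNilpotent_sub_one F (-lam) hρ hv))
    rwa [inv_inv] at this
  have htpart : ∀ χ, ∃ χ', ∃ r ∈ R₁, g⁻¹ * F.T.tor χ * g = F.T.tor χ' * r := by
    intro χ
    obtain ⟨χ₁, h1, h2⟩ := exists_two_torus (k := k) (ψ := fun χ => g⁻¹ * F.T.tor χ * g) (by simp)
      (fun a => by simpa using regular_conj_tor F g⁻¹ a) hcc χ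
    obtain ⟨t₁, r₁, hr₁, e₁⟩ := hpart _ (hψmem χ₁) h1
    obtain ⟨t₂, r₂, hr₂, e₂⟩ := hpart _ (hψmem _) h2
    refine ⟨t₁ * t₂, (F.T.tor t₂)⁻¹ * r₁ * F.T.tor t₂ * r₂, hmulR1 _ _ ?_ hr₂, ?_⟩
    · have := hconjR1 _ r₁ (inv_mem (hTR t₂)) hr₁
      rwa [inv_inv] at this
    · calc g⁻¹ * F.T.tor χ * g = (g⁻¹ * F.T.tor χ₁ * g) * (g⁻¹ * F.T.tor (charInv χ₁ * χ) * g) := by
            rw [map_mul, tor_charInv]; group
        _ = (F.T.tor t₁ * r₁) * (F.T.tor t₂ * r₂) := by rw [← e₁, ← e₂]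
        _ = _ := by rw [map_mul]; group
  choose τ r hr hτ using htpart
  obtain ⟨p, hp⟩ := CharP.exists k
  obtain ⟨ℓ, hℓgt, hℓp⟩ := Nat.exists_infinite_primes ((∑ i, (lam (F.root i)).natAbs) + p + 2)
  have hℓ : (ℓ : k) ≠ 0 := fun h0 => by
    have hd := (CharP.cast_eq_zero_iff k p ℓ).mp h0
    rcases (Nat.dvd_prime hℓp).mp hd with h1 | h1
    · exact CharP.char_ne_one k p h1
    · omega
  haveI : NeZero (ℓ : k) := ⟨hℓ⟩
  obtain ⟨ζ, hζ⟩ := HasEnoughRootsOfUnity.exists_primitiveRoot k ℓ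
  let Γ : Set (Multiplicative M →* k) := {χ | χ ^ ℓ = 1}
  have hΓ : Γ.Finite := by
    haveI : NeZero ℓ := ⟨hℓp.ne_zero⟩
    have hroots : {z : k | z ^ ℓ = 1}.Finite :=
      (Polynomial.nthRoots ℓ (1 : k)).toFinset.finite_toSet.subset fun z hz => by
        simpa [Polynomial.mem_nthRoots hℓp.pos] using hz
    let b := Module.Free.chooseBasis ℤ M
    refine Set.Finite.of_finite_image (f := fun χ i => χ (Multiplicative.ofAdd (b i)))
      ((Set.Finite.pi fun _ => hroots).subset ?_) fun χ hχ χ' hχ' e => ?_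
    · rintro _ ⟨χ, hχ, rfl⟩ i -
      exact DFunLike.congr_fun hχ (Multiplicative.ofAdd (b i))
    · refine MonoidHom.ext fun a => ?_
      suffices hspan : ∀ x : M, x ∈ Submodule.span ℤ (Set.range b) → χ (Multiplicative.ofAdd x) =
          χ' (Multiplicative.ofAdd x) from hspan a.toAdd (b.span_eq ▸ Submodule.mem_top)
      intro x hmem
      induction hmem using Submodule.span_induction with
      | mem x hx => obtain ⟨i, rfl⟩ := hx; exact congrFun e i
      | zero => simp
      | add x y _ _ hx hy => rw [ofAdd_add, map_mul, map_mul, hx, hy]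
      | smul z x _ hx =>
        have hu : ∀ ψ : Multiplicative M →* k, ψ (Multiplicative.ofAdd (z • x)) =
            (((Units.map ψ) (toUnits (Multiplicative.ofAdd x)) ^ z : kˣ) : k) := fun ψ => by
          rw [← map_zpow, ← map_zpow, Units.coe_map, ofAdd_zsmul]; rfl
        rw [hu, hu]
        congr 2
        exact Units.ext hx
  have hgtq : ∀ χ χ', g⁻¹ * F.T.tor (χ * χ') * g = (g⁻¹ * F.T.tor χ * g) * (g⁻¹ * F.T.tor χ' * g) :=
    fun χ χ' => by rw [map_mul]; group
  have hτpow : ∀ (χ : Multiplicative M →* k) (a : ℕ), ∃ r' ∈ R₁, (F.T.tor χ * r') ∈ R ∧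
      (g⁻¹ * F.T.tor χ * g) ^ a = F.T.tor (τ χ ^ a) * r' := by
    intro χ a
    induction a with
    | zero => exact ⟨1, ⟨one_mem R, by simp⟩, mul_mem (hTR χ) (one_mem R), by simp⟩
    | succ a ih =>
      obtain ⟨r', hr', -, e⟩ := ih
      have h1 := hmulR1 _ _ (hconjR1 _ r' (inv_mem (hTR (τ χ))) hr') (hr χ)
      refine ⟨_, h1, mul_mem (hTR χ) h1.1, ?_⟩
      rw [pow_succ, e, hτ χ, pow_succ (τ χ), map_mul]
      group
  have hτΓ : ∀ χ ∈ Γ, τ χ ∈ Γ := by
    intro χ hχ
    obtain ⟨r', hr', -, e⟩ := hτpow χ ℓ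
    refine htorR1 _ ?_
    rw [conj_pow', ← map_pow, show χ ^ ℓ = 1 from hχ, map_one, mul_one, inv_mul_cancel] at e
    rw [eq_inv_of_mul_eq_one_left e.symm]
    exact hinvR1 _ hr'
  have hτinj : ∀ χ ∈ Γ, ∀ χ' ∈ Γ, τ χ = τ χ' → χ = χ' := by
    intro χ hχ χ' hχ' e
    set s := g⁻¹ * F.T.tor (χ * charInv χ') * g
    have hs : s = F.T.tor (τ χ) * (r χ * (r χ')⁻¹) * (F.T.tor (τ χ))⁻¹ := by
      calc s = (g⁻¹ * F.T.tor χ * g) * (g⁻¹ * F.T.tor χ' * g)⁻¹ := by
            simp only [s, map_mul, tor_charInv]; group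
        _ = (F.T.tor (τ χ) * r χ) * (F.T.tor (τ χ') * r χ')⁻¹ := by rw [← hτ, ← hτ]
        _ = _ := by rw [← e]; group
    have hs1 : s ∈ R₁ := hs ▸ hconjR1 _ _ (hTR _) (hmulR1 _ _ (hr χ) (hinvR1 _ (hr χ')))
    have hsl : (ρ s) ^ ℓ = 1 := by
      have hχ'' : (χ * charInv χ') ^ ℓ = 1 := MonoidHom.ext fun a => by
        show (χ a * χ' a⁻¹) ^ ℓ = 1
        rw [mul_pow, show χ a ^ ℓ = 1 from DFunLike.congr_fun hχ a,
          show χ' a⁻¹ ^ ℓ = 1 from DFunLike.congr_fun hχ' a⁻¹, one_mul]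
      rw [← map_pow, conj_pow', ← map_pow, hχ'', map_one, mul_one, inv_mul_cancel, map_one]
    have hone : s = 1 := hinj (by
      rw [map_one]; exact eq_one_of_pow_eq_one (AlgGrpQ.isNilpotent_of_mem_fil hf0 hfn hs1.2) hℓ hsl)
    have h2 : F.T.tor (χ * charInv χ') = 1 := by
      have := congrArg (fun z => g * z * g⁻¹) hone
      simpa [s, mul_assoc] using this
    rw [← map_one F.T.tor] at h2
    have h3 := congrArg (· * χ') (tor_injective F h2)
    simpa [mul_assoc, charInv_mul_self] using h3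
  let χ₀ : Multiplicative M →* k := cchar lam (hζ.isUnit hℓp.ne_zero).unit
  have hu : ((hζ.isUnit hℓp.ne_zero).unit : kˣ) ^ ℓ = 1 := Units.ext (by
    rw [Units.val_pow_eq_pow_val, IsUnit.unit_spec, hζ.pow_eq_one, Units.val_one])
  have hχ₀mem : χ₀ ∈ Γ := MonoidHom.ext fun a => by
    show ((((hζ.isUnit hℓp.ne_zero).unit) ^ lam a.toAdd : kˣ) : k) ^ ℓ = 1
    rw [← Units.val_pow_eq_pow_val, ← zpow_natCast, ← zpow_mul, mul_comm, zpow_mul, zpow_natCast, hu, one_zpow,
      Units.val_one]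
  have hχ₀reg : ∀ i, χ₀ (Multiplicative.ofAdd (F.root i)) ≠ 1 := by
    intro i h1
    simp only [χ₀, cchar_apply, Units.val_zpow_eq_zpow_val, IsUnit.unit_spec] at h1
    have hd := (hζ.zpow_eq_one_iff_dvd _).mp h1
    have hle : (lam (F.root i)).natAbs < ℓ := by
      have := Finset.single_le_sum (f := fun i => (lam (F.root i)).natAbs) (fun _ _ => Nat.zero_le _) (Finset.mem_univ i)
      omega
    exact hlam i (Int.eq_zero_of_dvd_of_natAbs_lt_natAbs hd (by simpa using hle))
  obtain ⟨χ, hχΓ, hχeq⟩ : ∃ χ ∈ Γ, τ χ = χ₀ := by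
    have hsurj := (Set.MapsTo.restrict τ Γ Γ hτΓ)
    haveI := hΓ.to_subtype
    have : Function.Surjective (Set.MapsTo.restrict τ Γ Γ hτΓ) :=
      Finite.surjective_of_injective fun a b hab =>
        Subtype.ext (hτinj a a.2 b b.2 (congrArg Subtype.val hab))
    obtain ⟨⟨χ, hχ⟩, hχe⟩ := this ⟨χ₀, hχ₀mem⟩
    exact ⟨χ, hχ, congrArg Subtype.val hχe⟩
  set t := F.T.tor χ₀
  set t' := g⁻¹ * F.T.tor χ * g
  have ht'ℓ : t' ^ ℓ = 1 := by
    rw [conj_pow', ← map_pow, show χ ^ ℓ = 1 from hχΓ, map_one, mul_one, inv_mul_cancel]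
  have htℓ : t ^ ℓ = 1 := by rw [← map_pow, show χ₀ ^ ℓ = 1 from hχ₀mem, map_one]
  have hlevel : ∀ i, ∃ q ∈ R, ρ (t⁻¹ * (q⁻¹ * t' * q)) - 1 ∈ fil fl (i + 1) := by
    intro i
    induction i with
    | zero =>
      refine ⟨1, one_mem R, ?_⟩
      rw [inv_one, one_mul, mul_one, show t' = t * r χ by simp only [t', t]; rw [hτ χ, hχeq], inv_mul_cancel_left]
      exact (hr χ).2
    | succ i ih =>
      obtain ⟨q, hq, hqi⟩ := ih
      set s := t⁻¹ * (q⁻¹ * t' * q)
      have hsR : s ∈ R := mul_mem (inv_mem (hTR χ₀)) (mul_mem (mul_mem (inv_mem hq) (hψmem χ)) hq)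
      let T₁ : Module.End k V := ρ t
      let T₂ : Module.End k V := ρ t⁻¹
      have hT : T₁ * T₂ = 1 := by simp only [T₁, T₂, ← map_mul, mul_inv_cancel, map_one]
      have hT' : T₂ * T₁ = 1 := by simp only [T₁, T₂, ← map_mul, inv_mul_cancel, map_one]
      let cj : ℕ → Module.End k V := fun a => T₂ ^ a * (ρ s - 1) * T₁ ^ a
      have hcj : ∀ a, cj a ∈ fil fl (i + 1) := fun a => by
        have e : ∀ b, T₂ ^ b ∈ fil fl 0 ∧ T₁ ^ b ∈ fil fl 0 := fun b => by
          induction b with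
          | zero => simp [AlgGrpQ.one_mem_fil]
          | succ b ih => rw [pow_succ, pow_succ]; exact ⟨by simpa using mul_mem_fil ih.1 (htri _ (inv_mem (hTR χ₀))),
              by simpa using mul_mem_fil ih.2 (htri _ (hTR χ₀))⟩
        simpa [cj] using mul_mem_fil (mul_mem_fil (e a).1 hqi) (e a).2
      have hcls : ∀ a : ℕ, ∃ w ∈ R, ρ w - 1 - ∑ b ∈ Finset.range a, (b : k) • cj b ∈ fil fl (i + 2) ∧
          ρ w - 1 ∈ fil fl (i + 1) := by
        intro a
        induction a with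
        | zero => exact ⟨1, one_mem R, by simp, by simp⟩
        | succ a ih =>
          obtain ⟨w, hw, hw2, hw1⟩ := ih
          have key : ∀ (z : Pt k A k), ρ z - 1 ∈ fil fl (i + 1) → ∀ e : ℕ,
              ρ (z ^ e) - 1 - (e : k) • (ρ z - 1) ∈ fil fl (i + 2) ∧ ρ (z ^ e) - 1 ∈ fil fl (i + 1) := by
            intro z hz e
            induction e with
            | zero => simp
            | succ e ihe =>
              have e1 : ρ (z ^ (e + 1)) - 1 = (ρ (z ^ e) - 1) * (ρ z - 1) + (ρ (z ^ e) - 1) + (ρ z - 1) := by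
                rw [pow_succ, map_mul]; noncomm_ring
              have h2 : (ρ (z ^ e) - 1) * (ρ z - 1) ∈ fil fl (i + 2) :=
                fil_antitone hfl (by omega) (mul_mem_fil ihe.2 hz)
              refine ⟨?_, ?_⟩
              · rw [e1, Nat.cast_succ, add_smul, one_smul]
                convert Submodule.add_mem _ h2 ihe.1 using 1; abel
              · rw [e1]
                exact Submodule.add_mem _ (Submodule.add_mem _ (fil_antitone hfl (by omega) h2) ihe.2) hz
          set z := (t⁻¹) ^ a * s * t ^ a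
          have hz : ρ z - 1 = cj a := by
            simp only [z, cj, map_mul, map_pow, mul_sub, sub_mul, mul_one]
            rw [show (ρ t⁻¹) ^ a * (ρ t) ^ a = 1 by rw [← map_pow, ← map_pow, ← map_mul, inv_pow, inv_mul_cancel, map_one]]
          have hzR : z ∈ R := mul_mem (mul_mem (pow_mem (inv_mem (hTR χ₀)) a) hsR) (pow_mem (hTR χ₀) a)
          obtain ⟨k1, k2⟩ := key z (hz ▸ hcj a) a
          refine ⟨w * z ^ a, mul_mem hw (pow_mem hzR a), ?_, ?_⟩
          · rw [map_mul, Finset.sum_range_succ, show ρ w * ρ (z ^ a) - 1 = (ρ w - 1) * (ρ (z ^ a) - 1) + (ρ w - 1) +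
              (ρ (z ^ a) - 1) by noncomm_ring]
            rw [hz] at k1
            convert Submodule.add_mem _ (fil_antitone hfl (by omega) (mul_mem_fil hw1 k2) :
              (ρ w - 1) * (ρ (z ^ a) - 1) ∈ fil fl (i + 2)) (Submodule.add_mem _ hw2 k1) using 1
            abel
          · rw [map_mul, show ρ w * ρ (z ^ a) - 1 = (ρ w - 1) * (ρ (z ^ a) - 1) + (ρ w - 1) +
              (ρ (z ^ a) - 1) by noncomm_ring]
            exact Submodule.add_mem _ (Submodule.add_mem _ (fil_antitone hfl (by omega) (mul_mem_fil hw1 k2)) hw1) k2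
      obtain ⟨w, hwR, hw2, hw1⟩ := hcls ℓ
      obtain ⟨u, huR, hu2⟩ := exists_root_elt π hgen hfl hρ hπ hwR hfn hf0 (show 1 ≤ i + 1 by omega) hw1 hℓ
      set W₁ : Module.End k V := (ℓ : k)⁻¹ • ∑ b ∈ Finset.range ℓ, (b : k) • cj b
      have hu : ρ u - 1 - W₁ ∈ fil fl (i + 2) := by
        have h5 := Submodule.smul_mem (fil fl (i + 2)) (ℓ : k)⁻¹ hw2
        rw [smul_sub] at h5
        simpa [W₁] using Submodule.add_mem _ hu2 h5
      have hu1 : ρ u - 1 ∈ fil fl (i + 1) := by
        have hW : W₁ ∈ fil fl (i + 1) := Submodule.smul_mem _ _ (Submodule.sum_mem _ fun b _ => Submodule.smul_mem _ _ (hcj b))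
        simpa using Submodule.add_mem _ (fil_antitone hfl (show i + 1 ≤ i + 2 by omega) hu) hW
      -- the sum of all translates of the class vanishes
      have hsum : (∑ b ∈ Finset.range ℓ, cj b) ∈ fil fl (i + 2) := by
        have hpw : ∀ a : ℕ, ρ ((t * s) ^ a) * T₂ ^ a - 1 - ∑ b ∈ Finset.range a, T₁ ^ (b + 1) * (ρ s - 1) * T₂ ^ (b + 1) ∈
            fil fl (i + 2) ∧ ρ ((t * s) ^ a) * T₂ ^ a - 1 ∈ fil fl (i + 1) := by
          intro a
          induction a with
          | zero => simp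
          | succ a iha =>
            set X := ρ ((t * s) ^ a) * T₂ ^ a - 1
            set Y := T₁ ^ (a + 1) * (ρ s - 1) * T₂ ^ (a + 1)
            have hY : Y ∈ fil fl (i + 1) := by
              have e : ∀ b, T₂ ^ b ∈ fil fl 0 ∧ T₁ ^ b ∈ fil fl 0 := fun b => by
                induction b with
                | zero => simp [AlgGrpQ.one_mem_fil]
                | succ b ih => rw [pow_succ, pow_succ]; exact ⟨by simpa using mul_mem_fil ih.1 (htri _ (inv_mem (hTR χ₀))),
                    by simpa using mul_mem_fil ih.2 (htri _ (hTR χ₀))⟩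
              simpa [Y] using mul_mem_fil (mul_mem_fil (e _).2 hqi) (e _).1
            have hTT : T₁ ^ (a + 1) * T₂ ^ (a + 1) = 1 := by
              rw [← (show Commute T₁ T₂ from hT.trans hT'.symm).mul_pow, hT, one_pow]
            have hTT' : T₂ ^ a * T₁ ^ a = 1 := by
              rw [← (show Commute T₂ T₁ from hT'.trans hT.symm).mul_pow, hT', one_pow]
            have e1 : ρ ((t * s) ^ (a + 1)) * T₂ ^ (a + 1) - 1 = X * Y + X + Y := by
              have hY1 : Y + 1 = T₁ ^ (a + 1) * ρ s * T₂ ^ (a + 1) := by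
                simp only [Y, mul_sub, sub_mul, mul_one, hTT]; abel
              have h6 : ρ ((t * s) ^ (a + 1)) * T₂ ^ (a + 1) = (X + 1) * (Y + 1) := by
                rw [hY1]
                simp only [X, sub_add_cancel]
                rw [pow_succ (t * s), map_mul, map_mul ρ t s, pow_succ T₁]
                calc ρ ((t * s) ^ a) * (T₁ * ρ s) * T₂ ^ (a + 1)
                    = ρ ((t * s) ^ a) * (T₂ ^ a * T₁ ^ a) * (T₁ * ρ s) * T₂ ^ (a + 1) := by rw [hTT', mul_one]
                  _ = _ := by simp only [mul_assoc]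
              rw [h6]; noncomm_ring
            have h2 : X * Y ∈ fil fl (i + 2) := fil_antitone hfl (by omega) (mul_mem_fil iha.2 hY)
            refine ⟨?_, ?_⟩
            · rw [e1, Finset.sum_range_succ]
              convert Submodule.add_mem _ h2 iha.1 using 1
              simp only [Y]; abel
            · rw [e1]
              exact Submodule.add_mem _ (Submodule.add_mem _ (fil_antitone hfl (by omega) h2) iha.2) hY
        have h7 := (hpw ℓ).1
        have hts : (t * s) ^ ℓ = 1 := by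
          simp only [s, mul_inv_cancel_left]
          rw [show q⁻¹ * t' * q = q⁻¹ * t' * q from rfl, conj_pow', ht'ℓ, mul_one, inv_mul_cancel]
        have hT2ℓ : T₂ ^ ℓ = 1 := by simp only [T₂, ← map_pow, inv_pow, htℓ, inv_one, map_one]
        have hT1ℓ : T₁ ^ ℓ = 1 := by simp only [T₁, ← map_pow, htℓ, map_one]
        rw [hts, map_one, one_mul, hT2ℓ, sub_self, zero_sub, Submodule.neg_mem_iff] at h7
        rw [← Finset.sum_range_reflect] at h7
        refine (congrArg (· ∈ fil fl (i + 2)) (Finset.sum_congr rfl fun b hb => ?_)).mp h7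
        have hb' := Finset.mem_range.mp hb
        have e2 : T₁ ^ (ℓ - 1 - b + 1) = T₂ ^ b := by
          calc T₁ ^ (ℓ - 1 - b + 1) = T₁ ^ (ℓ - 1 - b + 1) * (T₁ * T₂) ^ b := by rw [hT, one_pow, mul_one]
            _ = T₁ ^ (ℓ - 1 - b + 1 + b) * T₂ ^ b := by
              rw [(show Commute T₁ T₂ from hT.trans hT'.symm).mul_pow, ← mul_assoc, ← pow_add]
            _ = T₂ ^ b := by rw [show ℓ - 1 - b + 1 + b = ℓ by omega, hT1ℓ, one_mul]
        have e3 : T₂ ^ (ℓ - 1 - b + 1) = T₁ ^ b := by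
          calc T₂ ^ (ℓ - 1 - b + 1) = T₂ ^ (ℓ - 1 - b + 1) * (T₂ * T₁) ^ b := by rw [hT', one_pow, mul_one]
            _ = T₂ ^ (ℓ - 1 - b + 1 + b) * T₁ ^ b := by
              rw [(show Commute T₂ T₁ from hT'.trans hT.symm).mul_pow, ← mul_assoc, ← pow_add]
            _ = T₁ ^ b := by rw [show ℓ - 1 - b + 1 + b = ℓ by omega, hT2ℓ, one_mul]
        simp only [cj, e2, e3]
      refine ⟨q * u, mul_mem hq huR, ?_⟩
      have hTcj : ∀ b, T₂ * cj b * T₁ = cj (b + 1) := fun b => by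
        simp only [cj]; rw [pow_succ' T₂, pow_succ T₁]; noncomm_ring
      have hid : T₂ * W₁ * T₁ - W₁ - cj 0 + (ℓ : k)⁻¹ • ∑ b ∈ Finset.range ℓ, cj b = 0 := by
        have e4 : T₂ * W₁ * T₁ = (ℓ : k)⁻¹ • ∑ b ∈ Finset.range ℓ, (b : k) • cj (b + 1) := by
          simp only [W₁, mul_smul_comm, smul_mul_assoc, Finset.mul_sum, Finset.sum_mul, hTcj]
        have e5 : ∑ b ∈ Finset.range ℓ, (b : k) • cj (b + 1) + ∑ b ∈ Finset.range ℓ, cj b -
            ∑ b ∈ Finset.range ℓ, (b : k) • cj b = (ℓ : k) • cj 0 := by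
          have hper : cj ℓ = cj 0 := by
            have h1 : T₂ ^ ℓ = 1 := by simp only [T₂, ← map_pow, inv_pow, htℓ, inv_one, map_one]
            have h2 : T₁ ^ ℓ = 1 := by simp only [T₁, ← map_pow, htℓ, map_one]
            simp [cj, h1, h2]
          have h8 : ∀ a : ℕ, ∑ b ∈ Finset.range a, (b : k) • cj (b + 1) + ∑ b ∈ Finset.range a, cj b -
              ∑ b ∈ Finset.range a, (b : k) • cj b = cj 0 - cj a + (a : k) • cj a := fun a => by
            induction a with
            | zero => simp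
            | succ a iha =>
              simp only [Finset.sum_range_succ, Nat.cast_succ, add_smul, one_smul]
              rw [show ∀ x1 x2 x3 y1 y2 y3 : Module.End k V, x1 + y1 + (x2 + y2) - (x3 + y3) =
                (x1 + x2 - x3) + (y1 + y2 - y3) from fun _ _ _ _ _ _ => by abel, iha]
              abel
          rw [h8, hper, sub_self, zero_add]
        rw [e4]
        simp only [W₁]
        rw [show ∀ a b c d : Module.End k V, a - b - c + d = (a + d - b) - c from
          fun _ _ _ _ => by abel, ← smul_add, ← smul_sub, e5, inv_smul_smul₀ hℓ, sub_self]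
      have hinv : ρ u⁻¹ - 1 + W₁ ∈ fil fl (i + 2) := by
        have e6 : ρ u⁻¹ - 1 + W₁ = -((ρ u⁻¹ - 1) * (ρ u - 1)) - (ρ u - 1 - W₁) := by
          have : ρ u⁻¹ * ρ u = 1 := by rw [← map_mul, inv_mul_cancel, map_one]
          rw [sub_mul, mul_sub, one_mul, mul_one, this]; abel
        have hu' : ρ u⁻¹ - 1 ∈ fil fl (i + 1) := by
          rw [show ρ u⁻¹ - 1 = -(ρ u⁻¹ * (ρ u - 1)) by
            rw [mul_sub, ← map_mul, inv_mul_cancel, map_one, mul_one, neg_sub]]
          exact Submodule.neg_mem _ (by simpa using mul_mem_fil (htri _ (inv_mem huR)) hu1)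
        rw [e6]
        exact Submodule.sub_mem _ (Submodule.neg_mem _ (fil_antitone hfl (by omega) (mul_mem_fil hu' hu1))) hu
      have hgoal : t⁻¹ * ((q * u)⁻¹ * t' * (q * u)) = t⁻¹ * u⁻¹ * t * s * u := by simp only [s]; group
      rw [hgoal, map_mul, map_mul, map_mul, map_mul]
      set a₁ := T₂ * (ρ u⁻¹ - 1) * T₁
      set b₁ := ρ s - 1
      set c₁ := ρ u - 1
      have ha₁ : a₁ ∈ fil fl (i + 1) := by
        have hu' : ρ u⁻¹ - 1 ∈ fil fl (i + 1) := by
          rw [show ρ u⁻¹ - 1 = -(ρ u⁻¹ * (ρ u - 1)) by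
            rw [mul_sub, ← map_mul, inv_mul_cancel, map_one, mul_one, neg_sub]]
          exact Submodule.neg_mem _ (by simpa using mul_mem_fil (htri _ (inv_mem huR)) hu1)
        simpa [a₁] using mul_mem_fil (mul_mem_fil (htri _ (inv_mem (hTR χ₀))) hu') (htri _ (hTR χ₀))
      have e7 : T₂ * ρ u⁻¹ * T₁ * ρ s * ρ u - 1 =
          (a₁ * b₁ + a₁ * c₁ + b₁ * c₁ + a₁ * b₁ * c₁) + (a₁ + b₁ + c₁) := by
        have : T₂ * ρ u⁻¹ * T₁ = a₁ + 1 := by simp only [a₁, mul_sub, sub_mul, mul_one, hT']; abel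
        rw [this, show ρ s = b₁ + 1 from (sub_add_cancel _ _).symm, show ρ u = c₁ + 1 from (sub_add_cancel _ _).symm]
        noncomm_ring
      refine (congrArg (· ∈ fil fl (i + 1 + 1)) e7).mpr (Submodule.add_mem _ ?_ ?_)
      · refine Submodule.add_mem _ (Submodule.add_mem _ (Submodule.add_mem _ ?_ ?_) ?_) ?_
        · exact fil_antitone hfl (by omega) (mul_mem_fil ha₁ hqi)
        · exact fil_antitone hfl (by omega) (mul_mem_fil ha₁ hu1)
        · exact fil_antitone hfl (by omega) (mul_mem_fil hqi hu1)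
        · exact fil_antitone hfl (by omega) (mul_mem_fil (mul_mem_fil ha₁ hqi) hu1)
      · have e8 : a₁ + b₁ + c₁ = (T₂ * (ρ u⁻¹ - 1 + W₁) * T₁) + (c₁ - W₁) -
            (T₂ * W₁ * T₁ - W₁ - cj 0 + (ℓ : k)⁻¹ • ∑ b ∈ Finset.range ℓ, cj b) +
            (ℓ : k)⁻¹ • ∑ b ∈ Finset.range ℓ, cj b := by
          simp only [a₁, b₁, cj, pow_zero, one_mul, mul_one, mul_add, add_mul]
          abel
        rw [e8, hid, sub_zero]
        exact Submodule.add_mem _ (Submodule.add_mem _
          (by simpa using mul_mem_fil (mul_mem_fil (htri _ (inv_mem (hTR χ₀))) hinv) (htri _ (hTR χ₀))) hu)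
          (Submodule.smul_mem _ _ hsum)
  obtain ⟨q, hq, hqn⟩ := hlevel n
  have hqt : q⁻¹ * t' * q = t := by
    have h9 : t⁻¹ * (q⁻¹ * t' * q) = 1 := hinj (by
      rw [map_one, ← sub_eq_zero]
      exact AlgGrpQ.eq_zero_of_mem_fil hf0 hfn (fil_antitone hfl (Nat.le_succ n) hqn))
    calc q⁻¹ * t' * q = t * (t⁻¹ * (q⁻¹ * t' * q)) := by group
      _ = t := by rw [h9, mul_one]
  choose cq hcq0 hcq using hq
  set h := g * q
  have hh : h⁻¹ * F.T.tor χ * h = t := by
    rw [← hqt]; simp only [h, t']; group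
  obtain ⟨φ, hφ⟩ := exists_char_map F hlam hχ₀reg h⁻¹ fun χ₁ => by
    rw [inv_inv]
    show t * _ = _ * t
    rw [← hh]
    calc h⁻¹ * F.T.tor χ * h * (h⁻¹ * F.T.tor χ₁ * h) = h⁻¹ * (F.T.tor χ * F.T.tor χ₁) * h := by group
      _ = h⁻¹ * (F.T.tor χ₁ * F.T.tor χ) * h := by rw [← map_mul, ← map_mul, mul_comm]
      _ = _ := by group
  obtain ⟨χ₂, hχ₂, -⟩ := hφ χ₀
  obtain ⟨φ', hφ'⟩ := exists_char_map F hlam hχ₀reg h fun χ₁ => by
    have e : F.T.tor χ₀ = h * F.T.tor χ₂ * h⁻¹ := by rw [← hχ₂]; group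
    rw [e]
    calc h * F.T.tor χ₂ * h⁻¹ * (h * F.T.tor χ₁ * h⁻¹) = h * (F.T.tor χ₂ * F.T.tor χ₁) * h⁻¹ := by group
      _ = h * (F.T.tor χ₁ * F.T.tor χ₂) * h⁻¹ := by rw [← map_mul, ← map_mul, mul_comm]
      _ = _ := by group
  refine ⟨h, fun j => c j * (cq j)⁻¹, φ, φ', fun j => ?_, hφ', fun χ₁ => ?_⟩
  · rw [hyx j]
    simp only [h, map_mul, Module.End.mul_apply, hcq j, map_smul, smul_smul]
    rw [inv_mul_cancel_right₀ (hcq0 j)]
  · obtain ⟨χ', e1, e2⟩ := hφ χ₁
    rw [inv_inv] at e1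
    exact ⟨χ', e1, e2⟩

include hρ hgen in
/-- Every torus fixed tuple of a closed orbit with triangular stabilisers is extremal. -/
theorem exists_ext_of_eig (hπ : ∀ j, IsRegRep (π j)) (hne : ∀ i, F.root i ≠ 0) {p₀ : ∀ j, W j}
    (hcl : IsClosedOrbit π p₀) (htri : ∀ q ∈ Cl π p₀, Nondeg q → HasTri π ρ q) {y : ∀ j, W j} {my : J → M}
    (hy : y ∈ Cl π p₀) (hey : Eig F π y my) : ∃ lam, Good F π lam ∧ Ext F π p₀ lam y my := by
  classical
  obtain ⟨lam₀, hlam₀, -, -⟩ := exists_good F hπ hne (0 : M →+ ℤ) (D := ∅) Set.finite_empty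
  obtain ⟨x, mx, hx, hmax⟩ := exists_ext_max F hπ p₀ hcl.1 hlam₀
  obtain ⟨g, c, hgc⟩ : y ∈ Orb π x :=
    orb_trans π (orb_symm π (hcl.2 x hx.1 hx.2.1.1) hx.2.1.1) (hcl.2 y hy hey.1)
  obtain ⟨h, c', φ, φ', hyh, hφ', hφ⟩ := exists_normalizing F π hρ hgen hπ hne hlam₀.1 hx.2.1 hx.2.2
    (htri x hx.1 hx.2.1.1) hey hgc
  have hφi : ∀ a, φ (φ' a) = a := fun a => eval_injective (k := k) (MonoidHom.ext fun χ => by
    obtain ⟨χ', e1, h1⟩ := hφ χ
    obtain ⟨χ'', e2, h2⟩ := hφ' χ'
    show χ (Multiplicative.ofAdd (φ (φ' a))) = χ (Multiplicative.ofAdd a)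
    rw [← h1, ← h2]
    have : F.T.tor χ'' = F.T.tor χ := by rw [← e2, ← e1]; group
    rw [tor_injective F this])
  have htrans : ∀ (z : ∀ j, W j) (mz : J → M), z ∈ Cl π p₀ → Eig F π z mz →
      (fun j => π j h⁻¹ (z j)) ∈ Cl π p₀ ∧ Eig F π (fun j => π j h⁻¹ (z j)) (fun j => φ' (mz j)) := by
    intro z mz hz hez
    refine ⟨cl_orb π hz ⟨h⁻¹, 1, fun j => by simp⟩, fun j h0 => hez.1 j (by
      have h3 := congrArg (π j h) (show π j h⁻¹ (z j) = 0 from h0)
      rwa [map_zero, ← Module.End.mul_apply, ← map_mul, mul_inv_cancel, map_one, Module.End.one_apply] at h3),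
      fun j χ => ?_⟩
    obtain ⟨χ', e1, h1⟩ := hφ' χ
    rw [← Module.End.mul_apply, ← map_mul, show F.T.tor χ * h⁻¹ = h⁻¹ * (h * F.T.tor χ * h⁻¹) by group, e1,
      map_mul, Module.End.mul_apply, hez.2 j χ', map_smul, h1]
  have hyw : (fun j => φ' (my j)) = mx ∧ ∀ j, π j h⁻¹ (y j) = c' j • x j := by
    have e : ∀ j, π j h⁻¹ (y j) = c' j • x j := fun j => by
      rw [hyh j, map_smul, ← Module.End.mul_apply, ← map_mul, inv_mul_cancel, map_one, Module.End.one_apply]
    refine ⟨funext fun j => ?_, e⟩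
    obtain ⟨-, hez⟩ := htrans y my hy hey
    exact eq_of_mem_Wt F (hπ j) (hez.2 j) (show π j h⁻¹ (y j) ∈ Wt F (π j) (mx j) by rw [e j]; exact Submodule.smul_mem _ _ (hx.2.1.2 j)) (hez.1 j)
  let ν₀ : M →+ ℤ := lam₀.comp φ'
  have hws : ∀ mz : J → M, ν₀ (wsum mz) = lam₀ (wsum fun j => φ' (mz j)) := fun mz => by
    simp [ν₀, wsum, map_sum]
  have hstrict : ∀ (z : ∀ j, W j) (mz : J → M), z ∈ Cl π p₀ → Eig F π z mz →
      ¬ Prop' (k := k) y z → ν₀ (wsum mz) < ν₀ (wsum my) := by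
    intro z mz hz hez hnp
    obtain ⟨hz', hez'⟩ := htrans z mz hz hez
    obtain ⟨h1, h2⟩ := Ext.max F hπ hcl hlam₀ hx hz' hez'
    rw [hws, hws, hyw.1]
    refine lt_of_le_not_ge h1 fun hge => hnp ?_
    obtain ⟨⟨d, hd⟩, -⟩ := h2 hge
    have hc' : ∀ j, c' j ≠ 0 := fun j h0 => hey.1 j (by rw [hyh j, h0, zero_smul])
    refine ⟨fun j => d j * (c' j)⁻¹, fun j => ⟨mul_ne_zero (hd j).1 (inv_ne_zero (hc' j)), ?_⟩⟩
    have e := congrArg (π j h) (hd j).2
    rw [← Module.End.mul_apply, ← map_mul, mul_inv_cancel, map_one, Module.End.one_apply, map_smul] at e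
    rw [e, hyh j, smul_smul, inv_mul_cancel_right₀ (hc' j)]
  obtain ⟨ν, hν, -, hνD⟩ := exists_good F hπ hne ν₀
    (D := {d | ∃ mz : J → M, (∀ j, mz j ∈ wts F π) ∧ d = wsum my - wsum mz})
    (((Set.Finite.pi fun _ => finite_wts F hπ).image fun mz : J → M => wsum my - wsum mz).subset
      fun d ⟨mz, hmz, e⟩ => ⟨mz, fun j _ => hmz j, e.symm⟩)
  obtain ⟨z, mz, hz, hzmax⟩ := exists_ext_max F hπ p₀ hcl.1 hν
  have hyz : Prop' (k := k) y z := by
    by_contra hnp
    have h1 := hstrict z mz hz.1 hz.2.1 hnp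
    have h2 := hνD (wsum my - wsum mz) ⟨mz, fun j => hz.2.1.mem_wts F hπ j, rfl⟩ (by
      rw [map_sub]; omega)
    rw [map_sub] at h2
    have := hzmax y my hy hey
    omega
  obtain ⟨d, hd⟩ := hyz
  refine ⟨ν, hν, hy, hey, fun u hu j => ?_⟩
  have h3 := hz.2.2 u hu j
  rw [(hd j).2, map_smul] at h3
  exact smul_right_injective _ (hd j).1 h3

end Classify

end Groth.Agent.RedRk29
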