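import Groth.Agent.RedRk29.ConjRoot
import Groth.Agent.BigCell29.SplitCell
import Mathlib.Algebra.DualNumber
import Mathlib.RingTheory.AdjoinRoot
import Mathlib.RingTheory.Localization.Away.Basic
import Mathlib.RingTheory.Polynomial.Basic

/-!
# The relation between opposite root groups over a ring
-/

set_option autoImplicit false

universe u

open TensorProduct WithConv Finsupp
open scoped AddMonoidAlgebra

namespace Groth.Agent.RedRk29

open BigCell29

variable {R : Type u} [CommRing R] {A : Type u} [CommRing A] [HopfAlgebra R A]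
  {B C : Type u} [CommRing B] [Algebra R B] [CommRing C] [Algebra R C] {M ι : Type} [AddCommGroup M]

/-- The character with values `v ^ l`. -/
noncomputable def zchar (l : M →+ ℤ) (v : Bˣ) : Multiplicative M →* B where
  toFun m := ((v ^ l m.toAdd : Bˣ) : B)
  map_one' := by simp
  map_mul' a b := by simp [zpow_add]

@[simp] theorem zchar_apply (l : M →+ ℤ) (v : Bˣ) (m : M) :
    zchar l v (Multiplicative.ofAdd m) = ((v ^ l m : Bˣ) : B) := rfl

theorem zchar_mul (l : M →+ ℤ) (v w : Bˣ) : zchar l (v * w) = zchar l v * zchar l w :=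
  MonoidHom.ext fun m => by simp [zchar, mul_zpow]

theorem zchar_one (l : M →+ ℤ) : zchar l (1 : Bˣ) = 1 := MonoidHom.ext fun m => by simp [zchar]

theorem comp_zchar (f : B →ₐ[R] C) (l : M →+ ℤ) (v : Bˣ) :
    f.toRingHom.toMonoidHom.comp (zchar l v) = zchar l (Units.map (f : B →* C) v) :=
  MonoidHom.ext fun m => by
    show f ((v ^ l m.toAdd : Bˣ) : B) = ((Units.map (f : B →* C) v ^ l m.toAdd : Cˣ) : C)
    rw [← map_zpow]
    rfl

variable (F : Frame R A M ι)

theorem rt_injR (i : ι) : Function.Injective (F.rt i : B → Pt R A B) := by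
  intro x y h
  obtain ⟨a, ha⟩ := F.φ_surj i Polynomial.X
  have := DFunLike.congr_fun (congrArg WithConv.ofConv h) a
  simp only [PreFrame.rt, linePt_apply, ha, Polynomial.aeval_X] at this
  exact this

theorem rt_addR (i : ι) (x y : B) : F.rt i (x + y) = F.rt i x * F.rt i y := F.rt_add B i x y

theorem rt_invR (i : ι) (x : B) : (F.rt i x)⁻¹ = F.rt i (-x) :=
  inv_eq_of_mul_eq_one_right (by rw [← rt_addR, add_neg_cancel, F.rt_zero])

theorem conj_prodPtR {n : ℕ} (e : Fin n → ι) (χ : Multiplicative M →* B) (x : Fin n → B) :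
    F.T.tor χ * F.prodPt e x * (F.T.tor χ)⁻¹ =
      F.prodPt e fun j => χ (Multiplicative.ofAdd (F.root (e j))) * x j := by
  show MulAut.conj (F.T.tor χ) (F.prodPt e x) = _
  rw [Frame.prodPt, map_list_prod, List.map_ofFn]
  congr 2
  funext j
  exact F.conj_rt (e j) χ (x j)

variable [Fintype ι] {F} (d : Refl F)

theorem Refl.exists_enum : ∃ (n m : ℕ) (eneg : Fin n → ι) (epos : Fin m → ι) (j : Fin n) (l : Fin m),
    F.IsSignEnum d.lam eneg epos ∧ eneg j = d.a' ∧ epos l = d.a := by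
  classical
  let sn := Finset.univ.filter fun i => d.lam (F.root i) < 0
  let sp := Finset.univ.filter fun i => 0 < d.lam (F.root i)
  have ha : d.a ∈ sp := Finset.mem_filter.mpr ⟨Finset.mem_univ _, d.lam_pos⟩
  have ha' : d.a' ∈ sn := Finset.mem_filter.mpr ⟨Finset.mem_univ _, by rw [d.lam_a']; have := d.lam_pos; omega⟩
  exact ⟨sn.card, sp.card, fun j => (sn.equivFin.symm j : ι), fun j => (sp.equivFin.symm j : ι),
    sn.equivFin ⟨_, ha'⟩, sp.equivFin ⟨_, ha⟩,
    ⟨fun j => (Finset.mem_filter.mp (sn.equivFin.symm j).2).2, fun j => (Finset.mem_filter.mp (sp.equivFin.symm j).2).2,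
      Subtype.val_injective.comp sn.equivFin.symm.injective, Subtype.val_injective.comp sp.equivFin.symm.injective,
      fun i hi => ⟨sn.equivFin ⟨i, Finset.mem_filter.mpr ⟨Finset.mem_univ i, hi⟩⟩, by simp⟩,
      fun i hi => ⟨sp.equivFin ⟨i, Finset.mem_filter.mpr ⟨Finset.mem_univ i, hi⟩⟩, by simp⟩, d.lam_ne⟩,
    by simp, by simp⟩

/-- Coordinates in the rank one cell are unique. -/
theorem Refl.cell_unique {y y' : B} {χ χ' : Multiplicative M →* B} {x x' : B}
    (e : F.rt d.a' y * F.T.tor χ * F.rt d.a x = F.rt d.a' y' * F.T.tor χ' * F.rt d.a x') :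
    y = y' ∧ χ = χ' ∧ x = x' := by
  classical
  obtain ⟨n, m, eneg, epos, j, l, h, hj, hl⟩ := d.exists_enum
  have hY : ∀ z : B, F.prodPt eneg (Pi.single j z) = F.rt d.a' z := fun z => by
    rw [prodPt_single eneg _ j fun i hi => Pi.single_eq_of_ne hi _, hj, Pi.single_eq_same]
  have hX : ∀ z : B, F.prodPt epos (Pi.single l z) = F.rt d.a z := fun z => by
    rw [prodPt_single epos _ l fun i hi => Pi.single_eq_of_ne hi _, hl, Pi.single_eq_same]
  rw [← hY, ← hX, ← hY, ← hX] at e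
  have e' : mapPt (splLift (R := R) (Pi.single j y) χ (Pi.single l x)) (toConv (F.splitHom eneg epos)) =
      mapPt (splLift (R := R) (Pi.single j y') χ' (Pi.single l x')) (toConv (F.splitHom eneg epos)) := by
    rw [F.mapPt_splitHom, F.mapPt_splitHom, splLift_Y, splLift_T, splLift_X, splLift_Y, splLift_T, splLift_X, e]
  have hh := F.splitHom_epi h (congrArg WithConv.ofConv e')
  have hj' : Pi.single (M := fun _ : Fin n => B) j y = Pi.single j y' := by
    rw [← splLift_Y (R := R) (Pi.single j y) χ (Pi.single l x), hh, splLift_Y]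
  have hl' : Pi.single (M := fun _ : Fin m => B) l x = Pi.single l x' := by
    rw [← splLift_X (R := R) (Pi.single j y) χ (Pi.single l x), hh, splLift_X]
  refine ⟨by simpa using congrFun hj' j, ?_, by simpa using congrFun hl' l⟩
  rw [← splLift_T (R := R) (Pi.single j y) χ (Pi.single l x), hh, splLift_T]

/-- A point of the big cell fixed by a cocharacter which kills only the root lies in the rank one cell. -/
theorem Refl.exists_cell_of_split {n m : ℕ} {eneg : Fin n → ι} {epos : Fin m → ι}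
    (h : F.IsSignEnum d.lam eneg epos) {μ : M →+ ℤ}
    (hμ : ∀ i, μ (F.root i) = 0 → i = d.a ∨ i = d.a') {y : Fin n → R} {χ : Multiplicative M →* R} {x : Fin m → R}
    (hg : ∀ (B : Type u) [CommRing B] [Algebra R B] (v : Bˣ),
      F.T.tor (zchar μ v) * mapPt (Algebra.ofId R B) (F.prodPt eneg y * F.T.tor χ * F.prodPt epos x) =
        mapPt (Algebra.ofId R B) (F.prodPt eneg y * F.T.tor χ * F.prodPt epos x) * F.T.tor (zchar μ v)) :
    ∃ z b, F.prodPt eneg y * F.T.tor χ * F.prodPt epos x = F.rt d.a' z * F.T.tor χ * F.rt d.a b := by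
  classical
  let u : (R[ℤ])ˣ := ⟨AddMonoidAlgebra.single 1 1, AddMonoidAlgebra.single (-1) 1,
    by rw [AddMonoidAlgebra.single_mul_single, AddMonoidAlgebra.one_def]; norm_num,
    by rw [AddMonoidAlgebra.single_mul_single, AddMonoidAlgebra.one_def]; norm_num⟩
  have hu : ∀ z : ℤ, ((u ^ z : (R[ℤ])ˣ) : R[ℤ]) = AddMonoidAlgebra.single z 1 := by
    intro z
    cases z with
    | ofNat k =>
      rw [Int.ofNat_eq_natCast, zpow_natCast, Units.val_pow_eq_pow_val]
      show (AddMonoidAlgebra.single (1 : ℤ) (1 : R)) ^ k = _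
      rw [AddMonoidAlgebra.single_pow, one_pow, nsmul_one]
    | negSucc k =>
      rw [zpow_negSucc, ← inv_pow, Units.val_pow_eq_pow_val]
      show (AddMonoidAlgebra.single (-1 : ℤ) (1 : R)) ^ (k + 1) = _
      rw [AddMonoidAlgebra.single_pow, one_pow, Int.negSucc_eq]
      congr 1
      simp
  set φ := Algebra.ofId R R[ℤ]
  set χ₁ := φ.toRingHom.toMonoidHom.comp χ
  have e := mul_inv_eq_iff_eq_mul.mpr (hg R[ℤ] u)
  rw [map_mul, map_mul, F.mapPt_prodPt, F.mapPt_prodPt, F.T.mapPt_tor] at e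
  set t := F.T.tor (zchar μ u)
  have e2 : F.prodPt eneg (fun j => zchar μ u (Multiplicative.ofAdd (F.root (eneg j))) * φ (y j)) * F.T.tor χ₁ *
      F.prodPt epos (fun j => zchar μ u (Multiplicative.ofAdd (F.root (epos j))) * φ (x j)) =
        F.prodPt eneg (φ ∘ y) * F.T.tor χ₁ * F.prodPt epos (φ ∘ x) := by
    rw [← conj_prodPtR, ← conj_prodPtR]
    conv_rhs => rw [← e]
    show t * _ * t⁻¹ * _ * (t * _ * t⁻¹) = _
    calc _ = t * (F.prodPt eneg (φ ∘ y) * (t⁻¹ * (F.T.tor χ₁ * t)) * F.prodPt epos (φ ∘ x)) * t⁻¹ := by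
          simp only [mul_assoc, Function.comp_def]
      _ = _ := by
        rw [show F.T.tor χ₁ * t = t * F.T.tor χ₁ by simp only [t, ← map_mul, mul_comm], inv_mul_cancel_left]
  have e' : mapPt (splLift (R := R) (fun j => zchar μ u (Multiplicative.ofAdd (F.root (eneg j))) * φ (y j)) χ₁
        (fun j => zchar μ u (Multiplicative.ofAdd (F.root (epos j))) * φ (x j))) (toConv (F.splitHom eneg epos)) =
      mapPt (splLift (R := R) (φ ∘ y) χ₁ (φ ∘ x)) (toConv (F.splitHom eneg epos)) := by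
    rw [F.mapPt_splitHom, F.mapPt_splitHom, splLift_Y, splLift_T, splLift_X, splLift_Y, splLift_T, splLift_X, e2]
  have hh := F.splitHom_epi h (congrArg WithConv.ofConv e')
  have hy0 := congrArg coordY hh
  have hx0 := congrArg coordX hh
  rw [splLift_Y, splLift_Y] at hy0
  rw [splLift_X, splLift_X] at hx0
  have hz : ∀ {z : ℤ} {r : R}, z ≠ 0 → ((u ^ z : (R[ℤ])ˣ) : R[ℤ]) * φ r = φ r → r = 0 := by
    intro z r hz he
    rw [hu] at he
    have := congrArg (fun P : R[ℤ] => P.coeff 0) he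
    rw [show φ r = AddMonoidAlgebra.single 0 r from rfl, AddMonoidAlgebra.single_mul_single, add_zero, one_mul,
      AddMonoidAlgebra.coeff_single, AddMonoidAlgebra.coeff_single, Finsupp.single_eq_same,
      Finsupp.single_eq_of_ne hz.symm] at this
    exact this.symm
  obtain ⟨j, hj⟩ := h.neg_range d.a' (by rw [d.lam_a']; have := d.lam_pos; omega)
  obtain ⟨l, hl⟩ := h.pos_range d.a d.lam_pos
  refine ⟨y j, x l, ?_⟩
  rw [prodPt_single eneg y j fun i hi => ?_, hj, prodPt_single epos x l fun i hi => ?_, hl]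
  · refine hz (fun h0 => ?_) (congrFun hx0 i)
    rcases hμ _ h0 with h1 | h1
    · exact hi (h.pos_inj (h1.trans hl.symm))
    · have := h.pos i
      rw [h1, d.lam_a'] at this
      have := d.lam_pos
      omega
  · refine hz (fun h0 => ?_) (congrFun hy0 i)
    rcases hμ _ h0 with h1 | h1
    · have := h.neg i
      rw [h1] at this
      have := d.lam_pos
      omega
    · exact hi (h.neg_inj (h1.trans hj.symm))

variable {cor : M →+ ℤ} (hcor : ∀ m, d.s m = m - cor m • F.root d.a) (hα : cor (F.root d.a) = 2)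

include hα in
theorem Refl.tor_rt (v : Bˣ) (x : B) :
    F.T.tor (zchar cor v) * F.rt d.a x = F.rt d.a ((v : B) ^ 2 * x) * F.T.tor (zchar cor v) := by
  rw [show F.rt d.a x = linePt (F.φ d.a) x from rfl, F.conj B d.a, zchar_apply, hα]
  norm_num
  rfl

include hα in
theorem Refl.rt_tor (v : Bˣ) (x : B) :
    F.rt d.a' x * F.T.tor (zchar cor v) = F.T.tor (zchar cor v) * F.rt d.a' ((v : B) ^ 2 * x) := by
  rw [show F.rt d.a' ((v : B) ^ 2 * x) = linePt (F.φ d.a') ((v : B) ^ 2 * x) from rfl, F.conj B d.a', zchar_apply,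
    d.root_a', map_neg, hα]
  have : ((v ^ (-2 : ℤ) : Bˣ) : B) * ((v : B) ^ 2 * x) = x := by
    rw [← mul_assoc, ← Units.val_pow_eq_pow_val, ← Units.val_mul, zpow_neg, zpow_ofNat, inv_mul_cancel,
      Units.val_one, one_mul]
  rw [this]
  rfl

include hcor hα in
theorem Refl.zchar_comp_s (v : Bˣ) : (zchar cor v).comp d.s.toMultiplicative = zchar cor v⁻¹ := by
  refine MonoidHom.ext fun m => ?_
  show ((v ^ cor (d.s m.toAdd) : Bˣ) : B) = ((v⁻¹ ^ cor m.toAdd : Bˣ) : B)
  rw [inv_zpow', hcor, map_sub, map_zsmul, hα, smul_eq_mul]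
  congr 2
  ring

/-- The reflecting point in the cell at one value of the opposite root group. -/
def Refl.Base (ν : Rˣ) (χ₀ : Multiplicative M →* R) (b : R) : Prop :=
  d.n * F.rt d.a' (1 : R) = F.rt d.a' (ν : R) * F.T.tor χ₀ * F.rt d.a b

include hcor hα in
/-- The reflecting point times the opposite root group, by scaling. -/
theorem Refl.base_scale {ν : Rˣ} {χ₀ : Multiplicative M →* R} {b : R} (hb : d.Base ν χ₀ b) (z : Bˣ) :
    cstPt B d.n * F.rt d.a' (z : B) = F.rt d.a' (algebraMap R B ν * ↑z⁻¹) *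
      F.T.tor ((Algebra.ofId R B).toRingHom.toMonoidHom.comp χ₀ * zchar cor z) *
        F.rt d.a (algebraMap R B b * ↑z⁻¹) := by
  classical
  let p : Polynomial B := Polynomial.X ^ 2 - Polynomial.C (z : B)
  let B' := AdjoinRoot p
  let f : B →ₐ[R] B' := IsScalarTower.toAlgHom R B B'
  have hf : Function.Injective f := by
    rw [injective_iff_map_eq_zero]
    intro r hr
    by_contra hr0
    haveI : Nontrivial B := nontrivial_of_ne r 0 hr0
    have h1 : p ∣ Polynomial.C r := AdjoinRoot.mk_eq_zero.mp hr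
    have hm : p.Monic := Polynomial.monic_X_pow_sub_C _ (by norm_num)
    refine hm.not_dvd_of_natDegree_lt (by simpa using hr0) ?_ h1
    simp [p, Polynomial.natDegree_X_pow_sub_C]
  set w₀ : B' := AdjoinRoot.root p
  have hw₀ : w₀ * w₀ = f z := by
    have h1 := AdjoinRoot.eval₂_root p
    simp only [p, Polynomial.eval₂_sub, Polynomial.eval₂_pow, Polynomial.eval₂_X, Polynomial.eval₂_C,
      sub_eq_zero] at h1
    exact (pow_two w₀).symm.trans h1
  let w : B'ˣ := Units.mkOfMulEqOne w₀ (w₀ * f ↑z⁻¹) (by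
    rw [← mul_assoc, hw₀, ← map_mul, Units.mul_inv, map_one])
  have hw : w * w = Units.map (f : B →* B') z := Units.ext hw₀
  refine mapPt_injective hf ?_
  rw [map_mul, map_mul, map_mul, mapPt_cstPt, F.mapPt_rt, F.mapPt_rt, F.mapPt_rt, F.T.mapPt_tor,
    MonoidHom.comp_mul, comp_zchar, map_mul, map_mul, map_mul, AlgHom.commutes, AlgHom.commutes]
  set φ := Algebra.ofId R B'
  rw [show f.toRingHom.toMonoidHom.comp ((Algebra.ofId R B).toRingHom.toMonoidHom.comp χ₀) =
    φ.toRingHom.toMonoidHom.comp χ₀ from MonoidHom.ext fun m => (f.commutes _)]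
  have hb' : cstPt B' d.n * F.rt d.a' (1 : B') =
      F.rt d.a' (algebraMap R B' ν) * F.T.tor (φ.toRingHom.toMonoidHom.comp χ₀) * F.rt d.a (algebraMap R B' b) := by
    have := congrArg (mapPt φ) hb
    rw [map_mul, map_mul, map_mul, F.mapPt_rt, F.mapPt_rt, F.mapPt_rt, F.T.mapPt_tor, map_one] at this
    exact this
  set T := F.T.tor (zchar cor w) with hT
  set X₀ := F.T.tor (φ.toRingHom.toMonoidHom.comp χ₀)
  have hTT : T * T = F.T.tor (zchar cor (Units.map (f : B →* B') z)) := by rw [hT, ← map_mul, ← zchar_mul, hw]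
  have hTi : F.T.tor (zchar cor w⁻¹) = T⁻¹ :=
    eq_inv_of_mul_eq_one_left (by rw [hT, ← map_mul, ← zchar_mul, inv_mul_cancel, zchar_one, map_one])
  have hcomm : T * X₀ = X₀ * T := by rw [hT]; simp only [X₀, ← map_mul, mul_comm]
  have hnT : cstPt B' d.n * T⁻¹ = T * cstPt B' d.n := by
    rw [← hTi, ← d.zchar_comp_s hcor hα, ← d.normS]
  have hwz : (w : B') ^ 2 = f z := by rw [pow_two]; exact hw₀
  have hzi : ((Units.map (f : B →* B') z : B'ˣ) : B') ^ 2 * (algebraMap R B' b * f ↑z⁻¹) =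
      algebraMap R B' b * f z := by
    show (f z) ^ 2 * _ = _
    rw [show (f z) ^ 2 * (algebraMap R B' b * f ↑z⁻¹) = algebraMap R B' b * f z * (f z * f ↑z⁻¹) by ring,
      ← map_mul, Units.mul_inv, map_one, mul_one]
  have hν : (w : B') ^ 2 * (algebraMap R B' ν * f ↑z⁻¹) = algebraMap R B' ν := by
    rw [hwz, show f z * (algebraMap R B' ν * f ↑z⁻¹) = algebraMap R B' ν * (f z * f ↑z⁻¹) by ring,
      ← map_mul, Units.mul_inv, map_one, mul_one]
  have e1 : T * F.rt d.a (algebraMap R B' b) = F.rt d.a (algebraMap R B' b * f z) * T := by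
    rw [d.tor_rt hα, hwz, mul_comm (f z)]
  have e2 : F.rt d.a' (algebraMap R B' ν * f ↑z⁻¹) * T = T * F.rt d.a' (algebraMap R B' ν) := by
    rw [d.rt_tor hα, hν]
  have e3 : F.rt d.a' (1 : B') * T = T * F.rt d.a' (f z) := by rw [d.rt_tor hα, mul_one, hwz]
  calc cstPt B' d.n * F.rt d.a' (f z)
      = cstPt B' d.n * T⁻¹ * (T * F.rt d.a' (f z)) := by group
    _ = T * (cstPt B' d.n * F.rt d.a' (1 : B')) * T := by rw [hnT, ← e3]; simp only [mul_assoc]
    _ = (T * F.rt d.a' (algebraMap R B' ν)) * X₀ * (F.rt d.a (algebraMap R B' b) * T) := by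
      rw [hb']; simp only [mul_assoc]
    _ = F.rt d.a' (algebraMap R B' ν * f ↑z⁻¹) * (T * X₀) * (F.rt d.a (algebraMap R B' b) * T) := by
      rw [← e2]; simp only [mul_assoc]
    _ = F.rt d.a' (algebraMap R B' ν * f ↑z⁻¹) * X₀ * ((T * F.rt d.a (algebraMap R B' b)) * T) := by
      rw [hcomm]; simp only [mul_assoc]
    _ = F.rt d.a' (algebraMap R B' ν * f ↑z⁻¹) * X₀ * (F.rt d.a (algebraMap R B' b * f z) * (T * T)) := by
      rw [e1]; simp only [mul_assoc]
    _ = _ := by
      rw [hTT, ← hzi, ← d.tor_rt hα]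
      simp only [mul_assoc]

include hcor hα in
/-- The dual pair relation for a unit value of the opposite root group, up to a scalar. -/
theorem Refl.formula_unit {ν ν' : Rˣ} {χ₀ χ₀' : Multiplicative M →* R} {b b' : R} (hb : d.Base ν χ₀ b)
    (hb' : d.invN.Base ν' χ₀' b') {κ : Rˣ} (hκ : ∀ (B : Type u) [CommRing B] [Algebra R B] (y : B),
      cstPt B d.n * F.rt d.a' y * (cstPt B d.n)⁻¹ = F.rt d.a (algebraMap R B κ * y))
    {c : Rˣ} (hc : c = (κ * ν')⁻¹) (x : B) (y v : Bˣ) (hv : (v : B) = 1 + algebraMap R B c * x * y) :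
    F.rt d.a x * F.rt d.a' (y : B) = F.rt d.a' ((y : B) * ↑v⁻¹) * F.T.tor (zchar cor v) *
      F.rt d.a (algebraMap R B (b' * c) * x * ↑v⁻¹) := by
  have main : ∀ (B : Type u) [CommRing B] [Algebra R B] (x : B) (y w : Bˣ),
      (w : B) = algebraMap R B ↑κ⁻¹ * x + algebraMap R B ν' * ↑y⁻¹ →
      F.rt d.a x * F.rt d.a' (y : B) = F.rt d.a' (algebraMap R B ν * ↑w⁻¹) *
        F.T.tor ((Algebra.ofId R B).toRingHom.toMonoidHom.comp (χ₀ * χ₀') * zchar cor (w * y)) *
          F.rt d.a (algebraMap R B b * ↑w⁻¹ *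
            ((Algebra.ofId R B).toRingHom.toMonoidHom.comp χ₀' (Multiplicative.ofAdd (-F.root d.a)) *
              ↑(y⁻¹) ^ 2) + algebraMap R B b' * ↑y⁻¹) := by
    intro B _ _ x y w hw
    have h1 : F.rt d.a x = cstPt B d.n * F.rt d.a' (algebraMap R B ↑κ⁻¹ * x) * (cstPt B d.n)⁻¹ := by
      rw [hκ, ← mul_assoc, ← map_mul, Units.mul_inv, map_one, one_mul]
    have hn : cstPt B d.invN.n = (cstPt B d.n)⁻¹ := map_inv (cstPt B) d.n
    have h2 := d.invN.base_scale (cor := cor) hcor hα hb' y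
    rw [hn] at h2
    change (cstPt B d.n)⁻¹ * F.rt d.a' (y : B) = F.rt d.a' (algebraMap R B ν' * ↑y⁻¹) * _ * F.rt d.a _ at h2
    have h3 := d.base_scale hcor hα hb w
    set χ₁ := (Algebra.ofId R B).toRingHom.toMonoidHom.comp χ₀'
    have hmove : F.rt d.a (algebraMap R B b * ↑w⁻¹) * F.T.tor (χ₁ * zchar cor y) =
        F.T.tor (χ₁ * zchar cor y) * F.rt d.a (algebraMap R B b * ↑w⁻¹ *
          (χ₁ (Multiplicative.ofAdd (-F.root d.a)) * ↑(y⁻¹) ^ 2)) := by
      set ψ := χ₁ * zchar cor y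
      rw [show F.rt d.a (algebraMap R B b * ↑w⁻¹ * (χ₁ (Multiplicative.ofAdd (-F.root d.a)) * ↑(y⁻¹) ^ 2)) =
        linePt (F.φ d.a) (algebraMap R B b * ↑w⁻¹ * (χ₁ (Multiplicative.ofAdd (-F.root d.a)) * ↑(y⁻¹) ^ 2))
        from rfl, F.conj B d.a]
      congr 2
      have hy2 : zchar cor y (Multiplicative.ofAdd (F.root d.a)) * ↑(y⁻¹) ^ 2 = 1 := by
        rw [zchar_apply, hα, zpow_ofNat, ← Units.val_pow_eq_pow_val, ← Units.val_mul, inv_pow, mul_inv_cancel,
          Units.val_one]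
      have hχ : χ₁ (Multiplicative.ofAdd (F.root d.a)) * χ₁ (Multiplicative.ofAdd (-F.root d.a)) = 1 := by
        rw [← map_mul, ← ofAdd_add, add_neg_cancel, ofAdd_zero, map_one]
      rw [MonoidHom.mul_apply]
      linear_combination (-(algebraMap R B b * ↑w⁻¹) * χ₁ (Multiplicative.ofAdd (F.root d.a)) *
        χ₁ (Multiplicative.ofAdd (-F.root d.a))) * hy2 - (algebraMap R B b * ↑w⁻¹) * hχ
    calc F.rt d.a x * F.rt d.a' (y : B)
        = cstPt B d.n * F.rt d.a' (algebraMap R B ↑κ⁻¹ * x) * ((cstPt B d.n)⁻¹ * F.rt d.a' (y : B)) := by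
          rw [h1]; simp only [mul_assoc]
      _ = (cstPt B d.n * F.rt d.a' (w : B)) * F.T.tor (χ₁ * zchar cor y) *
            F.rt d.a (algebraMap R B b' * ↑y⁻¹) := by
          rw [h2, hw, rt_addR]; simp only [mul_assoc]
      _ = F.rt d.a' (algebraMap R B ν * ↑w⁻¹) *
          F.T.tor ((Algebra.ofId R B).toRingHom.toMonoidHom.comp χ₀ * zchar cor w) *
            (F.rt d.a (algebraMap R B b * ↑w⁻¹) * F.T.tor (χ₁ * zchar cor y)) *
              F.rt d.a (algebraMap R B b' * ↑y⁻¹) := by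
          rw [h3]; simp only [mul_assoc]
      _ = _ := by
          rw [hmove, rt_addR,
            show F.T.tor ((Algebra.ofId R B).toRingHom.toMonoidHom.comp (χ₀ * χ₀') * zchar cor (w * y)) =
              F.T.tor ((Algebra.ofId R B).toRingHom.toMonoidHom.comp χ₀ * zchar cor w) *
                F.T.tor (χ₁ * zchar cor y) by
              rw [zchar_mul, MonoidHom.comp_mul, ← map_mul, mul_mul_mul_comm]]
          simp only [mul_assoc]
  let φ := Algebra.ofId R B
  let N : Bˣ := Units.map (φ : R →* B) ν'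
  let w₀ : Bˣ := N * y⁻¹
  have h0 := main B 0 y w₀ (by rw [mul_zero, zero_add]; rfl)
  rw [F.rt_zero, one_mul, show w₀ * y = N from inv_mul_cancel_right N y] at h0
  rw [show F.rt d.a' (y : B) = F.rt d.a' (y : B) * F.T.tor 1 * F.rt d.a (0 : B) by
    rw [map_one, mul_one, F.rt_zero, mul_one]] at h0
  obtain ⟨hy0, hχ, hβ⟩ := d.cell_unique h0
  have hwv : ((w₀ * v : Bˣ) : B) = algebraMap R B ↑κ⁻¹ * x + algebraMap R B ν' * ↑y⁻¹ := by
    have e1 : algebraMap R B ↑κ⁻¹ = algebraMap R B ν' * algebraMap R B c := by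
      rw [← map_mul, hc, ← Units.val_mul, mul_inv, mul_comm κ⁻¹, mul_inv_cancel_left]
    have e2 : (y : B) * ↑y⁻¹ = 1 := y.mul_inv
    simp only [w₀]
    rw [Units.val_mul, Units.val_mul, show (N : B) = algebraMap R B ν' from rfl, hv, e1]
    linear_combination (algebraMap R B ν' * algebraMap R B c * x) * e2
  have hwy : w₀ * v * y = N * v := by rw [mul_right_comm, inv_mul_cancel_right]
  rw [main B x y (w₀ * v) hwv, hwy, mul_inv w₀ v, Units.val_mul, zchar_mul, ← mul_assoc (algebraMap R B ν),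
    ← hy0, ← mul_assoc _ (zchar cor N) (zchar cor v), ← hχ, one_mul]
  congr 1
  congr 1
  have e2 : (y : B) * ↑y⁻¹ = 1 := y.mul_inv
  have e3 : (v : B) * ↑v⁻¹ = 1 := v.mul_inv
  rw [map_mul]
  linear_combination (-(↑v⁻¹ : B)) * hβ - (algebraMap R B b' * ↑y⁻¹) * e3 +
    (algebraMap R B b' * ↑y⁻¹ * ↑v⁻¹) * hv + (algebraMap R B b' * algebraMap R B c * x * ↑v⁻¹) * e2

end Groth.Agent.RedRk29
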