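import Groth.Agent.RedRk29.RankOneDual
import Groth.Agent.RedRk29.Geom
import Groth.Agent.BigCell29.Global

/-!
# Opposite root groups of a split reductive group over an affine piece of the base
-/

set_option autoImplicit false

universe u

open CategoryTheory CategoryTheory.Limits MonoidalCategory CartesianMonoidalCategory AlgebraicGeometry
open TensorProduct WithConv
open scoped AddMonoidAlgebra MonObj

namespace Groth.Agent.RedRk29

open BigCell29

section Field

variable {M idx' : Type} [AddCommGroup M] [Module.Free ℤ M] [Module.Finite ℤ M] [Fintype idx']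
variable {k : Type u} [Field k] [IsAlgClosed k] {A : Type u} [CommRing A] [HopfAlgebra k A]
variable {F : Frame k A M idx'}

/-- The coordinate on the opposite root group is nonzero. -/
theorem Refl.nu_ne_zero (d : Refl F) (hne : F.root d.a ≠ 0) {ν b : k} {χ : Multiplicative M →* k}
    (e : d.n * F.rt d.a' (1 : k) = F.rt d.a' ν * F.T.tor χ * F.rt d.a b) : ν ≠ 0 := by
  intro hν
  rw [hν, F.rt_zero, one_mul] at e
  set b₁ := χ (Multiplicative.ofAdd (F.root d.a)) * b
  have hn : d.n = F.rt d.a b₁ * F.T.tor χ * F.rt d.a' (-1) := by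
    have e1 : F.T.tor χ * F.rt d.a b = F.rt d.a b₁ * F.T.tor χ := F.conj k d.a χ b
    rw [← rt_invR, ← e1, ← e, mul_inv_cancel_right]
  obtain ⟨s, hs⟩ := exists_unit_pow_ne_one (k := k) (S := {2}) (Set.finite_singleton 2)
  obtain ⟨χ', hχ'⟩ := exists_char_eq hne s
  have hN : F.T.tor χ' * d.n = d.n * F.T.tor (χ'.comp d.s.toMultiplicative) := by
    have := d.normS k χ'
    rwa [cstPt_self] at this
  set ψ := χ'.comp d.s.toMultiplicative
  have e2 : F.T.tor χ' * F.rt d.a b₁ = F.rt d.a (χ' (Multiplicative.ofAdd (F.root d.a)) * b₁) * F.T.tor χ' :=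
    F.conj k d.a χ' b₁
  have e3 : F.T.tor ψ * F.rt d.a' (ψ (Multiplicative.ofAdd (F.root d.a)) * (-1)) =
      F.rt d.a' (-1 : k) * F.T.tor ψ := by
    refine (F.conj k d.a' ψ _).trans ?_
    congr 2
    rw [← mul_assoc, ← map_mul, ← ofAdd_add, d.root_a', neg_add_cancel, ofAdd_zero, map_one, one_mul]
  have e4 : F.rt d.a (χ' (Multiplicative.ofAdd (F.root d.a)) * b₁) * F.T.tor (χ' * χ) * F.rt d.a' (-1) =
      F.rt d.a b₁ * F.T.tor (χ * ψ) * F.rt d.a' (ψ (Multiplicative.ofAdd (F.root d.a)) * (-1)) := by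
    rw [map_mul, map_mul]
    calc _ = F.rt d.a (χ' (Multiplicative.ofAdd (F.root d.a)) * b₁) * F.T.tor χ' * F.T.tor χ * F.rt d.a' (-1) := by
          simp only [mul_assoc]
      _ = F.T.tor χ' * d.n := by rw [← e2, hn]; simp only [mul_assoc]
      _ = d.n * F.T.tor ψ := hN
      _ = _ := by rw [hn, mul_assoc, ← e3]; simp only [mul_assoc]
  obtain ⟨-, h, -⟩ := d.swap.cell_unique e4
  have h2 := DFunLike.congr_fun h (Multiplicative.ofAdd (F.root d.a))
  simp only [MonoidHom.mul_apply, ψ, MonoidHom.comp_apply] at h2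
  rw [mul_comm (χ _)] at h2
  have hu : χ (Multiplicative.ofAdd (F.root d.a)) ≠ 0 := ((Group.isUnit _).map χ).ne_zero
  have h3 := mul_right_cancel₀ hu h2
  rw [hχ', show d.s.toMultiplicative (Multiplicative.ofAdd (F.root d.a)) = Multiplicative.ofAdd (-F.root d.a) from
    congrArg Multiplicative.ofAdd d.s_a] at h3
  refine hs 2 rfl (by norm_num) ?_
  rw [zpow_ofNat, Units.val_pow_eq_pow_val, pow_two]
  conv_lhs => arg 2; rw [h3]
  rw [← hχ', ← map_mul, ← ofAdd_add, add_neg_cancel, ofAdd_zero, map_one]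

end Field

variable {S : Scheme.{u}} {G : Over S} [GrpObj G] (D : Red.SplitRed G) (a : D.idx)

/-- The opposite root. -/
abbrev negIdx (a : D.idx) : D.idx := D.P.reflectionPerm a a

/-- The reflection of a root. -/
noncomputable abbrev sref (a : D.idx) : D.M →+ D.M := (D.P.reflection a).toLinearMap.toAddMonoidHom

theorem root_negIdx : D.P.root (negIdx D a) = -D.P.root a := by
  rw [RootPairing.root_reflectionPerm, RootPairing.reflection_apply_self]

/-- A section inducing the reflection. -/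
def IsReflPt (n0 : 𝟙_ (Over S) ⟶ G) : Prop :=
  ∀ (R : Type u) [CommRing R] (f : Spec (CommRingCat.of R) ⟶ S) (B : Type u) [CommRing B] [Algebra R B]
    (χ : Multiplicative D.M →* B),
    (toUnit (tObj f B) ≫ n0) * torG D χ * (toUnit (tObj f B) ≫ n0)⁻¹ =
      torG D (χ.comp (sref D a).toMultiplicative)

theorem exists_isReflPt : ∃ n0, IsReflPt D a n0 := by
  obtain ⟨n, hn⟩ := D.refl a
  refine ⟨n, fun R _ f B _ _ χ => ?_⟩
  have h := hn (tObj f B) (chPt f χ ≫ D.split.inv.hom.hom)
  have e : (chPt f χ ≫ D.split.inv.hom.hom) ≫ D.split.hom.hom.hom ≫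
      Red.DSmap S (D.P.reflection a).toLinearMap.toAddMonoidHom ≫ D.split.inv.hom.hom ≫ D.i =
      torG D (χ.comp (sref D a).toMultiplicative) := by
    rw [Category.assoc, ← Category.assoc D.split.inv.hom.hom,
      show D.split.inv.hom.hom ≫ D.split.hom.hom.hom = 𝟙 _ from congrArg (fun k => k.hom.hom) D.split.inv_hom_id,
      Category.id_comp, ← Category.assoc (chPt f χ), chPt_DSmap]
    rfl
  rw [← e, ← h, torG, Category.assoc]

theorem IsReflPt.inv {n0 : 𝟙_ (Over S) ⟶ G} (h : IsReflPt D a n0) : IsReflPt D a n0⁻¹ := by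
  intro R _ f B _ _ χ
  have h' := h R f B (χ.comp (sref D a).toMultiplicative)
  rw [show (χ.comp (sref D a).toMultiplicative).comp (sref D a).toMultiplicative = χ by
    ext m; simp [D.P.reflection_same a]] at h'
  rw [GrpObj.comp_inv, inv_inv, ← h']
  group

variable {R : Type u} [CommRing R] {f : Spec (CommRingCat.of R) ⟶ S} {A : Type u} [CommRing A] [HopfAlgebra R A]
  (Md : Model f G A) {F : Frame R A D.M D.idx} (hF : F.toPreFrame = Md.preFrame D)
  {B : Type u} [CommRing B] [Algebra R B]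

include hF in
theorem root_F (i : D.idx) : F.root i = D.P.root i := by rw [hF]; rfl

include hF in
theorem pt_torF (χ : Multiplicative D.M →* B) : Md.pt (F.T.tor χ) = torG D χ := by
  rw [hF]; exact Md.pt_torPt D χ

include hF in
theorem pt_rtF (i : D.idx) (x : B) : Md.pt (F.rt i x) = rtG D i x := by
  rw [hF]; exact Md.pt_linePt D i x

theorem tMap_toUnit (φ : R →ₐ[R] B) (n0 : 𝟙_ (Over S) ⟶ G) :
    tMap f φ ≫ toUnit _ ≫ n0 = toUnit _ ≫ n0 := by
  rw [← Category.assoc, toUnit_unique (tMap f φ ≫ toUnit _) (toUnit _)]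

theorem exists_lam : ∃ lam : D.M →+ ℤ, 0 < lam (D.P.root a) ∧ ∀ i, lam (D.P.root i) ≠ 0 := by
  obtain ⟨lam, h1, h2⟩ := exists_perturb (D.P.coroot' a).toAddMonoidHom (Set.finite_range D.P.root)
  refine ⟨lam, h2 _ ⟨a, rfl⟩ ?_, fun i => h1 _ ⟨i, rfl⟩ (D.P.ne_zero i)⟩
  show 0 < D.P.coroot' a (D.P.root a)
  rw [D.P.root_coroot'_eq_pairing, D.P.pairing_same]
  norm_num

/-- The reflection datum of a root and a section inducing the reflection. -/
noncomputable def reflOf [Nonempty S] {n0 : 𝟙_ (Over S) ⟶ G} (hn0 : IsReflPt D a n0) : Refl F where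
  a := a
  a' := negIdx D a
  root_a' := by rw [root_F D Md hF, root_F D Md hF, root_negIdx]
  s := sref D a
  s_s m := D.P.reflection_same a m
  s_a := by rw [root_F D Md hF]; exact D.P.reflection_apply_self a
  s_line m := ⟨-(D.P.coroot' a m), by
    rw [root_F D Md hF]
    show D.P.reflection a m = m + (-(D.P.coroot' a m)) • D.P.root a
    rw [RootPairing.reflection_apply, neg_smul, sub_eq_add_neg]⟩
  s_root i := ⟨D.P.reflectionPerm a i, by
    rw [root_F D Md hF, root_F D Md hF]; exact RootPairing.root_reflectionPerm D.P a i⟩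
  n := Md.ofPt (toUnit _ ≫ n0)
  normS B _ _ χ := Md.pt_bijective.injective (by
    have e : Md.pt (cstPt B (Md.ofPt (toUnit _ ≫ n0))) = toUnit _ ≫ n0 := by
      rw [cstPt, Md.pt_map, Md.pt_ofPt, tMap_toUnit]
    have h := hn0 R f B (χ.comp (sref D a).toMultiplicative)
    rw [show (χ.comp (sref D a).toMultiplicative).comp (sref D a).toMultiplicative = χ by
      ext m; simp [D.P.reflection_same a]] at h
    rw [Md.pt_mul, Md.pt_mul, pt_torF D Md hF, pt_torF D Md hF, e]
    exact (mul_inv_eq_iff_eq_mul.mp h).symm)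
  reduced i p q hp h := by
    haveI := isReduced D
    rw [root_F D Md hF, root_F D Md hF] at h
    have hd : ¬ LinearIndependent ℤ ![D.P.root i, D.P.root a] := fun hli => by
      rw [LinearIndependent.pair_iff] at hli
      exact hp (hli p (-q) (by rw [h, neg_smul, add_neg_cancel])).1
    rcases RootPairing.IsReduced.eq_or_eq_neg i a hd with h' | h'
    · exact Or.inl (D.P.root.injective h')
    · exact Or.inr (D.P.root.injective (h'.trans (root_negIdx D a).symm))
  lam := (exists_lam D a).choose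
  lam_pos := by rw [root_F D Md hF]; exact (exists_lam D a).choose_spec.1
  lam_ne i := by rw [root_F D Md hF]; exact (exists_lam D a).choose_spec.2 i

theorem pt_reflOf_n [Nonempty S] {n0 : 𝟙_ (Over S) ⟶ G} (hn0 : IsReflPt D a n0) :
    Md.pt (reflOf D a Md hF hn0).n = toUnit _ ≫ n0 := Md.pt_ofPt _

section Fibre

variable [Nonempty S]

/-- The relation at a geometric point. -/
theorem exists_geom_cell {n0 : 𝟙_ (Over S) ⟶ G} (hn0 : IsReflPt D a n0) (s : S) :
    ∃ (ν : AlgebraicClosure (S.residueField s)) (χ : Multiplicative D.M →* AlgebraicClosure (S.residueField s))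
      (b : AlgebraicClosure (S.residueField s)), ν ≠ 0 ∧
      (toUnit (tObj (Red.geomPt s) (AlgebraicClosure (S.residueField s))) ≫ n0) *
          rtG D (negIdx D a) (1 : AlgebraicClosure (S.residueField s)) =
        rtG D (negIdx D a) ν * torG D χ * rtG D a b := by
  obtain ⟨haff, hsm, hfib⟩ := D.reductive
  obtain ⟨hX1, hX2, hX3, hX4⟩ := hfib s
  let K := AlgebraicClosure (S.residueField s)
  let f := Red.geomPt s
  haveI := haff
  obtain ⟨A, _, _, ⟨Md⟩⟩ := exists_model (R := K) f G
  haveI : Algebra.Smooth K A := Md.smooth hsm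
  haveI : IsDomain A := by
    haveI := hX1
    haveI := hX2
    haveI := hX3
    haveI := Obs28.Unip.isIntegral_grp (G := Red.geomFibre s G)
    have hIso : IsIso Md.hom.left := inferInstance
    haveI : Nonempty (Spec (CommRingCat.of A)) :=
      ⟨(inv (Md.hom.left : Spec (CommRingCat.of A) ⟶ (Red.geomFibre s G).left)).base (Classical.choice inferInstance)⟩
    exact (affine_isIntegral_iff (CommRingCat.of A)).mp
      (@isIntegral_of_isOpenImmersion (Spec (CommRingCat.of A)) (Red.geomFibre s G).left Md.hom.left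
        (@IsOpenImmersion.of_isIso _ _ Md.hom.left hIso) inferInstance inferInstance)
  haveI : Algebra.FinitePresentation K A := Algebra.Smooth.finitePresentation
  haveI : Algebra.FiniteType K A := Algebra.FiniteType.of_finitePresentation
  have hdim : ringKrullDim A = ((Module.finrank ℤ D.M + Fintype.card D.idx : ℕ) : WithBot ℕ∞) := by
    rw [← D.dim_fibre s, ← PrimeSpectrum.topologicalKrullDim_eq_ringKrullDim]
    exact (Scheme.homeoOfIso (asIso
      (Md.hom.left : Spec (CommRingCat.of A) ⟶ (Red.geomFibre s G).left))).isHomeomorph.topologicalKrullDim_eq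
  let F : Frame K A D.M D.idx :=
    { Md.preFrame D with
      cot := fun x h0 hT hu => PreFrame.cot_of_dim (Md.preFrame D) (fun i => D.P.ne_zero i)
        (fun p hp => ⟨K, inferInstance, inferInstance,
          (show RingHom.ker (algebraMap K K) = p by
            rw [(Ideal.eq_bot_or_top p).resolve_right hp.ne_top]
            exact (RingHom.ker_eq_bot_iff_eq_zero _).mpr fun _ h => h),
          ((ringKrullDim_eq_of_ringEquiv (Algebra.TensorProduct.lid K A).toRingEquiv).trans hdim).le⟩)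
        x h0 hT hu }
  let d := reflOf D a Md (F := F) rfl hn0
  have hne : ∀ i, F.root i ≠ 0 := fun i => D.P.ne_zero i
  obtain ⟨ν, χ, b, e⟩ := d.exists_cell_normS F hne (noUnipotentNormal Md.e ⟨hX1, hX2, hX3, hX4⟩) (one_ne_zero' K)
  refine ⟨ν, χ, b, d.nu_ne_zero (hne _) e, ?_⟩
  have h := congrArg Md.pt e
  rwa [Md.pt_mul, Md.pt_mul, Md.pt_mul, pt_rtF D Md (F := F) rfl, pt_rtF D Md (F := F) rfl,
    pt_rtF D Md (F := F) rfl, pt_torF D Md (F := F) rfl, pt_reflOf_n] at h

end Fibre

section Congr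

variable {R' : Type u} [CommRing R'] {f' : Spec (CommRingCat.of R') ⟶ S} [Algebra R' B]
  (e : Spec.map (CommRingCat.ofHom (algebraMap R B)) ≫ f = Spec.map (CommRingCat.ofHom (algebraMap R' B)) ≫ f')

/-- The same test object seen over two affine pieces. -/
noncomputable def tCongr : tObj f B ⟶ tObj f' B :=
  Over.homMk (Spec.map (CommRingCat.ofHom (RingHom.id B))) (by
    show Spec.map (CommRingCat.ofHom (RingHom.id B)) ≫ Spec.map (CommRingCat.ofHom (algebraMap R' B)) ≫ f' =
      Spec.map (CommRingCat.ofHom (algebraMap R B)) ≫ f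
    rw [CommRingCat.ofHom_id, Spec.map_id]
    exact (Category.id_comp _).trans e.symm)

theorem tCongr_torG (χ : Multiplicative D.M →* B) : tCongr e ≫ torG D χ = torG D χ := by
  have h : tCongr e ≫ chPt f' χ = chPt f χ :=
    (DSPtsLib.pt_comp (Spec.map (CommRingCat.ofHom (algebraMap R' B)) ≫ f') (chHom χ) (RingHom.id B)
      (Spec.map (CommRingCat.ofHom (algebraMap R B)) ≫ f) (Over.w (tCongr e))).trans
      (congrArg _ (coordM_hom_ext fun m => rfl))
  rw [torG, torG, ← Category.assoc, h]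

theorem tCongr_gaPt (x : B) : tCongr e ≫ gaPt f' x = gaPt f x := by
  refine GrpSchLib.GaPts.gaFn_injective ?_
  show Red.gaFn (tCongr e ≫ gaPt f' x) = Red.gaFn (gaPt f x)
  rw [GrpSchLib.GaPts.gaFn_comp, gaFn_gaPt, gaFn_gaPt]
  apply (tVal f B).injective
  rw [RingEquiv.apply_symm_apply]
  refine (congrArg (fun ψ => (ConcreteCategory.hom ψ) ((tVal f' B).symm x))
    (Scheme.ΓSpecIso_naturality (CommRingCat.ofHom (RingHom.id B)))).trans ?_
  exact (tVal f' B).apply_symm_apply x

theorem tCongr_rtG (i : D.idx) (x : B) : tCongr e ≫ rtG D i x = rtG D i x := by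
  rw [rtG, rtG, ← Category.assoc, tCongr_gaPt]

end Congr

variable [Nonempty S] [hf : IsOpenImmersion f]

omit [Nonempty S] in
theorem frame_pre : (Md.frame D).toPreFrame = Md.preFrame D := rfl

include hf in
/-- At every prime the relation holds in an algebraically closed field. -/
theorem exists_fibre_cell {n0 : 𝟙_ (Over S) ⟶ G} (hn0 : IsReflPt D a n0) (p : PrimeSpectrum R) :
    ∃ (K : Type u) (_ : Field K) (_ : Algebra R K), RingHom.ker (algebraMap R K) = p.asIdeal ∧
      ∃ (ν : K) (χ : Multiplicative D.M →* K) (b : K), ν ≠ 0 ∧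
        cstPt K (reflOf D a Md (F := Md.frame D) (frame_pre D Md) hn0).n * (Md.frame D).rt (negIdx D a) (1 : K) =
          (Md.frame D).rt (negIdx D a) ν * (Md.frame D).T.tor χ * (Md.frame D).rt a b := by
  set s : S := f.base p
  let K := AlgebraicClosure (S.residueField s)
  have hpt : ∀ x, (Red.geomPt s).base x = s := fun x => Scheme.fromSpecResidueField_apply s _
  have hrange : Set.range (Red.geomPt s).base ⊆ Set.range f.base := by
    rintro _ ⟨x, rfl⟩; exact ⟨p, (hpt x).symm⟩
  let g := IsOpenImmersion.lift f (Red.geomPt s) hrange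
  obtain ⟨α, hα⟩ := Spec.map_surjective g
  letI : Algebra R K := α.hom.toAlgebra
  have hfac : Spec.map (CommRingCat.ofHom (algebraMap R K)) ≫ f =
      Spec.map (CommRingCat.ofHom (algebraMap K K)) ≫ Red.geomPt s := by
    rw [Algebra.algebraMap_self, CommRingCat.ofHom_id, Spec.map_id]
    exact ((congrArg (· ≫ f) hα).trans (IsOpenImmersion.lift_fac _ _ _)).trans (Category.id_comp _).symm
  refine ⟨K, inferInstance, inferInstance, ?_, ?_⟩
  · have h : f.base (g.base ⟨⊥, Ideal.isPrime_bot⟩) = f.base p := by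
      exact (Scheme.Hom.comp_apply g f _).symm.trans ((congrArg (fun q : Spec (CommRingCat.of K) ⟶ S => q.base _)
        (IsOpenImmersion.lift_fac _ _ _)).trans (hpt _))
    have h' := f.isOpenEmbedding.injective h
    rw [← hα] at h'
    rw [RingHom.ker_eq_comap_bot, ← h']
    rfl
  obtain ⟨ν, χ, b, hν, h⟩ := exists_geom_cell D a hn0 s
  refine ⟨ν, χ, b, hν, Md.pt_bijective.injective ?_⟩
  have h2 := congrArg (fun q => tCongr hfac ≫ q) h
  simp only [MonObj.comp_mul, tCongr_rtG, tCongr_torG] at h2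
  rw [← Category.assoc, toUnit_unique (tCongr hfac ≫ toUnit _) (toUnit _)] at h2
  rw [Md.pt_mul, Md.pt_mul, Md.pt_mul, pt_rtF D Md (F := Md.frame D) (frame_pre D Md), pt_rtF D Md (F := Md.frame D) (frame_pre D Md),
    pt_rtF D Md (F := Md.frame D) (frame_pre D Md), pt_torF D Md (F := Md.frame D) (frame_pre D Md), cstPt, Md.pt_map, pt_reflOf_n, tMap_toUnit]
  exact h2

include hf in
/-- The reflecting point times the opposite root group at one value lies in the cell. -/
theorem exists_ring_base {n0 : 𝟙_ (Over S) ⟶ G} (hn0 : IsReflPt D a n0) :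
    ∃ (ν : Rˣ) (χ : Multiplicative D.M →* R) (b : R), (reflOf D a Md (F := Md.frame D) (frame_pre D Md) hn0).Base ν χ b := by
  classical
  set F := Md.frame D
  set d := reflOf D a Md (F := F) (frame_pre D Md) hn0
  haveI : IsAffineHom G.hom := D.reductive.1
  haveI := Md.smooth D.reductive.2.1
  haveI : Algebra.FinitePresentation R A := Algebra.Smooth.finitePresentation
  haveI : Algebra.FormallySmooth R A := Algebra.Smooth.formallySmooth
  obtain ⟨n, m, eneg, epos, j, l, h, hj, hl⟩ := d.exists_enum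
  haveI := F.isOpenImmersion_splitMor h
  set g : Pt R A R := d.n * F.rt d.a' (1 : R)
  have hfib : ∀ p : PrimeSpectrum R, ∃ (K : Type u) (_ : Field K) (_ : Algebra R K),
      RingHom.ker (algebraMap R K) = p.asIdeal ∧ ∃ (ν : K) (χ : Multiplicative D.M →* K) (b : K), ν ≠ 0 ∧
        mapPt (Algebra.ofId R K) g = F.rt d.a' ν * F.T.tor χ * F.rt d.a b := fun p => by
    obtain ⟨K, _, _, hk, ν, χ, b, hν, e⟩ := exists_fibre_cell D a Md hn0 p
    refine ⟨K, inferInstance, inferInstance, hk, ν, χ, b, hν, ?_⟩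
    rw [map_mul, F.mapPt_rt, map_one]
    exact e
  have hrange : Set.range (Spec.map (CommRingCat.ofHom g.ofConv.toRingHom)).base ⊆
      Set.range (F.splitMor eneg epos).base := by
    rintro _ ⟨p, rfl⟩
    obtain ⟨K, _, _, hk, ν, χ, b, -, e⟩ := hfib p
    let L := splLift (R := R) (Pi.single j ν) χ (Pi.single l b)
    have hL : mapPt L (toConv (F.splitHom eneg epos)) = mapPt (Algebra.ofId R K) g := by
      rw [F.mapPt_splitHom, splLift_Y, splLift_T, splLift_X, e,
        prodPt_single eneg _ j fun i hi => Pi.single_eq_of_ne hi _, hj, Pi.single_eq_same,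
        prodPt_single epos _ l fun i hi => Pi.single_eq_of_ne hi _, hl, Pi.single_eq_same]
    refine ⟨⟨RingHom.ker L.toRingHom, RingHom.ker_isPrime _⟩, PrimeSpectrum.ext ?_⟩
    ext x
    show L (F.splitHom eneg epos x) = 0 ↔ g.ofConv x ∈ p.asIdeal
    rw [show L (F.splitHom eneg epos x) = algebraMap R K (g.ofConv x) from
      DFunLike.congr_fun (congrArg WithConv.ofConv hL) x, ← hk]
    rfl
  let lf := IsOpenImmersion.lift (F.splitMor eneg epos) (Spec.map (CommRingCat.ofHom g.ofConv.toRingHom)) hrange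
  obtain ⟨ψ, hψ⟩ := Spec.map_surjective lf
  have hψ' : CommRingCat.ofHom (F.splitHom eneg epos).toRingHom ≫ ψ = CommRingCat.ofHom g.ofConv.toRingHom := by
    apply Spec.map_injective
    rw [Spec.map_comp, hψ]
    exact IsOpenImmersion.lift_fac _ _ _
  have hψx : ∀ x, ψ.hom (F.splitHom eneg epos x) = g.ofConv x := fun x =>
    congrArg (fun k : CommRingCat.of A ⟶ CommRingCat.of R => k.hom x) hψ'
  let ψa : SplitRing R D.M n m →ₐ[R] R :=
    ⟨ψ.hom, fun r => by
      rw [← (F.splitHom eneg epos).commutes r]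
      exact (hψx _).trans (g.ofConv.commutes r)⟩
  have hg : F.prodPt eneg (coordY ψa) * F.T.tor (coordT ψa) * F.prodPt epos (coordX ψa) = g := by
    rw [← F.mapPt_splitHom]
    exact pt_ext fun x => hψx x
  obtain ⟨l₀, hl₀, -⟩ := exists_perturb (0 : D.M →+ ℤ)
    (Set.finite_range fun i => F.root i + d.s (F.root i))
  set mu := l₀ + l₀.comp d.s
  have hmus : ∀ x, mu (d.s x) = mu x := fun x => by simp [mu, d.s_s, add_comm]
  have hmu : ∀ i, mu (F.root i) = 0 → i = d.a ∨ i = d.a' := fun i hi => by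
    by_contra hcon
    refine hl₀ _ ⟨i, rfl⟩ (fun h0 => hcon ?_) (by simpa [mu] using hi)
    obtain ⟨z, hz⟩ := d.s_line (F.root i)
    refine d.reduced i 2 (-z) (by norm_num) ?_
    rw [neg_smul, eq_neg_iff_add_eq_zero, ← h0]
    show (2 : ℤ) • F.root i + z • F.root d.a = F.root i + d.s (F.root i)
    rw [hz, two_zsmul, add_assoc]
  have hmua' : mu (F.root d.a') = 0 := by simp [mu, d.root_a', d.s_a]
  obtain ⟨z, b, hzb⟩ := d.exists_cell_of_split h hmu (y := coordY ψa) (χ := coordT ψa) (x := coordX ψa)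
    fun B _ _ v => by
      rw [hg, map_mul, F.mapPt_rt, map_one]
      have e1 : F.T.tor (zchar mu v) * cstPt B d.n = cstPt B d.n * F.T.tor (zchar mu v) := by
        rw [d.normS B]
        congr 2
        ext x
        simp [zchar, hmus]
      have e2 : F.T.tor (zchar mu v) * F.rt d.a' (1 : B) = F.rt d.a' (1 : B) * F.T.tor (zchar mu v) := by
        refine (F.conj B d.a' (zchar mu v) 1).trans ?_
        rw [zchar_apply, hmua', zpow_zero, Units.val_one, one_mul]
        rfl
      show _ * (cstPt B d.n * _) = cstPt B d.n * _ * _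
      rw [← mul_assoc, e1, mul_assoc, e2, mul_assoc]
  have hz : IsUnit z := by
    by_contra hz
    obtain ⟨m₀, hm₀, hz₀⟩ := exists_max_ideal_of_mem_nonunits (show z ∈ nonunits R from hz)
    obtain ⟨K, _, _, hk, ν, χ, b', hν, e⟩ := hfib ⟨m₀, hm₀.isPrime⟩
    rw [← hg, hzb, map_mul, map_mul, F.mapPt_rt, F.mapPt_rt, F.T.mapPt_tor] at e
    obtain ⟨h1, -, -⟩ := d.cell_unique e
    refine hν (h1.symm.trans ?_)
    show algebraMap R K z = 0
    rw [← RingHom.mem_ker, hk]
    exact hz₀
  obtain ⟨zu, rfl⟩ := hz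
  exact ⟨zu, coordT ψa, b, hg.symm.trans hzb⟩

include hf in
/-- The dual pair relation over an affine piece. -/
theorem exists_ring_dual : ∃ c : Rˣ, ∀ (B : Type u) [CommRing B] [Algebra R B] (x y : B) (v : Bˣ),
    (v : B) = 1 + algebraMap R B c * x * y →
      rtG (f := f) D a x * rtG D (negIdx D a) y =
        rtG D (negIdx D a) (y * ↑v⁻¹) * torG D (zchar (D.P.coroot' a).toAddMonoidHom v) * rtG D a (x * ↑v⁻¹) := by
  obtain ⟨A, _, _, ⟨Md⟩⟩ := by
    haveI : IsAffineHom G.hom := D.reductive.1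
    exact exists_model (R := R) f G
  obtain ⟨n0, hn0⟩ := exists_isReflPt D a
  set F := Md.frame D
  set d := reflOf D a Md (F := F) (frame_pre D Md) hn0
  obtain ⟨ν, χ₀, b, hb⟩ := exists_ring_base D a Md hn0
  obtain ⟨ν', χ₀', b', hb'⟩ := exists_ring_base D a Md (IsReflPt.inv D a hn0)
  have hn' : (reflOf D a Md (F := F) (frame_pre D Md) (IsReflPt.inv D a hn0)).n = d.n⁻¹ := by
    refine Md.pt_bijective.injective ?_
    exact (pt_reflOf_n D a Md (F := Md.frame D) (frame_pre D Md) (IsReflPt.inv D a hn0)).trans ((GrpObj.comp_inv _ n0).trans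
      ((congrArg (·⁻¹) (pt_reflOf_n D a Md (F := Md.frame D) (frame_pre D Md) hn0).symm).trans (Md.pt_inv d.n).symm))
  have hb'' : d.invN.Base ν' χ₀' b' := by
    show d.n⁻¹ * _ = _
    rw [← hn']
    exact hb'
  obtain ⟨κ, hκ⟩ := d.exists_conj_coord (D.P.ne_zero a)
  obtain ⟨κ', hκ'⟩ := d.invN.swap.exists_conj_coord (D.P.ne_zero _)
  have hu : κ * κ' = 1 := by
    have h1 := hκ' R 1
    rw [mul_one, show cstPt R d.invN.swap.n = (cstPt R d.n)⁻¹ from map_inv (cstPt R) d.n] at h1
    replace h1 := (congrArg (fun q => (cstPt R d.n)⁻¹ * F.rt d.invN.swap.a' (1 : R) * q) (_root_.inv_inv (cstPt R d.n))).symm.trans h1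
    change (cstPt R d.n)⁻¹ * F.rt d.a (1 : R) * cstPt R d.n = F.rt d.a' (algebraMap R R κ') at h1
    have h2 := hκ R κ'
    rw [show F.rt d.a' κ' = (cstPt R d.n)⁻¹ * F.rt d.a (1 : R) * cstPt R d.n from h1.symm] at h2
    have hg : ∀ {Γ : Type u} [Group Γ] (g h : Γ), g * (g⁻¹ * h * g) * g⁻¹ = h := fun g h => by group
    replace h2 := (hg (cstPt R d.n) (F.rt d.a (1 : R))).symm.trans h2
    exact (rt_injR F d.a h2).symm
  obtain ⟨c, hc⟩ := d.exists_dualRel (cor := (D.P.coroot' a).toAddMonoidHom)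
    (fun m => D.P.reflection_apply a m)
    (by show D.P.coroot' a (D.P.root a) = 2; rw [D.P.root_coroot'_eq_pairing, D.P.pairing_same])
    hb hb'' (κ := Units.mkOfMulEqOne κ κ' hu) hκ
  refine ⟨c, fun B _ _ x y v hv => ?_⟩
  have h := congrArg Md.pt (hc B x y v hv)
  rwa [Md.pt_mul, Md.pt_mul, Md.pt_mul, pt_rtF D Md (F := F) (frame_pre D Md), pt_rtF D Md (F := F) (frame_pre D Md),
    pt_rtF D Md (F := F) (frame_pre D Md), pt_rtF D Md (F := F) (frame_pre D Md), pt_torF D Md (F := F) (frame_pre D Md)] at h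

end Groth.Agent.RedRk29
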