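import Groth.Agent.RedRk29.BorelGroup
import Groth.Agent.BigCell29.TorusPart

/-!
# The standard Borel subgroup is closed
-/

set_option autoImplicit false
set_option linter.style.haveILetI false
set_option synthInstance.maxHeartbeats 100000

universe u

open CategoryTheory CategoryTheory.Limits MonoidalCategory CartesianMonoidalCategory AlgebraicGeometry WithConv
open scoped MonObj GrpObj AddMonoidAlgebra

noncomputable section

namespace Groth.Agent.RedRk29

open BigCell29 GrpSchLib GrpSchLib.AffineHopf Rank2Red38 RedSub30.RootPoly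

variable {S : Scheme.{u}} {G : Over S} [GrpObj G] {D : Red.SplitRed G} {b : D.P.Base}
variable {R : Type u} [CommRing R] {f : Spec (CommRingCat.of R) ⟶ S} [IsOpenImmersion f]
  {A : Type u} [CommRing A] [HopfAlgebra R A] (Md : Model f G A)
  {B : Type u} [CommRing B] [Algebra R B]

theorem pt_root_one (c : D.idx) : Md.pt ((Md.frame D).rt c (1 : B)) = U D (tObj f B) c 1 := by
  rw [Md.pt_rt]
  show GaPts.ptOfFn ((tVal f B).symm 1) ≫ D.u c = GaPts.ptOfFn 1 ≫ D.u c
  rw [map_one]

variable {m : ℕ} {epos : Fin m → D.idx}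

/-- Points of the Borel subgroup are attracted by a regular form. -/
theorem inP_of_borel {lam : D.M →+ ℤ} (hl : ∀ k, 0 < lam (D.P.root (epos k)))
    (j : tObj f B ⟶ D.T ⊗ RedSub.pow (Red.Ga S) m) {g : Pt R A B} (hg : Md.pt g = j ≫ RedSub.borelMap D epos) :
    ((Md.frame D).cochar lam).InP g := by
  set F := Md.frame D
  obtain ⟨χ, hχ⟩ := (chPt_bijective f).surjective ((j ≫ fst _ _) ≫ D.split.hom.hom.hom)
  obtain ⟨x, hx⟩ := (powPt_bijective m).surjective (j ≫ snd _ _)
  have hT : Md.pt (F.T.tor χ) = I D _ (j ≫ fst _ _) := by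
    rw [Md.pt_tor, torG, hχ]
    show _ = (j ≫ fst _ _) ≫ D.i
    rw [Category.assoc (j ≫ _), ← Category.assoc D.split.hom.hom.hom,
      show D.split.hom.hom.hom ≫ D.split.inv.hom.hom = 𝟙 D.T from
        congrArg (fun k => k.hom.hom) D.split.hom_inv_id, Category.id_comp]
  rw [comp_borelMap, ← hT, ← hx, Md.powPt_prodMap, ← Md.pt_mul] at hg
  rw [Md.pt_bijective.injective hg]
  exact Coact.InP.mul _ (Coact.InZ.inP _ (F.cochar_inZ_tor lam χ)) (F.prodPt_inU lam _ hl x).1

variable (hpos : RedSub.Enumerates (RedSub.posRoots D.P b) epos)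

theorem tObj_self_hom {L : Type u} [CommRing L] (f' : Spec (CommRingCat.of L) ⟶ S) :
    (tObj (R := L) f' L).hom = f' := by
  show Spec.map _ ≫ f' = _
  rw [show Spec.map (CommRingCat.ofHom (algebraMap L L)) = 𝟙 (Spec (CommRingCat.of L)) by
    rw [Algebra.algebraMap_self, CommRingCat.ofHom_id, Spec.map_id], Category.id_comp]

/-- The test object of a ring over its own spectrum. -/
theorem exists_self_iso {L : Type u} [CommRing L] (f' : Spec (CommRingCat.of L) ⟶ S) :
    Nonempty (tObj (R := L) f' L ≅ Over.mk f') :=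
  ⟨Over.isoMk (Iso.refl _) ((Category.id_comp _).trans (tObj_self_hom f').symm)⟩

omit [IsOpenImmersion f] in
variable (f) in
/-- An algebra over a piece of the base as a test object over its own spectrum. -/
theorem exists_self_test (L : Type u) [CommRing L] [Algebra R L] :
    Nonempty (tObj (R := L) (Spec.map (CommRingCat.ofHom (algebraMap R L)) ≫ f) L ≅ tObj f L) :=
  exists_self_iso (Spec.map (CommRingCat.ofHom (algebraMap R L)) ≫ f)

include hpos in
/-- Over an algebraically closed field the attracted points are the points of the Borel subgroup. -/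
theorem exists_borel_of_inP {lam : D.M →+ ℤ} (hlam : IsRegular D.P b lam) {L : Type u} [Field L] [IsAlgClosed L]
    [Algebra R L] {g : Pt R A L} (hg : ((Md.frame D).cochar lam).InP g) :
    ∃ y : tObj f L ⟶ D.T ⊗ RedSub.pow (Red.Ga S) m, y ≫ RedSub.borelMap D epos = Md.pt g := by
  classical
  set F := Md.frame D
  let f' : Spec (CommRingCat.of L) ⟶ S := Spec.map (CommRingCat.ofHom (algebraMap R L)) ≫ f
  let X := tObj f L
  let X' := tObj f' L
  obtain ⟨e⟩ := exists_self_test f L
  let p : X' ⟶ X := e.hom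
  let p' : X ⟶ X' := e.inv
  have hpp : p ≫ p' = 𝟙 _ := e.hom_inv_id
  have hpp' : p' ≫ p = 𝟙 _ := e.inv_hom_id
  let φ : (X ⟶ G) →* (X' ⟶ G) := MonoidHom.mk' (p ≫ ·) fun a c => MonObj.comp_mul p a c
  let H : Subgroup (X ⟶ G) :=
    { carrier := {h | ∃ g : Pt R A L, Md.pt g = h ∧ (F.cochar lam).InP g}
      one_mem' := ⟨1, Md.pt_one, Coact.inP_one _⟩
      mul_mem' := by
        rintro _ _ ⟨g₁, rfl, h₁⟩ ⟨g₂, rfl, h₂⟩
        exact ⟨g₁ * g₂, Md.pt_mul _ _, Coact.InP.mul _ h₁ h₂⟩
      inv_mem' := by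
        rintro _ ⟨g₁, rfl, h₁⟩
        exact ⟨g₁⁻¹, Md.pt_inv _, Coact.InP.inv _ h₁⟩ }
  have hepos : ∀ k, 0 < lam (D.P.root (epos k)) := fun k => (hlam.1 _).mp (hpos.2.subset ⟨k, rfl⟩)
  obtain ⟨nr, hnr⟩ := exists_realisesReflections D
  have hle : borelSub X' hpos ≤ H.map φ := by
    intro h hh
    obtain ⟨y, rfl⟩ := (mem_borelSub_iff hpos).mp hh
    obtain ⟨g', hg'⟩ := Md.pt_bijective.surjective ((p' ≫ y) ≫ RedSub.borelMap D epos)
    refine ⟨_, ⟨g', hg', inP_of_borel Md hepos _ hg'⟩, ?_⟩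
    show p ≫ _ = _
    rw [Category.assoc, ← Category.assoc p, hpp, Category.id_comp]
  by_contra hne
  have hnot : φ (Md.pt g) ∉ borelSub X' hpos := by
    intro h
    obtain ⟨y, hy⟩ := (mem_borelSub_iff hpos).mp h
    refine hne ⟨p' ≫ y, ?_⟩
    rw [Category.assoc, hy]
    show p' ≫ p ≫ _ = _
    rw [← Category.assoc, hpp', Category.id_comp]
  obtain ⟨c, hc, hcH⟩ := exists_neg_rootSub_le hpos hnr (H.map φ) hle
    (Subgroup.mem_map_of_mem φ (show Md.pt g ∈ H from ⟨g, rfl, hg⟩)) hnot
  set d := D.P.reflectionPerm c c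
  have hd : 0 < (-lam) (F.root d) := by
    show 0 < -lam (D.P.root d)
    have : lam (D.P.root d) = -lam (D.P.root c) := by
      rw [show D.P.root d = -D.P.root c from root_neg' D c, map_neg]
    rw [this, neg_neg]
    exact (hlam.1 c).mp hc
  obtain ⟨h, hh, he⟩ := hcH ⟨(1 : Γ(X'.left, ⊤)), rfl⟩
  have he' : h = U D X d 1 := by
    have h1 : p' ≫ (p ≫ h) = p' ≫ U D X' d 1 := congrArg (p' ≫ ·) he
    rwa [← Category.assoc, hpp', Category.id_comp, comp_U, map_one] at h1
  obtain ⟨g₁, hg₁, hP⟩ := hh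
  rw [he', ← pt_root_one Md] at hg₁
  rw [Md.pt_bijective.injective hg₁] at hP
  have h1 := Coact.eq_one_of_inP_inU _ hP (by rw [F.inv_cochar]; exact F.inU_rt (-lam) hd 1)
  haveI : Nontrivial Γ(X.left, ⊤) := (tVal f L).symm.injective.nontrivial
  obtain ⟨-, h4⟩ := section_ne_one D d (x := GaPts.ptOfFn 1) (by rw [GaPts.gaFn_ptOfFn]; exact isUnit_one) X
  refine h4 ?_
  have e : toUnit X ≫ GaPts.ptOfFn 1 ≫ D.u d = U D X d 1 := by
    show toUnit X ≫ U D (𝟙_ (Over S)) d 1 = _
    rw [comp_U, map_one]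
  rw [e, ← pt_root_one Md, h1, Md.pt_one]

include hpos in
theorem isClosed_range_borelMap : IsClosed (Set.range (RedSub.borelMap D epos).left.base) := by
  classical
  obtain ⟨lam, hlam⟩ := exists_isRegular D.P b
  have hepos : ∀ k, 0 < lam (D.P.root (epos k)) := fun k => (hlam.1 _).mp (hpos.2.subset ⟨k, rfl⟩)
  have : IsAffineHom G.hom := D.reductive.1
  set β := RedSub.borelMap D epos
  refine isOpen_compl_iff.mp (isOpen_iff_forall_mem_open.mpr fun z hz => ?_)
  obtain ⟨R', f', hf, A', _, _, Md', hr⟩ := exists_local_model G (S.affineCover.idx (G.hom.base z))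
  obtain ⟨s, hs⟩ : G.hom.base z ∈ Set.range f'.base := hr ▸ S.affineCover.covers (G.hom.base z)
  obtain ⟨q, hq, -⟩ := Scheme.exists_preimage_of_isPullback Md'.isPullback z s hs.symm
  haveI : IsOpenImmersion Md'.toG := MorphismProperty.of_isPullback (P := @IsOpenImmersion) Md'.isPullback.flip hf
  set F := Md'.frame D
  let V : Set (PrimeSpectrum A') := ⋃ (n : ℤ) (_ : n < 0) (a : A'), (PrimeSpectrum.basicOpen ((F.cochar lam).p n a) : Set _)
  -- the image meets the piece in the attracted locus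
  have hout : ∀ q' : Spec (CommRingCat.of A'), q' ∈ V → Md'.toG.base q' ∉ Set.range β.left.base := by
    rintro q' hq' ⟨w, hw⟩
    obtain ⟨v, hv, -⟩ := Scheme.Pullback.exists_preimage_pullback (f := Md'.toG) (g := β.left) q' w hw.symm
    let P := pullback Md'.toG β.left
    obtain ⟨ψ, hψ⟩ := Spec.map_surjective (P.fromSpecResidueField v ≫ pullback.fst Md'.toG β.left)
    let L : Type u := P.residueField v
    letI : Algebra (R' : Type u) L := (ψ.hom.comp (algebraMap (R' : Type u) A')).toAlgebra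
    let g : Pt (R' : Type u) A' L := toConv ⟨ψ.hom, fun r => rfl⟩
    let j : tObj f' L ⟶ D.T ⊗ RedSub.pow (Red.Ga S) m :=
      Over.homMk (P.fromSpecResidueField v ≫ pullback.snd Md'.toG β.left) (by
        show _ = Spec.map (CommRingCat.ofHom (algebraMap (R' : Type u) L)) ≫ f'
        rw [show CommRingCat.ofHom (algebraMap (R' : Type u) L) = CommRingCat.ofHom (algebraMap (R' : Type u) A') ≫ ψ from rfl,
          Spec.map_comp, hψ, Category.assoc, Category.assoc, Category.assoc, ← Md'.isPullback.w, ← Over.w β,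
          pullback.condition_assoc])
    have hgj : Md'.pt g = j ≫ β := Over.OverMorphism.ext (by
      rw [Md'.pt_left]
      show Spec.map ψ ≫ _ = (P.fromSpecResidueField v ≫ pullback.snd Md'.toG β.left) ≫ β.left
      rw [hψ, Category.assoc, Category.assoc, pullback.condition])
    have hP := inP_of_borel Md' hepos j hgj
    obtain ⟨n, h'⟩ := Set.mem_iUnion.mp hq'
    obtain ⟨hn, h''⟩ := Set.mem_iUnion.mp h'
    obtain ⟨a, ha⟩ := Set.mem_iUnion.mp h''
    refine ha ?_
    have h2 : (Spec.map ψ).base (IsLocalRing.closedPoint L) = q' := by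
      rw [hψ, Scheme.Hom.comp_apply, Scheme.fromSpecResidueField_apply, hv]
    rw [← h2]
    show ψ.hom ((F.cochar lam).p n a) ∈ (IsLocalRing.closedPoint L).asIdeal
    rw [show ψ.hom ((F.cochar lam).p n a) = 0 from hP a n hn]
    exact zero_mem _
  refine ⟨Md'.toG.base '' V, ?_, Md'.toG.isOpenEmbedding.isOpenMap _
    (isOpen_iUnion fun n => isOpen_iUnion fun _ => isOpen_iUnion fun a => PrimeSpectrum.isOpen_basicOpen), q, ?_, hq⟩
  · rintro _ ⟨q', hq', rfl⟩
    exact hout q' hq'
  · by_contra hV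
    apply hz
    rw [← hq]
    -- the geometric point at `q` is attracted
    let L : Type u := AlgebraicClosure (q.asIdeal.ResidueField)
    let g : Pt (R' : Type u) A' L := toConv (IsScalarTower.toAlgHom (R' : Type u) A' L)
    have hker : ∀ x ∈ q.asIdeal, (algebraMap A' L) x = 0 := fun x hx => by
      rw [IsScalarTower.algebraMap_apply A' q.asIdeal.ResidueField L,
        Ideal.algebraMap_residueField_eq_zero.mpr hx, map_zero]
    obtain ⟨y, hy⟩ := exists_borel_of_inP Md' hpos hlam (g := g) fun a n hn => hker _ (by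
      by_contra h
      exact hV (Set.mem_iUnion.mpr ⟨n, Set.mem_iUnion.mpr ⟨hn, Set.mem_iUnion.mpr ⟨a, h⟩⟩⟩))
    refine ⟨y.left.base (IsLocalRing.closedPoint L), ?_⟩
    rw [← Scheme.Hom.comp_apply, ← Over.comp_left, hy, Md'.pt_left, Scheme.Hom.comp_apply]
    congr 1
    refine PrimeSpectrum.ext (Ideal.ext fun x => ?_)
    show (algebraMap A' L) x ∈ IsLocalRing.maximalIdeal L ↔ _
    rw [IsLocalRing.maximalIdeal_eq_bot, Ideal.mem_bot, IsScalarTower.algebraMap_apply A' q.asIdeal.ResidueField L,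
      map_eq_zero, Ideal.algebraMap_residueField_eq_zero]

include hpos in
theorem isClosedImmersion_borelMap : IsClosedImmersion (RedSub.borelMap D epos).left := by
  haveI := isImmersion_borelMap hpos
  exact IsClosedImmersion.of_isPreimmersion _ (isClosed_range_borelMap hpos)

end Groth.Agent.RedRk29
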