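import Groth.Agent.RedRk29.SmoothBorel
import Groth.Agent.AGFRoot.SolvPts
import Groth.Agent.GrpSchLib.ReducedPoints

/-!
# The standard Borel subgroup is a Borel subgroup
-/

set_option autoImplicit false
set_option linter.style.haveILetI false
set_option synthInstance.maxHeartbeats 100000

universe u

open CategoryTheory CategoryTheory.Limits MonoidalCategory CartesianMonoidalCategory AlgebraicGeometry
open scoped MonObj GrpObj

noncomputable section

namespace Groth.Agent.RedRk29

open BigCell29 GrpSchLib GrpSchLib.AffineHopf DSPtsLib Rank2Red38 RedSub30.RootPoly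

variable {S : Scheme.{u}} {G : Over S} [GrpObj G] {K : Type u} [Field K] (f : Spec (CommRingCat.of K) ⟶ S)

/-- The rational points of a base change to a field are the points at the test object. -/
def fieldPts (Z : Over S) [GrpObj Z] : (𝟙_ (Over (Spec (CommRingCat.of K))) ⟶ Red.bc f Z) →* (tObj f K ⟶ Z) :=
  MonoidHom.mk' (fun p => theta f ((toUnit (Over.mk (Spec.map (CommRingCat.ofHom (algebraMap K K))))) ≫ p))
    fun a c => by rw [MonObj.comp_mul, theta_mul]

theorem fieldPts_bijective (Z : Over S) [GrpObj Z] : Function.Bijective (fieldPts f Z) := by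
  let e : 𝟙_ (Over (Spec (CommRingCat.of K))) ⟶ Over.mk (Spec.map (CommRingCat.ofHom (algebraMap K K))) :=
    Over.homMk (𝟙 (Spec (CommRingCat.of K))) (by
      show 𝟙 _ ≫ Spec.map (CommRingCat.ofHom (algebraMap K K)) = 𝟙 _
      simp)
  have hee : toUnit (Over.mk (Spec.map (CommRingCat.ofHom (algebraMap K K)))) ≫ e = 𝟙 _ := Over.OverMorphism.ext (by
    show Spec.map (CommRingCat.ofHom (algebraMap K K)) ≫ 𝟙 _ = 𝟙 _
    simp)
  have hee' : e ≫ toUnit (Over.mk (Spec.map (CommRingCat.ofHom (algebraMap K K)))) = 𝟙 _ := toUnit_unique _ _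
  refine ⟨fun a c h => ?_, fun g => ?_⟩
  · have h1 := (theta_bijective f).injective h
    have := congrArg (e ≫ ·) h1
    simpa [← Category.assoc, hee'] using this
  · obtain ⟨a, ha⟩ : ∃ a : Over.mk (Spec.map (CommRingCat.ofHom (algebraMap K K))) ⟶ Red.bc f Z,
      theta (Y := Over.mk (Spec.map (CommRingCat.ofHom (algebraMap K K)))) f a = g :=
      (theta_bijective (H := Z) f).surjective _
    exact ⟨e ≫ a, by
      show theta (Y := Over.mk (Spec.map (CommRingCat.ofHom (algebraMap K K)))) f (_ ≫ e ≫ a) = g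
      rw [reassoc_of% hee, ha]⟩

theorem fieldPts_map {Z Z' : Over S} [GrpObj Z] [GrpObj Z'] (h : Z ⟶ Z')
    (p : 𝟙_ (Over (Spec (CommRingCat.of K))) ⟶ Red.bc f Z) :
    fieldPts f Z' (p ≫ (Over.pullback f).map h) = fieldPts f Z p ≫ h := by
  show theta f _ = theta f _ ≫ h
  rw [← Category.assoc]
  exact BigCell29.theta_map f _ h

variable {D : Red.SplitRed G} {b : D.P.Base} {m : ℕ} {epos : Fin m → D.idx}
  (hpos : RedSub.Enumerates (RedSub.posRoots D.P b) epos)
  [str : GrpObj (D.T ⊗ RedSub.pow (Red.Ga S) m)] [IsMonHom (RedSub.borelMap D epos)]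

include hpos in
/-- The geometric fibres of the standard Borel subgroup are Borel subgroups. -/
theorem isBorelOver_borel [IsAlgClosed K] :
    Red.IsBorelOver K ((Over.pullback f).map (RedSub.borelMap D epos)) := by
  classical
  let X := tObj f K
  haveI : Nonempty S := ⟨X.hom.base (Classical.choice (inferInstanceAs (Nonempty (PrimeSpectrum K))))⟩
  set iK : Red.bc f (D.T ⊗ RedSub.pow (Red.Ga S) m) ⟶ Red.bc f G := (Over.pullback f).map (RedSub.borelMap D epos)
  haveI := isClosedImmersion_borelMap hpos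
  haveI hcl : IsClosedImmersion iK.left := BigCell29.isClosedImmersion_map f (RedSub.borelMap D epos)
  haveI := smooth_borelObj D m
  haveI hsm : Smooth (Red.bc f (D.T ⊗ RedSub.pow (Red.Ga S) m)).hom := MorphismProperty.pullback_snd _ _ ‹_›
  haveI hiK : IsMonHom iK := by
    show IsMonHom ((Over.pullback f).map (RedSub.borelMap D epos))
    infer_instance
  haveI : IsAffineHom G.hom := D.reductive.1
  haveI : IsAffineHom (pullback.snd G.hom f) := MorphismProperty.pullback_snd _ _ inferInstance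
  haveI : IsAffine (Red.bc f G).left := isAffine_of_isAffineHom (pullback.snd G.hom f)
  haveI : IsAffine ((Over.pullback f).obj G).left := ‹IsAffine (Red.bc f G).left›
  haveI : Smooth ((Over.pullback f).obj G).hom := MorphismProperty.pullback_snd _ _ D.reductive.2.1
  haveI hmono : Mono iK := (Over.forget _).mono_of_mono_map (f := iK) (inferInstanceAs (Mono iK.left))
  have hinj : Function.Injective fun p : 𝟙_ _ ⟶ Red.bc f (D.T ⊗ RedSub.pow (Red.Ga S) m) => fieldPts f G (p ≫ iK) :=
    fun a c h => (cancel_mono iK).mp ((fieldPts_bijective f G).injective h)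
  let φ : (𝟙_ (Over (Spec (CommRingCat.of K))) ⟶ Red.bc f (D.T ⊗ RedSub.pow (Red.Ga S) m)) →* borelSub X hpos :=
    MonoidHom.mk' (fun p => ⟨fieldPts f G (p ≫ iK), (mem_borelSub_iff hpos).mpr
        ⟨fieldPts f (D.T ⊗ RedSub.pow (Red.Ga S) m) p, (fieldPts_map f (RedSub.borelMap D epos) p).symm⟩⟩) fun a c => Subtype.ext (by
      show fieldPts f G ((a * c) ≫ iK) = _
      rw [MonObj.mul_comp, map_mul]
      rfl)
  haveI : Group.IsSolvable (borelSub X hpos) := (Group.isSolvable_def _).mpr (isSolvable_borelSub hpos)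
  haveI : Group.IsSolvable (𝟙_ (Over (Spec (CommRingCat.of K))) ⟶ Red.bc f (D.T ⊗ RedSub.pow (Red.Ga S) m)) :=
    Group.isSolvable_of_isSolvable_injective (f := φ) fun a c h => hinj (congrArg Subtype.val h)
  refine ⟨inferInstance, hcl, hsm, connected_bc_borelObj D f m, AGFRoot.isSolvableGrp_of_points, ?_⟩
  intro B' _ i' _ g hcl' hsm' _ hsolv hg
  haveI := hcl'
  haveI := hsm'
  haveI : Mono i' := (Over.forget _).mono_of_mono_map (f := i') (inferInstanceAs (Mono i'.left))
  let ψ : (𝟙_ (Over (Spec (CommRingCat.of K))) ⟶ B') →* (X ⟶ G) :=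
    MonoidHom.mk' (fun p => fieldPts f G (p ≫ i')) fun a c => by rw [MonObj.mul_comp, map_mul]
  have hle : borelSub X hpos ≤ ψ.range := by
    intro h hh
    obtain ⟨y, rfl⟩ := (mem_borelSub_iff hpos).mp hh
    obtain ⟨p, rfl⟩ := (fieldPts_bijective f (D.T ⊗ RedSub.pow (Red.Ga S) m)).surjective y
    exact ⟨p ≫ g, by show fieldPts f G ((p ≫ g) ≫ i') = _; rw [Category.assoc, hg, fieldPts_map]⟩
  have hsub : ∀ p, ψ p ∈ borelSub X hpos := by
    by_contra! hne
    obtain ⟨p, hp⟩ := hne
    obtain ⟨nr, hnr⟩ := exists_realisesReflections D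
    obtain ⟨c, hc, hcle⟩ := exists_neg_rootSub_le hpos hnr ψ.range hle ⟨p, rfl⟩ hp
    obtain ⟨n, hn⟩ := hsolv
    haveI : Nontrivial Γ(X.left, ⊤) := (tVal f K).symm.injective.nontrivial
    refine derivedSeries_ne_bot_of_opposite ?_ ψ.range ((rootSub_le_borelSub hpos hc).trans hle) hcle n ?_
    · obtain ⟨s, hs⟩ := exists_unit_pow_ne_one (k := K) (S := {2}) (Set.finite_singleton (2 : ℤ))
      refine ⟨Units.map (tVal f K).symm.toRingHom.toMonoidHom s, ?_⟩
      have h2 : IsUnit ((s : K) ^ 2 - 1) := Ne.isUnit (sub_ne_zero.mpr fun h => hs 2 rfl two_ne_zero (by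
        rw [zpow_ofNat]; exact_mod_cast h))
      simpa using h2.map (tVal f K).symm
    · refine le_bot_iff.mp ((map_derivedSeries_eq (f := ψ.rangeRestrict) ψ.rangeRestrict_surjective n).ge.trans ?_)
      rw [hn, Subgroup.map_bot]
  haveI : IsReduced B'.left := GrpSchLib.isReduced_of_smooth_field B'.hom
  obtain ⟨g', hg'⟩ := GrpSchLib.exists_fac_of_points (k := K) i' iK fun w => by
    let e : 𝟙_ (Over (Spec (CommRingCat.of K))) ⟶ Over.mk (Spec.map (CommRingCat.ofHom (algebraMap K K))) :=
      Over.homMk (𝟙 (Spec (CommRingCat.of K))) (by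
        show 𝟙 _ ≫ Spec.map (CommRingCat.ofHom (algebraMap K K)) = 𝟙 _
        simp)
    have hee : toUnit (Over.mk (Spec.map (CommRingCat.ofHom (algebraMap K K)))) ≫ e = 𝟙 _ :=
      Over.OverMorphism.ext (by
        show Spec.map (CommRingCat.ofHom (algebraMap K K)) ≫ 𝟙 _ = 𝟙 _
        simp)
    obtain ⟨p, rfl⟩ : ∃ p : 𝟙_ (Over (Spec (CommRingCat.of K))) ⟶ B', toUnit _ ≫ p = w :=
      ⟨e ≫ w, by rw [← Category.assoc, hee, Category.id_comp]⟩
    obtain ⟨y, hy⟩ := (mem_borelSub_iff hpos).mp (hsub p)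
    obtain ⟨q, rfl⟩ := (fieldPts_bijective f _).surjective y
    refine ⟨toUnit _ ≫ q, ?_⟩
    rw [Category.assoc, Category.assoc, (fieldPts_bijective f G).injective
      (show fieldPts f G (q ≫ iK) = fieldPts f G (p ≫ i') by rw [fieldPts_map, hy]; rfl)]
  exact ⟨g', (cancel_mono iK).mp (by rw [Category.assoc, hg', hg, Category.id_comp]),
    (cancel_mono i').mp (by rw [Category.assoc, hg, hg', Category.id_comp])⟩

include hpos in
theorem isBorel_borelMap : Red.IsBorel (RedSub.borelMap D epos) :=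
  ⟨inferInstance, isClosedImmersion_borelMap hpos, smooth_borelObj D m, fun s => isBorelOver_borel (Red.geomPt s) hpos⟩

end Groth.Agent.RedRk29
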