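import Groth.Agent.RedRk29.BruhatCells
import Groth.Agent.RedRk29.RankOneGlue
import Groth.Agent.RedSub30.ProdGroup
import Groth.Agent.BigCell29.Regular
import Mathlib.GroupTheory.Solvable

/-!
# The points of a standard Borel subgroup
-/

set_option autoImplicit false
set_option linter.style.haveILetI false

universe u

open CategoryTheory CategoryTheory.Limits MonoidalCategory CartesianMonoidalCategory AlgebraicGeometry
open scoped MonObj GrpObj commutatorElement

noncomputable section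

namespace Groth.Agent.RedRk29

open BigCell29 GrpSchLib Rank2Red38 RedSub30.RootPoly

/-- Derived subgroups of a subgroup generated by elements with commutators in a normalised subgroup. -/
theorem commutator_closure_le {H : Type*} [Group H] (A : Set H) (N : Subgroup H)
    (hN : ∀ a ∈ A, ∀ x ∈ N, a * x * a⁻¹ ∈ N ∧ a⁻¹ * x * a ∈ N) (hc : ∀ a ∈ A, ∀ b ∈ A, ⁅a, b⁆ ∈ N) :
    ⁅Subgroup.closure A, Subgroup.closure A⁆ ≤ N := by
  have hn : ∀ g ∈ Subgroup.closure A, ∀ x ∈ N, g * x * g⁻¹ ∈ N ∧ g⁻¹ * x * g ∈ N := by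
    intro g hg
    induction hg using Subgroup.closure_induction with
    | mem a ha => exact hN a ha
    | one => intro x hx; simpa using hx
    | mul a c _ _ iha ihc =>
      intro x hx
      refine ⟨?_, ?_⟩
      · rw [show a * c * x * (a * c)⁻¹ = a * (c * x * c⁻¹) * a⁻¹ by group]; exact (iha _ (ihc x hx).1).1
      · rw [show (a * c)⁻¹ * x * (a * c) = c⁻¹ * (a⁻¹ * x * a) * c by group]; exact (ihc _ (iha x hx).2).2
    | inv a _ iha => intro x hx; rw [inv_inv]; exact ⟨(iha x hx).2, (iha x hx).1⟩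
  rw [Subgroup.commutator_le]
  intro g hg g' hg'
  induction hg, hg' using Subgroup.closure_induction₂ with
  | mem a c ha hc' => exact hc a ha c hc'
  | one_left x hx => simp
  | one_right x hx => simp
  | mul_left x y z hx hy hz h₁ h₂ =>
    rw [show ⁅x * y, z⁆ = x * ⁅y, z⁆ * x⁻¹ * ⁅x, z⁆ by simp only [commutatorElement_def]; group]
    exact mul_mem (hn x hx _ h₂).1 h₁
  | mul_right y z x hy hz hx h₁ h₂ =>
    rw [show ⁅x, y * z⁆ = ⁅x, y⁆ * (y * ⁅x, z⁆ * y⁻¹) by simp only [commutatorElement_def]; group]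
    exact mul_mem h₁ (hn y hy _ h₂).1
  | inv_left x y hx hy h =>
    rw [show ⁅x⁻¹, y⁆ = x⁻¹ * ⁅x, y⁆⁻¹ * x by simp only [commutatorElement_def]; group]
    exact (hn x hx _ (inv_mem h)).2
  | inv_right x y hx hy h =>
    rw [show ⁅x, y⁻¹⁆ = y⁻¹ * ⁅x, y⁆⁻¹ * y by simp only [commutatorElement_def]; group]
    exact (hn y hy _ (inv_mem h)).2

variable {S : Scheme.{u}} {G : Over S} [GrpObj G] {D : Red.SplitRed G} {b : D.P.Base}

theorem word_smul_wordMap (l : List D.idx) (m : D.M) : RootData.word D.P l • m = wordMap D l m := by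
  induction l generalizing m with
  | nil => simp [RootData.word, wordMap]
  | cons a l ih =>
    rw [RootData.word_cons, mul_smul, ih, RootPairing.Equiv.reflection_smul]
    simp [wordMap]

/-- A simple word keeping the positive roots positive acts trivially. -/
theorem wordMap_eq_id_of_pos {l : List D.idx} (hl : ∀ a ∈ l, a ∈ b.support)
    (h : ∀ c ∈ RedSub.posRoots D.P b, RedSub.wordPerm D.P l c ∈ RedSub.posRoots D.P b) :
    wordMap D l.reverse = AddMonoidHom.id D.M := by
  have hΔ := simple_base D b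
  have h1 : RootData.word D.P l = 1 := hΔ.eq_one_of_pos
    (RootData.gen_le _ (RootData.word_mem_gen fun a ha => Finset.mem_coe.mpr (hl a ha)))
    (fun i hi => by rw [word_smul]; exact h i (hΔ.subset_posOf hi))
  refine AddMonoidHom.ext fun m => ?_
  have h2 := word_smul_wordMap (D := D) l m
  rw [h1, one_smul] at h2
  conv_lhs => rw [h2]
  rw [wordMap_reverse]
  try rfl

variable {m : ℕ} {epos : Fin m → D.idx} (hpos : RedSub.Enumerates (RedSub.posRoots D.P b) epos)

include hpos in
theorem exists_posClosed : ∃ lam : D.M →+ ℤ, IsRegular D.P b lam ∧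
    IsPosClosed D lam.toIntLinearMap (List.ofFn epos) := by
  obtain ⟨lam, hlam⟩ := exists_isRegular D.P b
  exact ⟨lam, hlam, IsPosClosed.of_enumerates (fun i j k hi hj hk => by
    show D.P.root k ∈ AddSubmonoid.closure _
    exact hk ▸ add_mem hi hj) (fun a ha => (hlam.1 a).mp ha) hpos⟩

include hpos in
theorem mem_ofFn_pos (c : D.idx) : c ∈ List.ofFn epos ↔ c ∈ RedSub.posRoots D.P b := by
  rw [List.mem_ofFn, ← hpos.2, Set.mem_range]

omit hpos in
theorem comp_borelMap (epos : Fin m → D.idx) {X : Over S} (y : X ⟶ D.T ⊗ RedSub.pow (Red.Ga S) m) :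
    y ≫ RedSub.borelMap D epos = I D X (y ≫ fst _ _) *
      ((y ≫ snd _ _) ≫ RedSub.prodMap (Red.Ga S) m (fun k => D.u (epos k))) := by
  rw [RedSub.borelMap, MonObj.comp_mul, Category.assoc]
  congr 1
  try exact (Category.assoc _ _ _).symm

variable (X : Over S)

/-- The points of the standard Borel subgroup. -/
def borelSub (hpos : RedSub.Enumerates (RedSub.posRoots D.P b) epos) : Subgroup (X ⟶ G) where
  carrier := {g | ∃ (t : X ⟶ D.T) (v : X ⟶ G), InProd D X (List.ofFn epos) v ∧ g = I D X t * v}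
  one_mem' := by
    obtain ⟨lam, -, hl⟩ := exists_posClosed hpos
    exact ⟨1, 1, hl.one, by simp⟩
  mul_mem' := by
    obtain ⟨lam, -, hl⟩ := exists_posClosed hpos
    rintro _ _ ⟨t, v, hv, rfl⟩ ⟨t', v', hv', rfl⟩
    refine ⟨t * t', I D X t'⁻¹ * v * (I D X t'⁻¹)⁻¹ * v', hl.mul (hl.conj_torus _ hv) hv', ?_⟩
    rw [map_mul, map_inv]
    group
  inv_mem' := by
    obtain ⟨lam, -, hl⟩ := exists_posClosed hpos
    rintro _ ⟨t, v, hv, rfl⟩
    refine ⟨t⁻¹, I D X t * v⁻¹ * (I D X t)⁻¹, hl.conj_torus _ (hl.inv hv), ?_⟩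
    rw [map_inv]
    group

variable {X}

theorem mem_borelSub_iff {g : X ⟶ G} :
    g ∈ borelSub X hpos ↔ ∃ y : X ⟶ D.T ⊗ RedSub.pow (Red.Ga S) m, y ≫ RedSub.borelMap D epos = g := by
  obtain ⟨lam, -, hl⟩ := exists_posClosed hpos
  constructor
  · rintro ⟨t, v, hv, rfl⟩
    obtain ⟨x, hx⟩ := hl.exists_lift hv
    exact ⟨lift t x, by rw [comp_borelMap, lift_fst, lift_snd, hx]⟩
  · rintro ⟨y, rfl⟩
    exact ⟨y ≫ fst _ _, _, hl.prodMap_inProd _, comp_borelMap epos y⟩

theorem torus_le_borelSub : (I D X).range ≤ borelSub X hpos := by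
  rintro _ ⟨t, rfl⟩
  obtain ⟨lam, -, hl⟩ := exists_posClosed hpos
  exact ⟨t, 1, hl.one, (mul_one _).symm⟩

theorem rootSub_le_borelSub {c : D.idx} (hc : c ∈ RedSub.posRoots D.P b) : rootSub D X c ≤ borelSub X hpos := by
  rintro _ ⟨x, rfl⟩
  obtain ⟨lam, -, hl⟩ := exists_posClosed hpos
  exact ⟨1, _, hl.U_mem ((mem_ofFn_pos hpos c).mpr hc) x, by simp⟩

omit hpos in
/-- The parametrisation of the Borel subgroup sits in the big cell. -/
theorem borelMap_eq_cell {n : ℕ} (eneg : Fin n → D.idx) (epos : Fin m → D.idx) :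
    lift (ofCoord fun _ => 0) (𝟙 _) ≫ RedSub.cellMap D eneg epos = RedSub.borelMap D epos := by
  rw [RedSub.cellMap, MonObj.comp_mul, MonObj.comp_mul, lift_fst_assoc, lift_snd_assoc, lift_snd_assoc,
    Category.id_comp, Category.id_comp, comp_prodMap, coord_ofCoord]
  refine (congrArg (· * _) ((isWeighted_wordPt D eneg).zero _)).trans ?_
  rw [one_mul]
  rfl

include hpos in
theorem isImmersion_borelMap : IsImmersion (RedSub.borelMap D epos).left := by
  obtain ⟨n, eneg, hneg⟩ := exists_enumerates D (RedSub.negRoots D.P b)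
  haveI := BigCell29.isOpenImmersion_cellMap D b hneg hpos
  set P := D.T ⊗ RedSub.pow (Red.Ga S) m
  set k : P ⟶ RedSub.pow (Red.Ga S) n ⊗ P := lift (ofCoord fun _ => 0) (𝟙 _)
  haveI : IsAffineHom (RedSub.pow (Red.Ga S) n).hom := isAffineHom_pow n
  haveI : IsSeparated (RedSub.pow (Red.Ga S) n).hom := inferInstance
  haveI : IsSeparated (snd (RedSub.pow (Red.Ga S) n) P).left :=
    MorphismProperty.of_isPullback (P := @IsSeparated) (IsPullback.of_hasPullback (RedSub.pow (Red.Ga S) n).hom P.hom)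
      inferInstance
  haveI : IsClosedImmersion (k.left ≫ (snd (RedSub.pow (Red.Ga S) n) P).left) := by
    rw [← Over.comp_left, lift_snd, Over.id_left]; infer_instance
  haveI : IsClosedImmersion k.left := IsClosedImmersion.of_comp k.left (snd (RedSub.pow (Red.Ga S) n) P).left
  rw [← borelMap_eq_cell eneg epos, Over.comp_left]
  infer_instance

include hpos in
theorem mono_borelMap : Mono (RedSub.borelMap D epos) := by
  haveI := isImmersion_borelMap hpos
  exact (Over.forget S).mono_of_mono_map (f := RedSub.borelMap D epos)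
    (inferInstanceAs (Mono (RedSub.borelMap D epos).left))

include hpos in
/-- The parametrised Borel subgroup is a group. -/
theorem exists_grpObj_borel : ∃ str : GrpObj (D.T ⊗ RedSub.pow (Red.Ga S) m),
    @IsMonHom _ _ _ _ G str.toMonObj _ (RedSub.borelMap D epos) := by
  haveI := mono_borelMap hpos
  set P := D.T ⊗ RedSub.pow (Red.Ga S) m
  set a := RedSub.borelMap D epos with ha
  have h : ∀ {Y : Over S} (y : Y ⟶ P), y ≫ a ∈ borelSub Y hpos := fun y => (mem_borelSub_iff hpos).mpr ⟨y, rfl⟩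
  obtain ⟨η', hη⟩ := (mem_borelSub_iff hpos).mp (one_mem (borelSub (𝟙_ (Over S)) hpos))
  obtain ⟨μ', hμ⟩ := (mem_borelSub_iff hpos).mp (mul_mem (h (fst P P)) (h (snd P P)))
  obtain ⟨v, hv⟩ := (mem_borelSub_iff hpos).mp (inv_mem (h (𝟙 P)))
  exact GrpSchLib.exists_grpObj_of_mono a η' (hη.trans (MonObj.one_eq_one (M := G)).symm) μ' hμ v
    (by rw [hv, Category.id_comp])

section Solvable

variable [Nonempty S]

variable (X) in
/-- The root groups of level at least `k`. -/
def levelSet (lam : D.M →+ ℤ) (k : ℤ) : Set (X ⟶ G) :=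
  ⋃ (c : D.idx) (_ : k ≤ lam (D.P.root c)), (rootSub D X c : Set (X ⟶ G))

include hpos in
/-- The points of the Borel subgroup form a solvable group. -/
theorem isSolvable_borelSub : ∃ N : ℕ, derivedSeries (borelSub X hpos) N = ⊥ := by
  classical
  obtain ⟨lam, hlam, hl⟩ := exists_posClosed hpos
  let L : ℕ → Subgroup (X ⟶ G) := fun k => Subgroup.closure (levelSet X lam ((k : ℤ) + 1))
  have hlev : ∀ (k : ℕ) (c : D.idx), (k : ℤ) + 1 ≤ lam (D.P.root c) → ∀ x, U D X c x ∈ L k := fun k c hc x =>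
    Subgroup.subset_closure (Set.mem_iUnion₂.mpr ⟨c, hc, x, rfl⟩)
  have hmono : ∀ k, L (k + 1) ≤ L k := fun k => Subgroup.closure_mono fun g hg => by
    obtain ⟨c, hc, hg⟩ := Set.mem_iUnion₂.mp hg
    exact Set.mem_iUnion₂.mpr ⟨c, by push_cast at hc; omega, hg⟩
  -- commutators of root groups
  have hcomm : ∀ (c d : D.idx), 0 < lam (D.P.root c) → 0 < lam (D.P.root d) → ∀ k : ℕ,
      (k : ℤ) + 1 ≤ lam (D.P.root c) + lam (D.P.root d) → ∀ x y, ⁅U D X c x, U D X d y⁆ ∈ L k := by
    intro c d hc hd k hk x y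
    by_cases hcd : c = d
    · subst hcd
      have : ⁅U D X c x, U D X c y⁆ = 1 := commutatorElement_eq_one_iff_mul_comm.mpr (by
        rw [← U_oneParam D c, ← U_oneParam D c, add_comm])
      rw [this]; exact one_mem _
    let s := Finset.univ.filter fun e : D.idx =>
      ∃ p q : ℕ, 1 ≤ p ∧ 1 ≤ q ∧ D.P.root e = (p : ℤ) • D.P.root c + (q : ℤ) • D.P.root d
    let e : Fin s.card → D.idx := fun k => (s.equivFin.symm k : D.idx)
    have hs : ∀ k, ∃ p q : ℕ, 1 ≤ p ∧ 1 ≤ q ∧ D.P.root (e k) = (p : ℤ) • D.P.root c + (q : ℤ) • D.P.root d :=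
      fun k => (Finset.mem_filter.mp (s.equivFin.symm k).2).2
    choose i j hi hj hij using hs
    obtain ⟨C, hC, -⟩ := exists_comm D b ((hlam.1 c).mpr hc) ((hlam.1 d).mpr hd) e i j
      (Subtype.val_injective.comp s.equivFin.symm.injective) (fun k => ⟨hi k, hj k, hij k⟩) fun e' p q hp hq h =>
        ⟨s.equivFin ⟨e', Finset.mem_filter.mpr ⟨Finset.mem_univ _, p, q, hp, hq, h⟩⟩, by simp [e]⟩
    have hprod : (List.ofFn fun k => U D X (e k) (glob X (C k) * x ^ i k * y ^ j k)).prod ∈ L k := by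
      refine list_prod_mem fun g hg => ?_
      obtain ⟨l, rfl⟩ := List.mem_ofFn.mp hg
      refine hlev k _ ?_ _
      rw [hij l, map_add, map_zsmul, map_zsmul, smul_eq_mul, smul_eq_mul]
      have := hi l
      have := hj l
      nlinarith
    have e2 : ⁅U D X c x, U D X d y⁆ =
        U D X d y * (List.ofFn fun k => U D X (e k) (glob X (C k) * x ^ i k * y ^ j k)).prod * (U D X d y)⁻¹ := by
      rw [commutatorElement_def, hC X x y]
    rw [e2]
    -- conjugate back: the generator is itself in the group of its level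
    have key : ∀ g ∈ L k, ∀ (d : D.idx), 0 < lam (D.P.root d) → ∀ y,
        U D X d y * g * (U D X d y)⁻¹ ∈ L k := by
      intro g hg d hd y
      induction hg using Subgroup.closure_induction with
      | mem g hg =>
        obtain ⟨e, he, z, rfl⟩ := Set.mem_iUnion₂.mp hg
        by_cases hde : d = e
        · subst hde
          rw [← U_oneParam D d, add_comm, U_oneParam D d, mul_inv_cancel_right]
          exact hlev k _ he z
        let s := Finset.univ.filter fun e' : D.idx =>
          ∃ p q : ℕ, 1 ≤ p ∧ 1 ≤ q ∧ D.P.root e' = (p : ℤ) • D.P.root d + (q : ℤ) • D.P.root e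
        let e' : Fin s.card → D.idx := fun k => (s.equivFin.symm k : D.idx)
        have hs : ∀ k, ∃ p q : ℕ, 1 ≤ p ∧ 1 ≤ q ∧ D.P.root (e' k) = (p : ℤ) • D.P.root d + (q : ℤ) • D.P.root e :=
          fun k => (Finset.mem_filter.mp (s.equivFin.symm k).2).2
        choose i j hi hj hij using hs
        have hepos : 0 < lam (D.P.root e) := by omega
        obtain ⟨C, hC, -⟩ := exists_comm D b ((hlam.1 d).mpr hd) ((hlam.1 e).mpr hepos) e' i j
          (Subtype.val_injective.comp s.equivFin.symm.injective) (fun k => ⟨hi k, hj k, hij k⟩) fun c p q hp hq h =>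
            ⟨s.equivFin ⟨c, Finset.mem_filter.mpr ⟨Finset.mem_univ _, p, q, hp, hq, h⟩⟩, by simp [e']⟩
        rw [hC X y z]
        refine mul_mem (hlev k _ he z) (list_prod_mem fun g hg => ?_)
        obtain ⟨l, rfl⟩ := List.mem_ofFn.mp hg
        refine hlev k _ ?_ _
        rw [hij l, map_add, map_zsmul, map_zsmul, smul_eq_mul, smul_eq_mul]
        have := hi l
        have := hj l
        nlinarith
      | one => simp
      | mul g g' _ _ h h' =>
        rw [show U D X d y * (g * g') * (U D X d y)⁻¹ =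
          (U D X d y * g * (U D X d y)⁻¹) * (U D X d y * g' * (U D X d y)⁻¹) by group]
        exact mul_mem h h'
      | inv g _ h =>
        rw [show U D X d y * g⁻¹ * (U D X d y)⁻¹ = (U D X d y * g * (U D X d y)⁻¹)⁻¹ by group]
        exact inv_mem h
    exact key _ hprod d hd y
  -- derived groups of the root groups descend the levels
  have hstep : ∀ k : ℕ, ⁅L k, L k⁆ ≤ L (k + 1) := by
    intro k
    refine commutator_closure_le _ _ (fun a ha g hg => ?_) fun a ha a' ha' => ?_
    · obtain ⟨c, hc, x, rfl⟩ := Set.mem_iUnion₂.mp ha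
      have hneg : ∀ x, (U D X c x)⁻¹ = U D X c (-x) := fun x => ((U_oneParam D c).neg x).symm
      have key : ∀ x, ∀ g ∈ L (k + 1), U D X c x * g * (U D X c x)⁻¹ ∈ L (k + 1) := by
        intro x g hg
        induction hg using Subgroup.closure_induction with
        | mem g hg =>
          obtain ⟨e, he, z, rfl⟩ := Set.mem_iUnion₂.mp hg
          have h := hcomm c e (by omega) (by omega) (k + 1) (by omega) x z
          have e3 : U D X c x * U D X e z * (U D X c x)⁻¹ = ⁅U D X c x, U D X e z⁆ * U D X e z := by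
            rw [commutatorElement_def]; group
          rw [e3]
          exact mul_mem h (hlev _ _ he z)
        | one => simp
        | mul g g' _ _ h h' =>
          rw [show U D X c x * (g * g') * (U D X c x)⁻¹ =
            (U D X c x * g * (U D X c x)⁻¹) * (U D X c x * g' * (U D X c x)⁻¹) by group]
          exact mul_mem h h'
        | inv g _ h =>
          rw [show U D X c x * g⁻¹ * (U D X c x)⁻¹ = (U D X c x * g * (U D X c x)⁻¹)⁻¹ by group]
          exact inv_mem h
      refine ⟨key x g hg, ?_⟩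
      have h := key (-x) g hg
      rwa [← hneg, inv_inv] at h
    · obtain ⟨c, hc, x, rfl⟩ := Set.mem_iUnion₂.mp ha
      obtain ⟨d, hd, y, rfl⟩ := Set.mem_iUnion₂.mp ha'
      exact hcomm c d (by omega) (by omega) (k + 1) (by push_cast; omega) x y
  -- the commutators of the Borel subgroup are unipotent
  have hT : ∀ (t : X ⟶ D.T) (c : D.idx), 0 < lam (D.P.root c) → ∀ x,
      I D X t * U D X c x * (I D X t)⁻¹ ∈ L 0 ∧ (I D X t)⁻¹ * U D X c x * I D X t ∈ L 0 := fun t c hc x => by
    refine ⟨?_, ?_⟩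
    · rw [conj_U]; exact hlev 0 c (by omega) _
    · have := conj_U D c t⁻¹ x
      rw [map_inv, inv_inv] at this
      rw [this]; exact hlev 0 c (by omega) _
  have hgen : borelSub X hpos ≤ Subgroup.closure (Set.range (I D X) ∪ levelSet X lam 1) := by
    rintro _ ⟨t, v, ⟨z, rfl⟩, rfl⟩
    refine mul_mem (Subgroup.subset_closure (Or.inl ⟨t, rfl⟩)) (list_prod_mem fun g hg => ?_)
    obtain ⟨c, hc, rfl⟩ := List.mem_map.mp hg
    exact Subgroup.subset_closure (Or.inr (Set.mem_iUnion₂.mpr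
      ⟨c, by have := (hlam.1 c).mp ((mem_ofFn_pos hpos c).mp hc); omega, z c, rfl⟩))
  have hfirst : ⁅borelSub X hpos, borelSub X hpos⁆ ≤ L 0 := by
    refine (Subgroup.commutator_mono hgen hgen).trans (commutator_closure_le _ _ (fun a ha g hg => ?_) fun a ha a' ha' => ?_)
    · have key : ∀ a' : X ⟶ G, (∀ c, 0 < lam (D.P.root c) → ∀ z, a' * U D X c z * a'⁻¹ ∈ L 0) →
          ∀ g ∈ L 0, a' * g * a'⁻¹ ∈ L 0 := by
        intro a' h g hg
        induction hg using Subgroup.closure_induction with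
        | mem g hg =>
          obtain ⟨c, hc, z, rfl⟩ := Set.mem_iUnion₂.mp hg
          exact h c (by omega) z
        | one => simp
        | mul g g' _ _ h h' =>
          rw [show a' * (g * g') * a'⁻¹ = (a' * g * a'⁻¹) * (a' * g' * a'⁻¹) by group]
          exact mul_mem h h'
        | inv g _ h =>
          rw [show a' * g⁻¹ * a'⁻¹ = (a' * g * a'⁻¹)⁻¹ by group]
          exact inv_mem h
      rcases ha with ⟨t, rfl⟩ | ha
      · refine ⟨key _ (fun c hc z => (hT t c hc z).1) g hg, ?_⟩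
        have h := key (I D X t)⁻¹ (fun c hc z => by rw [inv_inv]; exact (hT t c hc z).2) g hg
        rwa [inv_inv] at h
      · have hm : a ∈ L 0 := Subgroup.subset_closure (by simpa using ha)
        exact ⟨mul_mem (mul_mem hm hg) (inv_mem hm), mul_mem (mul_mem (inv_mem hm) hg) hm⟩
    · have hu : ∀ w ∈ levelSet X lam 1, ∃ c, 0 < lam (D.P.root c) ∧ ∃ x, U D X c x = w ∧ U D X c x ∈ L 0 := by
        intro w hw
        obtain ⟨c, hc, x, rfl⟩ := Set.mem_iUnion₂.mp hw
        exact ⟨c, by omega, x, rfl, hlev 0 c (by omega) x⟩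
      rcases ha with ⟨t, rfl⟩ | ha <;> rcases ha' with ⟨t', rfl⟩ | ha'
      · rw [← map_commutatorElement, commutatorElement_eq_one_iff_mul_comm.mpr (torus_comm D t t'), map_one]
        exact one_mem _
      · obtain ⟨c, hc, x, rfl, hx⟩ := hu _ ha'
        exact mul_mem (hT t c hc x).1 (inv_mem hx)
      · obtain ⟨c, hc, x, rfl, hx⟩ := hu _ ha
        rw [show ⁅U D X c x, I D X t'⁆ = U D X c x * (I D X t' * U D X c x * (I D X t')⁻¹)⁻¹ by
          simp only [commutatorElement_def]; group]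
        exact mul_mem hx (inv_mem (hT t' c hc x).1)
      · obtain ⟨c, hc, x, rfl, hx⟩ := hu _ ha
        obtain ⟨c', hc', x', rfl, hx'⟩ := hu _ ha'
        exact mul_mem (mul_mem (mul_mem hx hx') (inv_mem hx)) (inv_mem hx')
  obtain ⟨N, hN⟩ : ∃ N : ℕ, ∀ c, lam (D.P.root c) < (N : ℤ) + 1 := by
    haveI := Fintype.ofFinite D.idx
    exact ⟨∑ c, (lam (D.P.root c)).natAbs, fun c => by
      have := Finset.single_le_sum (f := fun c => (lam (D.P.root c)).natAbs) (fun _ _ => Nat.zero_le _)
        (Finset.mem_univ c)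
      omega⟩
  have hbot : L N = ⊥ := by
    refine le_bot_iff.mp ((Subgroup.closure_le _).mpr fun g hg => ?_)
    obtain ⟨c, hc, -⟩ := Set.mem_iUnion₂.mp hg
    exact absurd (hN c) (not_lt.mpr hc)
  have hd : ∀ n : ℕ, (derivedSeries (borelSub X hpos) (n + 1)).map (borelSub X hpos).subtype ≤ L n := by
    intro n
    induction n with
    | zero =>
      rw [derivedSeries_succ, derivedSeries_zero, Subgroup.map_commutator, ← MonoidHom.range_eq_map,
        Subgroup.range_subtype]
      exact hfirst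
    | succ n ih =>
      rw [derivedSeries_succ, Subgroup.map_commutator]
      exact (Subgroup.commutator_mono ih ih).trans (hstep n)
  refine ⟨N + 1, (Subgroup.map_eq_bot_iff_of_injective _ (borelSub X hpos).subtype_injective).mp ?_⟩
  exact le_bot_iff.mp ((hd N).trans hbot.le)

end Solvable

section Field

variable [Nonempty S] (hsq : ∃ v : Γ(X.left, ⊤)ˣ, IsUnit ((v : Γ(X.left, ⊤)) ^ 2 - 1))

include hsq in
/-- A subgroup containing two opposite root groups is not solvable. -/
theorem derivedSeries_ne_bot_of_opposite [Nontrivial Γ(X.left, ⊤)] {c : D.idx} (H : Subgroup (X ⟶ G))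
    (h₁ : rootSub D X c ≤ H) (h₂ : rootSub D X (D.P.reflectionPerm c c) ≤ H) (n : ℕ) :
    derivedSeries H n ≠ ⊥ := by
  classical
  obtain ⟨κ, hκ⟩ := exists_isDualPair D c
  set d := D.P.reflectionPerm c c
  set κ' : Γ(X.left, ⊤)ˣ := Units.map X.hom.appTop.hom.toMonoidHom κ
  let Q : Subgroup (X ⟶ G) → Prop := fun K => rootSub D X c ≤ K ∧ rootSub D X d ≤ K
  -- the coroot lies in every such subgroup
  have hav : ∀ K, Q K → ∀ v : Γ(X.left, ⊤)ˣ, I D X (av D X c v) ∈ K := by
    intro K hK v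
    let x : X ⟶ Red.Ga S := GaPts.ptOfFn (((v : Γ(X.left, ⊤)) - 1) * (κ'⁻¹ : Γ(X.left, ⊤)ˣ))
    let y : X ⟶ Red.Ga S := GaPts.ptOfFn 1
    have hv : 1 + X.hom.appTop.hom (κ : Γ(S, ⊤)) * Red.gaFn x * Red.gaFn y = v := by
      rw [GaPts.gaFn_ptOfFn, GaPts.gaFn_ptOfFn, mul_one]
      show 1 + (κ' : Γ(X.left, ⊤)) * _ = _
      rw [mul_comm ((v : Γ(X.left, ⊤)) - 1), Units.mul_inv_cancel_left, add_sub_cancel]
    obtain ⟨x', y', z, hz, -, -, h⟩ := hκ X x y (hv ▸ v.isUnit)
    rw [hv] at hz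
    have ez : z ≫ Red.DSmap S (D.P.coroot c).toAddMonoidHom ≫ D.split.inv.hom.hom ≫ D.i = I D X (av D X c v) := by
      have e : z = GmPts.ptOfUnit v := GmPts.gmFn_injective (by
        simp only
        rw [hz, ← GmPts.val_unitOfPt, GmPts.unitOfPt_ptOfUnit])
      rw [e]
      show _ = (GmPts.ptOfUnit v ≫ corootHom D c) ≫ D.i
      simp only [corootHom, Category.assoc]
    have hmem : ∀ (e : D.idx) (w : X ⟶ Red.Ga S), rootSub D X e ≤ K → w ≫ D.u e ∈ K := fun e w he =>
      he ⟨Red.gaFn w, (pt_comp_eq (D := D) e w).symm⟩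
    have e3 : I D X (av D X c v) =
        (y' ≫ D.u d)⁻¹ * ((x ≫ D.u c) * (y ≫ D.u d)) * (x' ≫ D.u c)⁻¹ := by
      rw [← ez, show (x ≫ D.u c) * (y ≫ D.u d) = (x ≫ D.u c) * (y ≫ D.u (negIdx D c)) from rfl, h]
      show _ = (y' ≫ D.u (negIdx D c))⁻¹ * _ * _
      group
    rw [e3]
    exact mul_mem (mul_mem (inv_mem (hmem d y' hK.2)) (mul_mem (hmem c x hK.1) (hmem d y hK.2)))
      (inv_mem (hmem c x' hK.1))
  have hstep : ∀ K, Q K → Q ⁅K, K⁆ := by
    intro K hK
    obtain ⟨v, hv⟩ := hsq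
    have key : ∀ (e : D.idx) (w : Γ(X.left, ⊤)ˣ), rootSub D X e ≤ K → rootVal D X e (av D X c w) = v ^ 2 →
        rootSub D X e ≤ ⁅K, K⁆ := by
      rintro e w he hw _ ⟨x, rfl⟩
      obtain ⟨r, hr⟩ := hv
      have h := Subgroup.commutator_mem_commutator (hav K hK w) (he ⟨((r⁻¹ : Γ(X.left, ⊤)ˣ) : Γ(X.left, ⊤)) * x, rfl⟩)
      rw [commutatorElement_def, conj_U, hw, ← (U_oneParam D e).neg, ← U_oneParam D e] at h
      convert h using 2
      rw [Units.val_pow_eq_pow_val]
      linear_combination (-x) * r.inv_mul + (((r⁻¹ : Γ(X.left, ⊤)ˣ) : Γ(X.left, ⊤)) * x) * hr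
    refine ⟨key c v hK.1 ?_, key d v⁻¹ hK.2 ?_⟩
    · rw [rootVal_av, D.P.pairing_same]; rfl
    · rw [show rootVal D X d (av D X c v⁻¹) = (rootVal D X c (av D X c v⁻¹))⁻¹ from rootVal_neg' D c _, rootVal_av,
        D.P.pairing_same, inv_zpow', ← zpow_neg, neg_neg]
      rfl
  have hall : ∀ n, Q ((derivedSeries H n).map H.subtype) := by
    intro n
    induction n with
    | zero => rw [derivedSeries_zero, ← MonoidHom.range_eq_map, Subgroup.range_subtype]; exact ⟨h₁, h₂⟩
    | succ n ih => rw [derivedSeries_succ, Subgroup.map_commutator]; exact hstep _ ih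
  intro hbot
  have h := (hall n).1
  rw [hbot, Subgroup.map_bot] at h
  obtain ⟨h3, h4⟩ := section_ne_one D c (x := GaPts.ptOfFn 1) (by rw [GaPts.gaFn_ptOfFn]; exact isUnit_one) X
  exact h4 (Subgroup.mem_bot.mp (h h3))

end Field

variable {nr : D.idx → (𝟙_ (Over S) ⟶ G)} (hnr : RedSub.RealisesReflections D nr)

include hnr in
/-- A subgroup of points strictly containing those of the Borel subgroup contains a negative root group. -/
theorem exists_neg_rootSub_le {L : Type u} [Field L] [IsAlgClosed L] {f : Spec (CommRingCat.of L) ⟶ S}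
    (H : Subgroup (tObj f L ⟶ G)) (hH : borelSub (tObj f L) hpos ≤ H) {g : tObj f L ⟶ G} (hg : g ∈ H)
    (hg' : g ∉ borelSub (tObj f L) hpos) :
    ∃ c ∈ RedSub.posRoots D.P b, rootSub D (tObj f L) (D.P.reflectionPerm c c) ≤ H := by
  classical
  let X := tObj f L
  haveI : Nonempty S := ⟨X.hom.base (Classical.choice (inferInstanceAs (Nonempty (PrimeSpectrum L))))⟩
  obtain ⟨n, eneg, hneg⟩ := exists_enumerates D (RedSub.negRoots D.P b)
  obtain ⟨hfield, hZ, hgen⟩ := field_pts hnr hneg hpos f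
  let B := bnData D hnr X b hfield hZ
  have hBle : B.B ≤ borelSub X hpos := by
    rintro _ ⟨u, hu, t, ht, rfl⟩
    exact mul_mem ((iSup₂_le fun c hc => rootSub_le_borelSub hpos hc :
      (⨆ (c : D.idx) (_ : c ∈ RedSub.posRoots D.P b), rootSub D X c) ≤ borelSub X hpos) hu) (torus_le_borelSub hpos ht)
  obtain ⟨l, hl, b₁, hb₁, b₂, hb₂, rfl⟩ := B.mem_cover (g := g) (hgen g)
  have hn : B.nl l ∈ H := by
    simpa [mul_assoc] using mul_mem (mul_mem (inv_mem (hH (hBle hb₁))) hg) (inv_mem (hH (hBle hb₂)))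
  have hn' : B.nl l ∉ borelSub X hpos := fun h => hg' (mul_mem (mul_mem (hBle hb₁) h) (hBle hb₂))
  obtain ⟨d, hd, hdn⟩ : ∃ d, d ∈ RedSub.posRoots D.P b ∧ B.perm l d ∉ RedSub.posRoots D.P b := by
    by_contra! h
    obtain ⟨t, ht⟩ := nl_mem_torus hnr hneg hpos (wordMap_eq_id_of_pos (l := l) hl h)
    refine hn' (torus_le_borelSub hpos ⟨toUnit X ≫ t, ?_⟩)
    show (toUnit X ≫ t) ≫ D.i = (l.map fun a => toUnit X ≫ nr a).prod
    rw [nl_eq, ht, Category.assoc]
  refine ⟨D.P.reflectionPerm (B.perm l d) (B.perm l d), ?_, ?_⟩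
  · exact (simple_base D b).neg_mem_posOf_iff.mpr hdn
  · rw [neg_neg_idx]
    intro x hx
    have h := B.nl_U (l := l) hl hx
    rw [Equiv.symm_apply_apply] at h
    have := mul_mem (mul_mem hn (hH (rootSub_le_borelSub hpos hd h))) (inv_mem hn)
    simpa [mul_assoc] using this

end Groth.Agent.RedRk29
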