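import Groth.Agent.RedRk29.BruhatGroup
import Mathlib.Algebra.Group.Submonoid.BigOperators
import Mathlib.Algebra.Group.Subgroup.Finite

/-!
# Translates of the big cell by simple unipotent elements, in a group

The abstract form of the rank-one argument: the big cell moved on the right by the opposite of a simple root subgroup
lies in the big cell and one translate of it by a non-trivial element of the simple root subgroup.
-/

namespace Groth.Agent.RedRk29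

variable {G ι : Type*} [Group G]

/-- The properties of the negative root subgroups used for the covering. -/
structure BNData.Sym (D : BNData G ι) : Prop where
  neg_neg : ∀ c, D.neg (D.neg c) = c
  split : ∀ (Q : ι → Prop), ∀ u ∈ D.Uneg, ∃ p ∈ ⨆ (c : ι) (_ : ¬ D.pos c) (_ : Q c), D.U c,
    ∃ q ∈ ⨆ (c : ι) (_ : ¬ D.pos c) (_ : ¬ Q c), D.U c, u = p * q
  conj_Ua : ∀ a c, D.simple a → ¬ D.pos c → c ≠ D.neg a → ∀ x ∈ D.U a, ∀ y ∈ D.U c,
    x * y * x⁻¹ ∈ ⨆ (d : ι) (_ : ¬ D.pos d) (_ : d ≠ D.neg a), D.U d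

namespace BNData

variable (D : BNData G ι)

/-- The big cell. -/
def cell : Set G := {g | ∃ v ∈ D.Uneg, ∃ t ∈ D.T, ∃ u ∈ D.Upos, g = v * t * u}

/-- The positive root subgroups other than that of `a`. -/
def UposA (a : ι) : Subgroup G := ⨆ (c : ι) (_ : D.pos c ∧ c ≠ a), D.U c

/-- The negative root subgroups other than that of the opposite of `a`. -/
def UnegA (a : ι) : Subgroup G := ⨆ (c : ι) (_ : ¬ D.pos c ∧ c ≠ D.neg a), D.U c

theorem UposA_eq (a : ι) : (⨆ (c : ι) (_ : D.pos c) (_ : c ≠ a), D.U c) = D.UposA a :=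
  iSup_congr fun c => by rw [iSup_and]

theorem UnegA_eq (a : ι) : (⨆ (c : ι) (_ : ¬ D.pos c) (_ : c ≠ D.neg a), D.U c) = D.UnegA a :=
  iSup_congr fun c => by rw [iSup_and]

theorem UposA_le (a : ι) : D.UposA a ≤ D.Upos := iSup₂_le fun _ hc _ hx => D.mem_Upos hc.1 hx

theorem UnegA_le (a : ι) : D.UnegA a ≤ D.Uneg :=
  iSup₂_le fun c hc _ hx => Subgroup.mem_iSup_of_mem c (Subgroup.mem_iSup_of_mem hc.1 hx)

theorem T_Uneg {t u : G} (ht : t ∈ D.T) (hu : u ∈ D.Uneg) : t * u * t⁻¹ ∈ D.Uneg :=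
  D.conj_mem (fun c hc x hx => Subgroup.mem_iSup_of_mem c (Subgroup.mem_iSup_of_mem hc (D.T_norm c t ht x hx))) hu

theorem mem_Uneg {c : ι} (hc : ¬ D.pos c) {x : G} (hx : x ∈ D.U c) : x ∈ D.Uneg :=
  Subgroup.mem_iSup_of_mem c (Subgroup.mem_iSup_of_mem hc hx)

theorem cell_right {g b : G} (hg : g ∈ D.cell) (hb : b ∈ D.B) : g * b ∈ D.cell := by
  obtain ⟨v, hv, t, ht, u, hu, rfl⟩ := hg
  obtain ⟨u', hu', t', ht', rfl⟩ := hb
  refine ⟨v, hv, t * t', mul_mem ht ht', t'⁻¹ * (u * u') * t', ?_, by group⟩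
  simpa using D.T_Upos (inv_mem ht') (mul_mem hu hu')

theorem mem_U_neg {a : ι} (ha : D.simple a) {x : G} (hx : x ∈ D.U a) :
    D.n a * x * (D.n a)⁻¹ ∈ D.U (D.neg a) ∧ (D.n a)⁻¹ * x * D.n a ∈ D.U (D.neg a) :=
  ⟨D.s_self a ha ▸ D.n_U a a ha x hx, D.s_self a ha ▸ D.n_U' ha hx⟩

theorem mem_U_of_neg {a : ι} (ha : D.simple a) {x : G} (hx : x ∈ D.U (D.neg a)) :
    D.n a * x * (D.n a)⁻¹ ∈ D.U a ∧ (D.n a)⁻¹ * x * D.n a ∈ D.U a := by
  have e : D.s a (D.neg a) = a := by rw [← D.s_self a ha, D.s_inv]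
  have h1 := D.n_U a _ ha x hx
  have h2 := D.n_U' ha hx
  rw [e] at h1 h2
  exact ⟨h1, h2⟩

theorem n_UposA {a : ι} (ha : D.simple a) {x : G} (hx : x ∈ D.UposA a) :
    D.n a * x * (D.n a)⁻¹ ∈ D.UposA a ∧ (D.n a)⁻¹ * x * D.n a ∈ D.UposA a := by
  refine ⟨D.conj_mem (fun c hc y hy => ?_) hx, ?_⟩
  · exact Subgroup.mem_iSup_of_mem _ (Subgroup.mem_iSup_of_mem (D.s_pos a c ha hc.1 hc.2) (D.n_U a c ha y hy))
  · have h := D.conj_mem (K := D.UposA a) (g := (D.n a)⁻¹) (fun c hc y hy => by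
      rw [inv_inv]
      exact Subgroup.mem_iSup_of_mem _ (Subgroup.mem_iSup_of_mem (D.s_pos a c ha hc.1 hc.2) (D.n_U' ha hy))) hx
    simpa using h

theorem Ua_UposA {a : ι} (ha : D.simple a) {x v : G} (hx : x ∈ D.U a) (hv : v ∈ D.UposA a) :
    x * v * x⁻¹ ∈ D.UposA a :=
  D.conj_mem (fun c hc y hy => D.UposA_eq a ▸ D.conj_Ua a c ha hc.1 hc.2 x hx y hy) hv

/-- The opposite root subgroup normalises the other positive ones. -/
theorem Una_UposA {a : ι} (ha : D.simple a) {y v : G} (hy : y ∈ D.U (D.neg a)) (hv : v ∈ D.UposA a) :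
    y * v * y⁻¹ ∈ D.UposA a := by
  have h := (D.n_UposA ha (D.Ua_UposA ha (D.mem_U_of_neg ha hy).1 (D.n_UposA ha hv).1)).2
  convert h using 1
  group

theorem neg_simple_notPos {a : ι} (ha : D.simple a) : ¬ D.pos (D.neg a) :=
  fun h => (D.neg_iff a).mp h (D.simple_pos a ha)

/-- A non-trivial element of a simple root subgroup times the simple reflection element is in the rank-one cell. -/
theorem mul_n_mem {a : ι} (ha : D.simple a) {x : G} (hx : x ∈ D.U a) (hx1 : x ≠ 1) :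
    ∃ s ∈ D.U (D.neg a), ∃ t ∈ D.T, ∃ x₂ ∈ D.U a, x * D.n a = s * t * x₂ := by
  have hy := (D.mem_U_neg ha hx).2
  have hy1 : (D.n a)⁻¹ * x * D.n a ≠ 1 := fun h => hx1 (by
    have := congrArg (fun g => D.n a * g * (D.n a)⁻¹) h
    simpa [mul_assoc] using this)
  obtain ⟨x₁, hx₁, t, ht, x₂, hx₂, h⟩ := D.rankOne a ha _ hy hy1
  refine ⟨_, (D.mem_U_neg ha hx₁).1, D.n a * t * (D.n a)⁻¹ * (D.n a * D.n a),
    mul_mem (D.n_T a ha t ht) (D.n_sq a ha), x₂, hx₂, ?_⟩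
  calc x * D.n a = D.n a * ((D.n a)⁻¹ * x * D.n a) := by group
    _ = _ := by rw [h]; group

variable {D}

/-- The big cell moved on the right by the opposite of a simple root subgroup. -/
theorem cell_mul_neg (hs : D.Sym) {a : ι} (ha : D.simple a) {x₀ : G} (hx₀ : x₀ ∈ D.U a) (hx₀1 : x₀ ≠ 1)
    {g y : G} (hg : g ∈ D.cell) (hy : y ∈ D.U (D.neg a)) : g * y ∈ D.cell ∨ x₀⁻¹ * (g * y) ∈ D.cell := by
  obtain ⟨v, hv, t, ht, u, hu, rfl⟩ := hg
  obtain ⟨z, hz, q, hq, rfl⟩ := D.split (fun c => c = a) u hu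
  have hza : z ∈ D.U a := (iSup₂_le fun c _ => iSup_le fun hc => hc ▸ le_refl (D.U c) :
    (⨆ (c : ι) (_ : D.pos c) (_ : c = a), D.U c) ≤ D.U a) hz
  have hqA : q ∈ D.UposA a := D.UposA_eq a ▸ hq
  have hq' : y⁻¹ * q * y ∈ D.UposA a := by simpa using D.Una_UposA ha (inv_mem hy) hqA
  by_cases hy1 : y = 1
  · exact Or.inl ⟨v, hv, t, ht, z * q, hu, by rw [hy1, mul_one]⟩
  obtain ⟨x₁, hx₁, t₁, ht₁, x₂, hx₂, hyeq⟩ := D.rankOne a ha y hy hy1
  by_cases hz1 : z * x₁ = 1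
  · right
    obtain ⟨v', hv', s, hs', rfl⟩ := hs.split (fun c => c ≠ D.neg a) v hv
    have hsa : s ∈ D.U (D.neg a) := (iSup₂_le fun c _ => iSup_le fun hc => (not_not.mp hc) ▸ le_refl (D.U c) :
      (⨆ (c : ι) (_ : ¬ D.pos c) (_ : ¬ c ≠ D.neg a), D.U c) ≤ D.U (D.neg a)) hs'
    have hv'' : (D.n a)⁻¹ * v' * D.n a ∈ D.UnegA a := by
      have h := D.conj_mem (K := D.UnegA a) (g := (D.n a)⁻¹) (P := fun c => ¬ D.pos c ∧ c ≠ D.neg a) (fun c hc w hw => by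
        rw [inv_inv]
        refine Subgroup.mem_iSup_of_mem (D.s a c) (Subgroup.mem_iSup_of_mem ?_ (D.n_U' ha hw))
        have hd : D.pos (D.neg c) ∧ D.neg c ≠ a :=
          ⟨(D.neg_iff c).mpr hc.1, fun h => hc.2 (by rw [← h, hs.neg_neg])⟩
        obtain ⟨h1, h2⟩ := D.s_pos a _ ha hd.1 hd.2
        rw [D.s_neg] at h1 h2
        exact ⟨(D.neg_iff _).mp h1, fun h => h2 (by rw [h, hs.neg_neg])⟩) (D.UnegA_eq a ▸ hv')
      simpa using h
    obtain ⟨s₁, hs₁, t₂, ht₂, x₃, hx₃, hxn⟩ := D.mul_n_mem ha (inv_mem hx₀) (by simpa using hx₀1)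
    set w := (D.n a)⁻¹ * v' * D.n a
    have hw : x₃ * w * x₃⁻¹ ∈ D.Uneg := D.UnegA_le a (D.conj_mem (fun c hc e he =>
      D.UnegA_eq a ▸ hs.conj_Ua a c ha hc.1 hc.2 x₃ hx₃ e he) hv'')
    have hs₂ := (D.mem_U_of_neg ha hsa).2
    have hT := D.n_T' ha (mul_mem ht ht₁)
    set r := (D.n a)⁻¹ * s * D.n a
    set t₃ := (D.n a)⁻¹ * (t * t₁) * D.n a
    have hb : x₃ * r * t₃ * x₂ * (y⁻¹ * q * y) ∈ D.B :=
      mul_mem (mul_mem (mul_mem (mul_mem (D.mem_B_of_Upos (D.mem_Upos (D.simple_pos a ha) hx₃))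
        (D.mem_B_of_Upos (D.mem_Upos (D.simple_pos a ha) hs₂))) (D.mem_B_of_T hT))
        (D.mem_B_of_Upos (D.mem_Upos (D.simple_pos a ha) hx₂))) (D.mem_B_of_Upos (D.UposA_le a hq'))
    have hc : s₁ * (t₂ * (x₃ * w * x₃⁻¹) * t₂⁻¹) * t₂ ∈ D.cell :=
      ⟨_, mul_mem (D.mem_Uneg (D.neg_simple_notPos ha) hs₁) (D.T_Uneg ht₂ hw), t₂, ht₂, 1, one_mem _,
        (mul_one _).symm⟩
    have e : x₀⁻¹ * (v' * s * t * (z * q) * y) =
        s₁ * (t₂ * (x₃ * w * x₃⁻¹) * t₂⁻¹) * t₂ * (x₃ * r * t₃ * x₂ * (y⁻¹ * q * y)) := by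
      calc x₀⁻¹ * (v' * s * t * (z * q) * y)
          = x₀⁻¹ * v' * s * t * (z * y) * (y⁻¹ * q * y) := by group
        _ = x₀⁻¹ * v' * s * t * (z * x₁) * t₁ * D.n a * x₂ * (y⁻¹ * q * y) := by rw [hyeq]; group
        _ = (x₀⁻¹ * D.n a) * w * r * t₃ * x₂ * (y⁻¹ * q * y) := by rw [hz1]; simp only [w, r, t₃]; group
        _ = _ := by rw [hxn]; group
    rw [e]
    exact D.cell_right hc hb
  · left
    have hzx : t * (z * x₁) * t⁻¹ ∈ D.U a := D.T_norm a t ht _ (mul_mem hza hx₁)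
    have hzx1 : t * (z * x₁) * t⁻¹ ≠ 1 := fun h => hz1 (by
      have := congrArg (fun g => t⁻¹ * g * t) h
      simpa [mul_assoc] using this)
    obtain ⟨s₁, hs₁, t₂, ht₂, x₃, hx₃, hxn⟩ := D.mul_n_mem ha hzx hzx1
    have hT := D.n_T' ha (mul_mem ht ht₁)
    set t₃ := (D.n a)⁻¹ * (t * t₁) * D.n a
    have hc : v * s₁ * t₂ ∈ D.cell :=
      ⟨_, mul_mem hv (D.mem_Uneg (D.neg_simple_notPos ha) hs₁), t₂, ht₂, 1, one_mem _, (mul_one _).symm⟩
    have hb : x₃ * t₃ * x₂ * (y⁻¹ * q * y) ∈ D.B :=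
      mul_mem (mul_mem (mul_mem (D.mem_B_of_Upos (D.mem_Upos (D.simple_pos a ha) hx₃)) (D.mem_B_of_T hT))
        (D.mem_B_of_Upos (D.mem_Upos (D.simple_pos a ha) hx₂))) (D.mem_B_of_Upos (D.UposA_le a hq'))
    have e : v * t * (z * q) * y = v * s₁ * t₂ * (x₃ * t₃ * x₂ * (y⁻¹ * q * y)) := by
      calc v * t * (z * q) * y = v * t * (z * y) * (y⁻¹ * q * y) := by group
        _ = v * t * (z * x₁) * t₁ * D.n a * x₂ * (y⁻¹ * q * y) := by rw [hyeq]; group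
        _ = v * (t * (z * x₁) * t⁻¹ * D.n a) * t₃ * x₂ * (y⁻¹ * q * y) := by simp only [t₃]; group
        _ = _ := by rw [hxn]; group
    rw [e]
    exact D.cell_right hc hb

theorem n_mem_closure {a : ι} (ha : D.simple a) (hne : ∃ x ∈ D.U a, x ≠ 1) :
    D.n a ∈ Subgroup.closure ((D.T : Set G) ∪ (D.U a : Set G) ∪ (D.U (D.neg a) : Set G)) := by
  obtain ⟨x, hx, hx1⟩ := hne
  obtain ⟨s, hs, t, ht, x₂, hx₂, h⟩ := D.mul_n_mem ha hx hx1
  have hn : D.n a = x⁻¹ * (s * t * x₂) := by rw [← h, inv_mul_cancel_left]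
  rw [hn]
  exact mul_mem (inv_mem (Subgroup.subset_closure (Or.inl (Or.inr hx))))
    (mul_mem (mul_mem (Subgroup.subset_closure (Or.inr hs)) (Subgroup.subset_closure (Or.inl (Or.inl ht))))
      (Subgroup.subset_closure (Or.inl (Or.inr hx₂))))

/-- A monoid containing non-trivial elements of all simple root subgroups moves the big cell over the generated
group. -/
theorem mem_monoid_cell (hs : D.Sym) (M : Submonoid G) (hM : ∀ a, D.simple a → ∃ x ∈ D.U a, x ≠ 1 ∧ x ∈ M)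
    {g : G} (hg : g ∈ Subgroup.closure ((D.T : Set G) ∪ ⋃ c, (D.U c : Set G))) :
    ∃ w ∈ M, w⁻¹ * g ∈ D.cell := by
  let V : Set G := {g | ∃ w ∈ M, w⁻¹ * g ∈ D.cell}
  let H : Subgroup G :=
    { carrier := {h | ∀ g, (g ∈ V → g * h ∈ V) ∧ (g ∈ V → g * h⁻¹ ∈ V)}
      one_mem' := fun g => by simp
      mul_mem' := fun {a b} ha hb g => ⟨fun hg => by rw [← mul_assoc]; exact (hb _).1 ((ha _).1 hg),
        fun hg => by rw [mul_inv_rev, ← mul_assoc]; exact (ha _).2 ((hb _).2 hg)⟩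
      inv_mem' := fun {a} ha g => ⟨(ha g).2, fun hg => by rw [inv_inv]; exact (ha g).1 hg⟩ }
  have hB : ∀ b ∈ D.B, b ∈ H := by
    refine fun b hb g => ⟨?_, ?_⟩ <;> rintro ⟨w, hw, hgc⟩ <;> refine ⟨w, hw, ?_⟩ <;> rw [← mul_assoc]
    · exact D.cell_right hgc hb
    · exact D.cell_right hgc (inv_mem hb)
  have hN : ∀ a, D.simple a → ∀ y ∈ D.U (D.neg a), y ∈ H := by
    have key : ∀ a, D.simple a → ∀ y ∈ D.U (D.neg a), ∀ g ∈ V, g * y ∈ V := by
      rintro a ha y hy g ⟨w, hw, hgc⟩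
      obtain ⟨x, hx, hx1, hxM⟩ := hM a ha
      rcases cell_mul_neg hs ha hx hx1 hgc hy with h | h
      · exact ⟨w, hw, by rwa [← mul_assoc]⟩
      · exact ⟨w * x, mul_mem hw hxM, by rw [mul_inv_rev]; simpa only [mul_assoc] using h⟩
    exact fun a ha y hy g => ⟨key a ha y hy g, key a ha _ (inv_mem hy) g⟩
  have hn : ∀ a, D.simple a → D.n a ∈ H := fun a ha => by
    obtain ⟨x, hx, hx1, -⟩ := hM a ha
    refine (Subgroup.closure_le H).mpr ?_ (n_mem_closure ha ⟨x, hx, hx1⟩)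
    rintro h ((h' | h') | h')
    · exact hB h (D.mem_B_of_T h')
    · exact hB h (D.mem_B_of_Upos (D.mem_Upos (D.simple_pos a ha) h'))
    · exact hN a ha h h'
  have hle : Subgroup.closure ((D.T : Set G) ∪ ⋃ c, (D.U c : Set G)) ≤ H := (Subgroup.closure_le _).mpr (by
    rintro h (h' | h')
    · exact hB h (D.mem_B_of_T h')
    · obtain ⟨c, hc⟩ := Set.mem_iUnion.mp h'
      obtain ⟨l, a, hl, ha, rfl⟩ := D.reach c
      have hy := D.nl_U hl hc
      rw [show (D.perm l).symm ((l.map D.s).prod a) = a from (D.perm l).symm_apply_apply a] at hy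
      have hnl : D.nl l ∈ H := list_prod_mem fun z hz => by
        obtain ⟨d, hd, rfl⟩ := List.mem_map.mp hz
        exact hn d (hl d hd)
      have := mul_mem (mul_mem hnl (hB _ (D.mem_B_of_Upos (D.mem_Upos (D.simple_pos a ha) hy)))) (inv_mem hnl)
      simpa [mul_assoc] using this)
  have h1 : (1 : G) ∈ V := ⟨1, one_mem _, ⟨1, one_mem _, 1, one_mem _, 1, one_mem _, by simp⟩⟩
  simpa [V] using ((hle hg) 1).1 h1

/-- With only the roots `±a` the big cell and one translate cover the generated group. -/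
theorem mem_cell_or_translate (hs : D.Sym) {a : ι} (ha : D.simple a) (hR : ∀ c, c = a ∨ c = D.neg a)
    {x : G} (hx : x ∈ D.U a) (hx1 : x ≠ 1) {g : G}
    (hg : g ∈ Subgroup.closure ((D.T : Set G) ∪ ⋃ c, (D.U c : Set G))) : g ∈ D.cell ∨ x⁻¹ * g ∈ D.cell := by
  have hsimple : ∀ c, D.simple c → c = a := fun c hc =>
    (hR c).resolve_right fun h => D.neg_simple_notPos ha (h ▸ D.simple_pos c hc)
  obtain ⟨l, hl, _, ⟨u₀, hu₀, t₀, ht₀, rfl⟩, b₂, hb₂, rfl⟩ := D.mem_cover hg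
  have hb₀ : u₀ * t₀ ∈ D.B := ⟨u₀, hu₀, t₀, ht₀, rfl⟩
  -- the word reduces to the empty one or to `a`
  have hred : ∀ l : List ι, (∀ c ∈ l, D.simple c) → D.nl l ∈ D.B ∨ ∃ b ∈ D.B, D.nl l = D.n a * b := by
    intro l hl
    induction l with
    | nil => exact Or.inl (by simp [BNData.nl, one_mem])
    | cons c l ih =>
      have hc := hsimple c (hl c List.mem_cons_self)
      have e : D.nl (c :: l) = D.n a * D.nl l := by simp [BNData.nl, hc]
      rcases ih (fun d hd => hl d (List.mem_cons_of_mem _ hd)) with h | ⟨b, hb, h⟩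
      · exact Or.inr ⟨_, h, e⟩
      · exact Or.inl (by rw [e, h, ← mul_assoc]; exact mul_mem (D.mem_B_of_T (D.n_sq a ha)) hb)
  have hBcell : ∀ b ∈ D.B, b ∈ D.cell := fun b hb => by
    obtain ⟨u, hu, t, ht, rfl⟩ := hb
    exact ⟨1, one_mem _, t, ht, t⁻¹ * u * t, by simpa using D.T_Upos (inv_mem ht) hu, by group⟩
  rcases hred l hl with h | ⟨b, hb, h⟩
  · exact Or.inl (hBcell _ (mul_mem (mul_mem hb₀ h) hb₂))
  · have hy1 : D.n a * x * (D.n a)⁻¹ ≠ 1 := fun e => hx1 (by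
      have h' := congrArg (fun g => (D.n a)⁻¹ * g * D.n a) e
      simpa [mul_assoc] using h')
    obtain ⟨x₁, hx₁, t₁, ht₁, x₂, hx₂, hy⟩ := D.rankOne a ha _ (D.mem_U_neg ha hx).1 hy1
    set y := D.n a * x * (D.n a)⁻¹
    have hxa : ∀ {z : G}, z ∈ D.U a → z ∈ D.B := fun hz => D.mem_B_of_Upos (D.mem_Upos (D.simple_pos a ha) hz)
    have hn : D.n a = (t₁⁻¹ * x₁⁻¹) * y * x₂⁻¹ := by rw [hy]; group
    have hfirst : u₀ * t₀ * (t₁⁻¹ * x₁⁻¹) ∈ D.cell :=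
      hBcell _ (mul_mem hb₀ (mul_mem (D.mem_B_of_T (inv_mem ht₁)) (hxa (inv_mem hx₁))))
    have hlast : x₂⁻¹ * b * b₂ ∈ D.B := mul_mem (mul_mem (hxa (inv_mem hx₂)) hb) hb₂
    have e : u₀ * t₀ * D.nl l * b₂ = u₀ * t₀ * (t₁⁻¹ * x₁⁻¹) * y * (x₂⁻¹ * b * b₂) := by
      rw [h, hn]; group
    rw [e]
    rcases cell_mul_neg hs ha hx hx1 hfirst (D.mem_U_neg ha hx).1 with h' | h'
    · exact Or.inl (D.cell_right h' hlast)
    · exact Or.inr (by simpa only [mul_assoc, y] using D.cell_right h' hlast)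

end BNData

end Groth.Agent.RedRk29
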