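import Groth.Agent.RedRk29.BruhatPts
import Groth.Agent.RedRk29.CoverGroup
import Groth.Agent.AGFRoot.IsogBase

/-!
# The opposite base, and the negative root subgroups over a field
-/

set_option autoImplicit false

open CategoryTheory MonoidalCategory CartesianMonoidalCategory AlgebraicGeometry
open scoped MonObj GrpObj

noncomputable section

namespace Groth.Agent.RedRk29

open Rank2Red38 GrpSchLib

universe u

theorem simple_opp {J M N : Type} [AddCommGroup M] [AddCommGroup N] [Fintype J] [DecidableEq J]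
    (P : RootPairing J ℤ M N) (b : P.Base) :
    RootData.Simple P ((b.support.image fun c => P.reflectionPerm c c : Finset J) : Set J) ∧
      ∀ c, P.root c ∈ AddSubmonoid.closure (P.root '' ((b.support.image fun c => P.reflectionPerm c c : Finset J) : Set J)) ↔
        -P.root c ∈ AddSubmonoid.closure (P.root '' (b.support : Set J)) := by
  have himg : P.root '' ((b.support.image fun c => P.reflectionPerm c c : Finset J) : Set J) =
      (fun x => -x) '' (P.root '' (b.support : Set J)) := by
    rw [Finset.coe_image, Set.image_image, Set.image_image]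
    exact Set.image_congr fun c _ => RootData.root_neg P c
  have hmem : ∀ x, x ∈ AddSubmonoid.closure (P.root '' ((b.support.image fun c => P.reflectionPerm c c : Finset J) : Set J)) ↔
      -x ∈ AddSubmonoid.closure (P.root '' (b.support : Set J)) := fun x => by
    rw [himg, Set.image_neg_eq_neg, AddSubmonoid.closure_neg, AddSubmonoid.mem_neg]
  refine ⟨⟨?_, fun i => ?_⟩, fun c => hmem _⟩
  · have h := (RootData.Simple.of_base b).li
    rw [Finset.coe_image]
    refine LinearIndepOn.image_of_comp (fun c => P.reflectionPerm c c) _ ?_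
    have e : (P.root : J → M) ∘ (fun c => P.reflectionPerm c c) = fun c => (-1 : ℤ) • P.root c :=
      funext fun c => by simp [RootData.root_neg]
    rw [e]
    exact h.units_smul fun _ => (-1 : ℤˣ)
  · rcases (RootData.Simple.of_base b).mem i with h | h
    · exact Or.inr ((hmem _).mpr (by rwa [neg_neg]))
    · exact Or.inl ((hmem _).mpr h)

variable {S : Scheme.{u}} {G : Over S} [GrpObj G] (D : Red.SplitRed G) (b : D.P.Base)

/-- A base whose positive roots are the negative roots of `b`. -/
theorem exists_oppBase [Nonempty S] : ∃ b' : D.P.Base,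
    (∀ c, c ∈ RedSub.posRoots D.P b' ↔ c ∉ RedSub.posRoots D.P b) ∧
      ∀ a ∈ b.support, D.P.reflectionPerm a a ∈ b'.support := by
  classical
  haveI := isReduced (D := D)
  obtain ⟨h, hc⟩ := simple_opp D.P b
  refine ⟨AGFRoot.baseOfSimple _ h, fun c => ?_, fun a ha => Finset.mem_image_of_mem _ ha⟩
  refine Iff.trans (hc c) (Iff.trans ?_ (simple_base D b).neg_mem_posOf_iff)
  show -D.P.root c ∈ AddSubmonoid.closure (D.P.root '' (b.support : Set D.idx)) ↔
    D.P.root (D.P.reflectionPerm c c) ∈ AddSubmonoid.closure (D.P.root '' (b.support : Set D.idx))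
  rw [RootData.root_neg]

theorem neg_neg_idx (c : D.idx) : D.P.reflectionPerm (D.P.reflectionPerm c c) (D.P.reflectionPerm c c) = c :=
  D.P.root.injective (by rw [RootData.root_neg, RootData.root_neg, neg_neg])

variable {nr : D.idx → (𝟙_ (Over S) ⟶ G)} (hnr : RedSub.RealisesReflections D nr) (X : Over S)
variable (hfield : ∀ x : Γ(X.left, ⊤), x ≠ 0 → IsUnit x)
variable (hZ : ∀ g : X ⟶ G, (∀ t, g * I D X t = I D X t * g) → ∃ t, g = I D X t)

theorem bnData_sym [Nonempty S] : (bnData D hnr X b hfield hZ).Sym := by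
  classical
  obtain ⟨b', hb', hs'⟩ := exists_oppBase D b
  have e : ∀ (Q : D.idx → Prop), (⨆ (c : D.idx) (_ : ¬ c ∈ RedSub.posRoots D.P b) (_ : Q c), rootSub D X c) =
      ⨆ (c : D.idx) (_ : c ∈ RedSub.posRoots D.P b') (_ : Q c), rootSub D X c := fun Q =>
    iSup_congr fun c => by simp only [hb']
  refine ⟨neg_neg_idx D, fun Q u hu => ?_, ?_⟩
  · show ∃ p ∈ ⨆ (c : D.idx) (_ : ¬ c ∈ RedSub.posRoots D.P b) (_ : Q c), rootSub D X c,
      ∃ q ∈ ⨆ (c : D.idx) (_ : ¬ c ∈ RedSub.posRoots D.P b) (_ : ¬ Q c), rootSub D X c, u = p * q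
    rw [e, e]
    refine split_pos D X b' Q ?_
    have : (⨆ (c : D.idx) (_ : ¬ c ∈ RedSub.posRoots D.P b), rootSub D X c) =
        ⨆ (c : D.idx) (_ : c ∈ RedSub.posRoots D.P b'), rootSub D X c := iSup_congr fun c => by simp only [hb']
    exact this ▸ hu
  · intro a c ha hc hca x hx y hy
    set B := bnData D hnr X b hfield hZ
    have hy' := B.n_U' ha hy
    obtain ⟨x', hx'⟩ := (B.mem_U_neg ha hx).2
    have hpos : B.pos (B.neg c) ∧ B.neg c ≠ a :=
      ⟨(B.neg_iff c).mpr hc, fun h => hca (h ▸ (neg_neg_idx D c).symm)⟩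
    obtain ⟨h1, h2⟩ := B.s_pos a _ ha hpos.1 hpos.2
    rw [B.s_neg] at h1 h2
    obtain ⟨y', hy''⟩ := hy'
    have h := comm_simple D X b' (hs' a ha) ((hb' _).mpr ((B.neg_iff _).mp h1))
      (fun h => h2 (by
        show B.neg (B.s a c) = a
        exact (congrArg B.neg h).trans (neg_neg_idx D a))) x' y'
    change U D X (B.neg a) x' * U D X (B.s a c) y' * (U D X (B.neg a) x')⁻¹ ∈ _ at h
    rw [hx', hy'', ← e] at h
    have h' : B.n a * ((B.n a)⁻¹ * x * B.n a * ((B.n a)⁻¹ * y * B.n a) * ((B.n a)⁻¹ * x * B.n a)⁻¹) * (B.n a)⁻¹ ∈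
        ⨆ (d : D.idx) (_ : ¬ d ∈ RedSub.posRoots D.P b) (_ : d ≠ D.P.reflectionPerm a a), rootSub D X d := by
      refine B.conj_mem (P := fun d => ¬ B.pos d ∧ d ≠ B.neg a) (fun d hd z hz => ?_) ?_
      · have hpos : B.pos (B.neg d) ∧ B.neg d ≠ a :=
          ⟨(B.neg_iff d).mpr hd.1, fun h => hd.2 (h ▸ (neg_neg_idx D d).symm)⟩
        obtain ⟨g1, g2⟩ := B.s_pos a _ ha hpos.1 hpos.2
        rw [B.s_neg] at g1 g2
        exact Subgroup.mem_iSup_of_mem (B.s a d) (Subgroup.mem_iSup_of_mem ((B.neg_iff _).mp g1)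
          (Subgroup.mem_iSup_of_mem (fun h => g2 (by rw [h]; exact neg_neg_idx D a)) (B.n_U a d ha z hz)))
      · convert h using 1
        exact iSup_congr fun d => by rw [iSup_and]; rfl
    convert h' using 1
    · rfl
    · group

end Groth.Agent.RedRk29
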