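import Groth.Agent.RedRk29.BruhatField
import Groth.Agent.RedRk29.OppBase

/-!
# The Bruhat decomposition
-/

set_option autoImplicit false

universe u

open CategoryTheory CategoryTheory.Limits MonoidalCategory CartesianMonoidalCategory AlgebraicGeometry
open scoped MonObj GrpObj

noncomputable section

namespace Groth.Agent.RedRk29

open BigCell29 GrpSchLib Rank2Red38 RedSub30.RootPoly

variable {S : Scheme.{u}} {G : Over S} [GrpObj G] {D : Red.SplitRed G} {b : D.P.Base}
variable {nr : D.idx → (𝟙_ (Over S) ⟶ G)} (hnr : RedSub.RealisesReflections D nr)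

theorem nl_eq (X : Over S) (l : List D.idx) :
    (l.map fun a => toUnit X ≫ nr a).prod = toUnit X ≫ (l.map nr).prod := by
  induction l with
  | nil => simp [MonObj.comp_one]
  | cons a l ih => simp only [List.map_cons, List.prod_cons, MonObj.comp_mul, ih]

theorem word_smul (l : List D.idx) (c : D.idx) :
    RootData.word D.P l • c = RedSub.wordPerm D.P l c := by
  induction l with
  | nil => simp [RootData.word, RedSub.wordPerm]
  | cons a l ih =>
    rw [RootData.word_cons, mul_smul, ih, RootData.refl_smul_idx]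
    simp [RedSub.wordPerm]

variable (D b) in
/-- A word exchanging the positive and the negative roots. -/
theorem exists_longest [Nonempty S] : ∃ l : List D.idx, (∀ a ∈ l, a ∈ b.support) ∧
    ∀ c, c ∈ RedSub.posRoots D.P b → (RedSub.wordPerm D.P l).symm c ∉ RedSub.posRoots D.P b := by
  classical
  haveI := isReduced (D := D)
  obtain ⟨b', hb', -⟩ := exists_oppBase D b
  have h1 := (simple_base D b).posOf_isPosSys
  have h2 := (simple_base D b').posOf_isPosSys
  obtain ⟨g, hg, himg⟩ := RootData.exists_smul_posSys h2 h1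
  rw [← (simple_base D b).gen_eq_weylGroup] at hg
  obtain ⟨l, hl, rfl⟩ := RootData.exists_word hg
  refine ⟨l, fun a ha => Finset.mem_coe.mp (hl a ha), fun c hc => ?_⟩
  obtain ⟨d, hd, rfl⟩ : c ∈ (RootData.word D.P l • ·) '' RootD.posOf D.P (b'.support : Set D.idx) := by
    rw [himg]; exact hc
  show (RedSub.wordPerm D.P l).symm (RootData.word D.P l • d) ∉ _
  rw [word_smul, Equiv.symm_apply_apply]
  exact (hb' d).mp hd

theorem BNData.nl_inv {H J : Type*} [Group H] (B : BNData H J) {l : List J} (hl : ∀ a ∈ l, B.simple a) :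
    ∃ t ∈ B.T, (B.nl l)⁻¹ = B.nl l.reverse * t := by
  induction l with
  | nil => exact ⟨1, one_mem _, by simp [BNData.nl]⟩
  | cons a l ih =>
    have ha := hl a List.mem_cons_self
    obtain ⟨t, ht, h⟩ := ih fun x hx => hl x (List.mem_cons_of_mem _ hx)
    refine ⟨(B.n a)⁻¹ * t * B.n a * (B.n a * B.n a)⁻¹, mul_mem (B.n_T' ha ht) (inv_mem (B.n_sq a ha)), ?_⟩
    simp only [BNData.nl, List.map_cons, List.prod_cons, List.reverse_cons, List.map_append, List.map_nil,
      List.prod_append, List.prod_nil, mul_one, mul_inv_rev] at h ⊢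
    rw [h]
    group

variable {m : ℕ} {epos : Fin m → D.idx} (hpos : RedSub.Enumerates (RedSub.posRoots D.P b) epos)

theorem comp_bruhatMap {X : Over S} {l : List D.idx} {k : ℕ} {e : Fin k → D.idx}
    (y : X ⟶ RedSub.pow (Red.Ga S) k) (t : X ⟶ D.T) (x : X ⟶ RedSub.pow (Red.Ga S) m) :
    lift y (lift t x) ≫ RedSub.bruhatMap D nr l e epos =
      (y ≫ RedSub.prodMap (Red.Ga S) k (fun j => D.u (e j))) * ((toUnit X ≫ (l.map nr).prod) *
        (I D X t * (x ≫ RedSub.prodMap (Red.Ga S) m (fun j => D.u (epos j))))) := by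
  rw [RedSub.bruhatMap, MonObj.comp_mul, MonObj.comp_mul, MonObj.comp_mul, lift_fst_assoc,
    ← Category.assoc (lift y (lift t x)) (toUnit _), toUnit_unique (_ ≫ toUnit _) (toUnit X), lift_snd_assoc,
    lift_fst_assoc, lift_snd_assoc, lift_snd_assoc]
  rfl

include hnr hpos in
/-- Every point over an algebraically closed field lies in a Bruhat cell. -/
theorem exists_bruhat_field {L : Type u} [Field L] [IsAlgClosed L] {f : Spec (CommRingCat.of L) ⟶ S}
    (g : tObj f L ⟶ G) : ∃ (l : List D.idx) (k : ℕ) (e : Fin k → D.idx),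
      RedSub.Enumerates (RedSub.negMeetNeg D.P b (RedSub.wordPerm D.P l)) e ∧
        ∃ y, y ≫ RedSub.bruhatMap D nr l e epos = g := by
  classical
  let X := tObj f L
  haveI : Nonempty S := ⟨X.hom.base (Classical.choice (inferInstanceAs (Nonempty (PrimeSpectrum L))))⟩
  obtain ⟨n, eneg, hneg⟩ := exists_enumerates D (RedSub.negRoots D.P b)
  obtain ⟨hfield, hZ, hgen⟩ := field_pts hnr hneg hpos f
  let B := bnData D hnr X b hfield hZ
  obtain ⟨l₀, hl₀, hflip⟩ := exists_longest D b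
  have hclo : g ∈ Subgroup.closure ((B.T : Set (X ⟶ G)) ∪ ⋃ c, (B.U c : Set (X ⟶ G))) := hgen g
  have hn₀ : ∀ a, B.simple a → B.n a ∈ Subgroup.closure ((B.T : Set (X ⟶ G)) ∪ ⋃ c, (B.U c : Set (X ⟶ G))) :=
    fun a _ => hgen _
  obtain ⟨l, hl, _, ⟨u₁, hu₁, t₁, ht₁, rfl⟩, b₂, hb₂, hdec⟩ :=
    B.mem_cover (mul_mem (list_prod_mem (l := l₀.map B.n) fun z hz => by
      obtain ⟨a, ha, rfl⟩ := List.mem_map.mp hz
      exact hn₀ a (hl₀ a ha)) hclo)
  obtain ⟨τ, hτ, hinv⟩ := B.nl_inv (l := l₀) hl₀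
  set l₁ := l₀.reverse ++ l
  have hl₁ : ∀ a ∈ l₁, B.simple a := fun a ha => (List.mem_append.mp ha).elim
    (fun h => hl₀ a (List.mem_reverse.mp h)) (hl a)
  -- the left factor is negative
  have hv : (B.nl l₀)⁻¹ * u₁ * B.nl l₀ ∈ B.Uneg := by
    have := B.conj_mem (K := B.Uneg) (g := (B.nl l₀)⁻¹) (fun c hc x hx => by
      rw [inv_inv]
      exact B.mem_Uneg (hflip c hc) (B.nl_U hl₀ hx)) hu₁
    simpa using this
  obtain ⟨p, hp, q, hq, hpq⟩ := (bnData_sym D b hnr X hfield hZ).split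
    (fun c => ¬ B.pos ((B.perm l₁).symm c)) _ hv
  have hq' : (B.nl l₁)⁻¹ * q * B.nl l₁ ∈ B.Upos := by
    have := B.conj_mem (K := B.Upos) (g := (B.nl l₁)⁻¹) (P := fun c => ¬ B.pos c ∧ ¬¬ B.pos ((B.perm l₁).symm c))
      (fun c hc x hx => by
        rw [inv_inv]
        exact B.mem_Upos (not_not.mp hc.2) (B.nl_U hl₁ hx))
      (show q ∈ ⨆ (c : D.idx) (_ : ¬ B.pos c ∧ ¬¬ B.pos ((B.perm l₁).symm c)), B.U c by
        convert hq using 1
        exact iSup_congr fun c => by rw [iSup_and])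
    simpa using this
  have hT1 : (B.nl l)⁻¹ * (τ * t₁) * B.nl l ∈ B.T := B.nl_T hl (mul_mem hτ ht₁)
  obtain ⟨u₂, hu₂, _, ⟨t₂, rfl⟩, hb⟩ := mul_mem (mul_mem (B.mem_B_of_Upos hq') (B.mem_B_of_T hT1)) hb₂
  have hu₂' : (I D X t₂)⁻¹ * u₂ * I D X t₂ ∈ B.Upos := by
    simpa using B.T_Upos (inv_mem (show I D X t₂ ∈ B.T from ⟨t₂, rfl⟩)) hu₂
  have hnl₁ : B.nl l₁ = B.nl l₀.reverse * B.nl l := by simp [l₁, BNData.nl, List.map_append, List.prod_append]
  have hg : g = p * (B.nl l₁ * (I D X t₂ * ((I D X t₂)⁻¹ * u₂ * I D X t₂))) := by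
    calc g = (B.nl l₀)⁻¹ * (u₁ * t₁ * B.nl l * b₂) := by rw [← hdec]; simp [BNData.nl, mul_assoc]
      _ = ((B.nl l₀)⁻¹ * u₁ * B.nl l₀) * (B.nl l₀)⁻¹ * t₁ * B.nl l * b₂ := by group
      _ = p * (B.nl l₁ * ((B.nl l₁)⁻¹ * q * B.nl l₁ * ((B.nl l)⁻¹ * (τ * t₁) * B.nl l) * b₂)) := by
        rw [hpq, hinv, hnl₁]; group
      _ = _ := by rw [hb]; group
  -- lift to the cell
  obtain ⟨k, e, he⟩ := exists_enumerates D (RedSub.negMeetNeg D.P b (RedSub.wordPerm D.P l₁))
  obtain ⟨lam, -, hlam⟩ := exists_form_posRoots D b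
  have hmem : ∀ c, c ∈ List.ofFn e ↔ c ∈ RedSub.negMeetNeg D.P b (RedSub.wordPerm D.P l₁) := fun c => by
    rw [List.mem_ofFn, ← he.2, Set.mem_range]
  have hln : IsPosClosed D (-lam) (List.ofFn e) :=
    IsPosClosed.of_enumerates (fun i j k hi hj hk => by
      refine ⟨?_, ?_⟩
      · show -D.P.root k ∈ AddSubmonoid.closure _
        rw [← hk, neg_add]
        exact add_mem hi.1 hj.1
      · show -D.P.root ((RedSub.wordPerm D.P l₁).symm k) ∈ AddSubmonoid.closure _
        have hadd : D.P.root ((RedSub.wordPerm D.P l₁).symm k) =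
            D.P.root ((RedSub.wordPerm D.P l₁).symm i) + D.P.root ((RedSub.wordPerm D.P l₁).symm j) := by
          have hinj : Function.Injective (wordMap D l₁) := fun a c hac => by
            have := congrArg (wordMap D l₁.reverse) hac
            rwa [wordMap_reverse, wordMap_reverse] at this
          apply hinj
          rw [map_add, ← root_wordPerm, ← root_wordPerm, ← root_wordPerm]
          simp only [Equiv.apply_symm_apply]
          exact hk.symm
        rw [hadd, neg_add]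
        exact add_mem hi.2 hj.2) (fun c hc => by
      have h : D.P.reflectionPerm c c ∈ RedSub.posRoots D.P b := by
        show D.P.root (D.P.reflectionPerm c c) ∈ AddSubmonoid.closure _
        rw [RootData.root_neg]
        exact hc.1
      have h' := hlam _ h
      rw [RootData.root_neg, map_neg] at h'
      simpa using h') he
  obtain ⟨y, hy⟩ := hln.exists_lift
    ((iSup₂_le fun c hc => iSup_le fun hc' => by
        rintro _ ⟨z, rfl⟩
        exact hln.U_mem ((hmem c).mpr ⟨(neg_iff_not_pos D b c).mpr hc, (neg_iff_not_pos D b _).mpr hc'⟩) z :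
      (⨆ (c : D.idx) (_ : ¬ B.pos c) (_ : ¬ B.pos ((B.perm l₁).symm c)), B.U c) ≤ prodSub D X hln) hp)
  have hlp : IsPosClosed D lam (List.ofFn epos) :=
    IsPosClosed.of_enumerates (fun i j k hi hj hk => by
      show D.P.root k ∈ AddSubmonoid.closure _
      exact hk ▸ add_mem hi hj) hlam hpos
  obtain ⟨x, hx⟩ := hlp.exists_lift
    ((iSup₂_le fun c hc => by
        rintro _ ⟨z, rfl⟩
        exact hlp.U_mem (by rw [List.mem_ofFn, ← Set.mem_range, hpos.2]; exact hc) z :
      (⨆ (c : D.idx) (_ : c ∈ RedSub.posRoots D.P b), rootSub D X c) ≤ prodSub D X hlp) hu₂')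
  refine ⟨l₁, k, e, he, lift y (lift t₂ x), ?_⟩
  rw [comp_bruhatMap, hy, hx, hg, ← nl_eq X l₁]
  rfl

include hnr hpos in
/-- The Bruhat cells of different Weyl elements are disjoint on points over an algebraically closed field. -/
theorem bruhat_unique_field {L : Type u} [Field L] [IsAlgClosed L] {f : Spec (CommRingCat.of L) ⟶ S}
    {l l' : List D.idx} {k k' : ℕ} {e : Fin k → D.idx} {e' : Fin k' → D.idx}
    (he : RedSub.Enumerates (RedSub.negMeetNeg D.P b (RedSub.wordPerm D.P l)) e)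
    (he' : RedSub.Enumerates (RedSub.negMeetNeg D.P b (RedSub.wordPerm D.P l')) e')
    (z : tObj f L ⟶ RedSub.pow (Red.Ga S) k ⊗ (D.T ⊗ RedSub.pow (Red.Ga S) m))
    (z' : tObj f L ⟶ RedSub.pow (Red.Ga S) k' ⊗ (D.T ⊗ RedSub.pow (Red.Ga S) m))
    (h : z ≫ RedSub.bruhatMap D nr l e epos = z' ≫ RedSub.bruhatMap D nr l' e' epos) :
    RedSub.wordPerm D.P l = RedSub.wordPerm D.P l' := by
  classical
  let X := tObj f L
  let o : X.left := Classical.choice (inferInstanceAs (Nonempty (PrimeSpectrum L)))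
  haveI : Nonempty S := ⟨X.hom.base o⟩
  haveI : Nonempty X.left := ⟨o⟩
  obtain ⟨n, eneg, hneg⟩ := exists_enumerates D (RedSub.negRoots D.P b)
  obtain ⟨hfield, hZ, -⟩ := field_pts hnr hneg hpos f
  let B := bnData D hnr X b hfield hZ
  obtain ⟨y, t, x, rfl⟩ : ∃ y t x, z = lift y (lift t x) := ⟨z ≫ fst _ _, z ≫ snd _ _ ≫ fst _ _, z ≫ snd _ _ ≫ snd _ _,
    CartesianMonoidalCategory.hom_ext _ _ (by simp) (CartesianMonoidalCategory.hom_ext _ _ (by simp) (by simp))⟩
  obtain ⟨y', t', x', rfl⟩ : ∃ y t x, z' = lift y (lift t x) := ⟨z' ≫ fst _ _, z' ≫ snd _ _ ≫ fst _ _,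
    z' ≫ snd _ _ ≫ snd _ _,
    CartesianMonoidalCategory.hom_ext _ _ (by simp) (CartesianMonoidalCategory.hom_ext _ _ (by simp) (by simp))⟩
  rw [comp_bruhatMap, comp_bruhatMap] at h
  set u := y ≫ RedSub.prodMap (Red.Ga S) k (fun j => D.u (e j))
  set u' := y' ≫ RedSub.prodMap (Red.Ga S) k' (fun j => D.u (e' j))
  set w := x ≫ RedSub.prodMap (Red.Ga S) m (fun j => D.u (epos j))
  set w' := x' ≫ RedSub.prodMap (Red.Ga S) m (fun j => D.u (epos j))
  set N := toUnit X ≫ (l.map nr).prod with hN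
  set N' := toUnit X ≫ (l'.map nr).prod with hN'
  have hword : ∀ {k : ℕ} (e : Fin k → D.idx) (P : D.idx → Prop) (y : X ⟶ RedSub.pow (Red.Ga S) k), (∀ j, P (e j)) →
      y ≫ RedSub.prodMap (Red.Ga S) k (fun j => D.u (e j)) ∈ ⨆ (c : D.idx) (_ : P c), rootSub D X c := by
    intro k e P y hP
    rw [comp_prodMap, wordPt]
    refine list_prod_mem fun v hv => ?_
    obtain ⟨j, rfl⟩ := List.mem_ofFn.mp hv
    exact Subgroup.mem_iSup_of_mem (e j) (Subgroup.mem_iSup_of_mem (hP j) ⟨_, rfl⟩)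
  have hu : u ∈ B.Uneg := hword e _ y fun j => (neg_iff_not_pos D b _).mp (he.2.subset ⟨j, rfl⟩).1
  have hu' : u' ∈ B.Uneg := hword e' _ y' fun j => (neg_iff_not_pos D b _).mp (he'.2.subset ⟨j, rfl⟩).1
  have hw : w ∈ B.Upos := hword epos _ x fun j => hpos.2.subset ⟨j, rfl⟩
  have hw' : w' ∈ B.Upos := hword epos _ x' fun j => hpos.2.subset ⟨j, rfl⟩
  -- transport through the second word
  have hconj : ∀ c z, z ∈ B.U c → N'⁻¹ * z * N' ∈ B.U ((RedSub.wordPerm D.P l').symm c) := by
    intro c z hz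
    have key : ∀ (l : List D.idx) (c : D.idx) (z : X ⟶ G), z ∈ B.U c →
        (toUnit X ≫ (l.map nr).prod)⁻¹ * z * (toUnit X ≫ (l.map nr).prod) ∈ B.U ((RedSub.wordPerm D.P l).symm c) := by
      intro l
      induction l with
      | nil => intro c z hz; simpa [RedSub.wordPerm, MonObj.comp_one, Equiv.Perm.one_def] using hz
      | cons a l ih =>
        intro c z hz
        obtain ⟨κ, hκ⟩ := conj_root D (realisesReflections_inv D hnr) a c
        obtain ⟨v, rfl⟩ := hz
        have h := hκ X v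
        rw [GrpObj.comp_inv, inv_inv] at h
        have := ih (D.P.reflectionPerm a c) _ ⟨_, h.symm⟩
        have ec : (RedSub.wordPerm D.P (a :: l)).symm c = (RedSub.wordPerm D.P l).symm (D.P.reflectionPerm a c) := by
          rw [Equiv.symm_apply_eq]
          simp [RedSub.wordPerm, D.P.reflectionPerm_self]
        rw [ec]
        convert this using 1
        simp only [List.map_cons, List.prod_cons, MonObj.comp_mul]
        group
    exact key l' c z hz
  obtain ⟨p, hp, q, hq, hpq⟩ := (bnData_sym D b hnr X hfield hZ).split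
    (fun c => ¬ B.pos ((RedSub.wordPerm D.P l').symm c)) _ (mul_mem (inv_mem hu) hu')
  have hp' : N'⁻¹ * p * N' ∈ B.Uneg := by
    have := B.conj_mem (K := B.Uneg) (g := N'⁻¹) (P := fun c => ¬ B.pos c ∧ ¬ B.pos ((RedSub.wordPerm D.P l').symm c))
      (fun c hc z hz => by rw [inv_inv]; exact B.mem_Uneg hc.2 (hconj c z hz))
      (show p ∈ ⨆ (c : D.idx) (_ : ¬ B.pos c ∧ ¬ B.pos ((RedSub.wordPerm D.P l').symm c)), B.U c by
        convert hp using 1
        exact iSup_congr fun c => by rw [iSup_and])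
    simpa using this
  have hq' : N'⁻¹ * q * N' ∈ B.Upos := by
    have := B.conj_mem (K := B.Upos) (g := N'⁻¹) (P := fun c => ¬ B.pos c ∧ ¬¬ B.pos ((RedSub.wordPerm D.P l').symm c))
      (fun c hc z hz => by rw [inv_inv]; exact B.mem_Upos (not_not.mp hc.2) (hconj c z hz))
      (show q ∈ ⨆ (c : D.idx) (_ : ¬ B.pos c ∧ ¬¬ B.pos ((RedSub.wordPerm D.P l').symm c)), B.U c by
        convert hq using 1
        exact iSup_congr fun c => by rw [iSup_and])
    simpa using this
  set p' := N'⁻¹ * p * N' with hp'def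
  set q' := N'⁻¹ * q * N' with hq'def
  -- the quotient of the words is in the big cell
  have hcell : N'⁻¹ * N ∈ B.cell := by
    have hBmem : q' * (I D X t' * w') * (I D X t * w)⁻¹ ∈ B.B :=
      mul_mem (mul_mem (B.mem_B_of_Upos hq') (mul_mem (B.mem_B_of_T ⟨t', rfl⟩) (B.mem_B_of_Upos hw')))
        (inv_mem (mul_mem (B.mem_B_of_T ⟨t, rfl⟩) (B.mem_B_of_Upos hw)))
    have e1 : N'⁻¹ * N = p' * (q' * (I D X t' * w') * (I D X t * w)⁻¹) := by
      have h3 : N = u⁻¹ * (u' * (N' * (I D X t' * w'))) * (I D X t * w)⁻¹ := by rw [← h]; simp only [X]; group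
      rw [h3, hp'def, hq'def]
      calc N'⁻¹ * (u⁻¹ * (u' * (N' * (I D X t' * w'))) * (I D X t * w)⁻¹)
          = N'⁻¹ * (u⁻¹ * u') * N' * (I D X t' * w') * (I D X t * w)⁻¹ := by group
        _ = _ := by rw [hpq]; group
    rw [e1]
    exact B.cell_right ⟨p', hp', 1, one_mem _, 1, one_mem _, by simp⟩ hBmem
  obtain ⟨zc, hzc⟩ := cell_factor hneg hpos hnr X hfield hZ hcell
  have hT : zc ≫ RedSub.cellMap D eneg epos = (zc ≫ snd _ _ ≫ fst _ _) ≫ D.i :=
    torus_of_comm_cell hneg hpos zc fun s => by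
      obtain ⟨s₁, hs₁⟩ : ∃ s₁, N * I D X s * N⁻¹ = I D X s₁ :=
        ⟨s ≫ D.split.hom.hom.hom ≫ Red.DSmap S (wordMap D l.reverse) ≫ D.split.inv.hom.hom, by
          rw [hN, conj_word hnr l X s]; simp only [actT, ← Category.assoc]; rfl⟩
      obtain ⟨s₂, hs₂⟩ := conj_word_inv hnr l' X s₁
      refine ⟨s₂, ?_⟩
      rw [hzc]
      show N'⁻¹ * N * I D X s * (N'⁻¹ * N)⁻¹ = I D X s₂
      rw [← hs₂, ← hs₁]
      simp only [hN']
      group
  rw [hzc] at hT
  set t₀ := zc ≫ snd _ _ ≫ fst _ _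
  have hNN : N = N' * I D X t₀ := by rw [show I D X t₀ = N'⁻¹ * N from hT.symm, mul_inv_cancel_left]
  refine wordPerm_eq_of_wordMap D (actT_inj (D := D) (X' := X) fun Y π s => ?_)
  rw [← conj_word hnr l Y s, ← conj_word hnr l' Y s]
  have e : toUnit Y ≫ (l.map nr).prod = (toUnit Y ≫ (l'.map nr).prod) * I D Y (π ≫ t₀) := by
    have := congrArg (π ≫ ·) hNN
    simp only [MonObj.comp_mul, hN, hN', ← Category.assoc, toUnit_unique (π ≫ toUnit X) (toUnit Y)] at this
    rw [this]
    congr 1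
  rw [e]
  calc (toUnit Y ≫ (l'.map nr).prod) * I D Y (π ≫ t₀) * I D Y s * ((toUnit Y ≫ (l'.map nr).prod) * I D Y (π ≫ t₀))⁻¹
      = (toUnit Y ≫ (l'.map nr).prod) * I D Y ((π ≫ t₀) * s * (π ≫ t₀)⁻¹) * (toUnit Y ≫ (l'.map nr).prod)⁻¹ := by
        rw [map_mul, map_mul, map_inv]; group
    _ = _ := by rw [torus_comm D (π ≫ t₀) s, mul_inv_cancel_right]

include hnr hpos in
/-- The Bruhat cells cover the group and those of different Weyl elements are disjoint. -/
theorem bruhat_decomposition :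
    (∀ x : ↥G.left, ∃ (l : List D.idx) (k : ℕ) (e : Fin k → D.idx),
      RedSub.Enumerates (RedSub.negMeetNeg D.P b (RedSub.wordPerm D.P l)) e ∧
        x ∈ Set.range (RedSub.bruhatMap D nr l e epos).left.base) ∧
    ∀ (l l' : List D.idx) (k k' : ℕ) (e : Fin k → D.idx) (e' : Fin k' → D.idx) (x : ↥G.left),
      RedSub.Enumerates (RedSub.negMeetNeg D.P b (RedSub.wordPerm D.P l)) e →
      RedSub.Enumerates (RedSub.negMeetNeg D.P b (RedSub.wordPerm D.P l')) e' →
      x ∈ Set.range (RedSub.bruhatMap D nr l e epos).left.base →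
      x ∈ Set.range (RedSub.bruhatMap D nr l' e' epos).left.base →
      RedSub.wordPerm D.P l = RedSub.wordPerm D.P l' := by
  classical
  refine ⟨fun x => ?_, fun l l' k k' e e' x he he' hx hx' => ?_⟩
  · let L := AlgebraicClosure (G.left.residueField x)
    let j : Spec (CommRingCat.of L) ⟶ G.left :=
      Spec.map (CommRingCat.ofHom (algebraMap (G.left.residueField x) L)) ≫ G.left.fromSpecResidueField x
    let g : tObj (j ≫ G.hom) L ⟶ G := Over.homMk j (by
      show j ≫ G.hom = Spec.map (CommRingCat.ofHom (algebraMap L L)) ≫ j ≫ G.hom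
      rw [show CommRingCat.ofHom (algebraMap L L) = 𝟙 _ from rfl, Spec.map_id, Category.id_comp])
    obtain ⟨l, k, e, he, y, hy⟩ := exists_bruhat_field hnr hpos g
    refine ⟨l, k, e, he, y.left.base (Classical.choice (inferInstanceAs (Nonempty (PrimeSpectrum L)))), ?_⟩
    have h2 : y.left ≫ (RedSub.bruhatMap D nr l e epos).left = j := by rw [← Over.comp_left, hy]; rfl
    rw [← Scheme.Hom.comp_apply, h2]
    simp [j]
    exact Scheme.fromSpecResidueField_apply _ _
  · obtain ⟨a, ha⟩ := hx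
    obtain ⟨a', ha'⟩ := hx'
    set β := RedSub.bruhatMap D nr l e epos
    set β' := RedSub.bruhatMap D nr l' e' epos
    obtain ⟨z, hz, hz'⟩ := Scheme.Pullback.exists_preimage_pullback (f := β.left) (g := β'.left) a a'
      (ha.trans ha'.symm)
    let P := pullback β.left β'.left
    let L := AlgebraicClosure (P.residueField z)
    let j : Spec (CommRingCat.of L) ⟶ P :=
      Spec.map (CommRingCat.ofHom (algebraMap (P.residueField z) L)) ≫ P.fromSpecResidueField z
    let f : Spec (CommRingCat.of L) ⟶ S := j ≫ pullback.fst β.left β'.left ≫ β.left ≫ G.hom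
    have hid : Spec.map (CommRingCat.ofHom (algebraMap L L)) = 𝟙 _ := by
      rw [show CommRingCat.ofHom (algebraMap L L) = 𝟙 _ from rfl, Spec.map_id]
    let z₁ : tObj f L ⟶ _ := Over.homMk (j ≫ pullback.fst β.left β'.left) (by
      show (j ≫ pullback.fst β.left β'.left) ≫ _ = Spec.map (CommRingCat.ofHom (algebraMap L L)) ≫ f
      rw [hid, Category.id_comp, Category.assoc, ← Over.w β])
    let z₂ : tObj f L ⟶ _ := Over.homMk (j ≫ pullback.snd β.left β'.left) (by
      show (j ≫ pullback.snd β.left β'.left) ≫ _ = Spec.map (CommRingCat.ofHom (algebraMap L L)) ≫ f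
      rw [hid, Category.id_comp, Category.assoc, ← Over.w β']
      show j ≫ pullback.snd β.left β'.left ≫ β'.left ≫ G.hom = j ≫ pullback.fst β.left β'.left ≫ β.left ≫ G.hom
      rw [pullback.condition_assoc])
    refine bruhat_unique_field hnr hpos he he' z₁ z₂ (Over.OverMorphism.ext ?_)
    show (j ≫ pullback.fst β.left β'.left) ≫ β.left = (j ≫ pullback.snd β.left β'.left) ≫ β'.left
    simp only [j, Category.assoc, pullback.condition]

end Groth.Agent.RedRk29
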