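import Groth.Agent.BigCell29.UProd
import Groth.Agent.AlgGrpQ.Points
import Mathlib.LinearAlgebra.LinearIndependent.Basic
import Mathlib.LinearAlgebra.ExteriorAlgebra.Basic
import Mathlib.LinearAlgebra.ExteriorPower.Basic
import Mathlib.RingTheory.TensorProduct.Basic
import Mathlib.FieldTheory.IsAlgClosed.Basic

/-!
# Representations of the group of points: weights and root groups
-/

set_option autoImplicit false

universe u

open TensorProduct WithConv
open scoped AddMonoidAlgebra

namespace Groth.Agent.RedRk29

open BigCell29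

variable {k : Type u} [Field k] {A : Type u} [CommRing A] [HopfAlgebra k A]
  {W W' : Type u} [AddCommGroup W] [Module k W] [AddCommGroup W'] [Module k W']

/-- Inversion of points, taken from the group structure of `BigCell29.Pt`. -/
noncomputable scoped instance (priority := 2000) instInvPt {B : Type u} [CommRing B] [Algebra k B] :
    Inv (Pt k A B) :=
  (instGroupPt (R := k) (A := A) (B := B)).toInv

/-- Evaluation of the first factor at a point. -/
noncomputable def ev (g : Pt k A k) : A ⊗[k] W →ₗ[k] W :=
  (TensorProduct.lid k W).toLinearMap ∘ₗ g.ofConv.toLinearMap.rTensor W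

@[simp] theorem ev_tmul (g : Pt k A k) (a : A) (v : W) : ev g (a ⊗ₜ[k] v) = g.ofConv a • v := by simp [ev]

/-- A representation of the group of points with regular matrix coefficients. -/
def IsRegRep (π : Pt k A k →* Module.End k W) : Prop := ∀ v : W, ∃ z : A ⊗[k] W, ∀ g, π g v = ev g z

theorem isRegRep_rho [HopfRep.Comod k A W] : IsRegRep (AlgGrpQ.rho k A W) := by
  intro v
  refine ⟨TensorProduct.comm k W A (HopfRep.Comod.coact v), fun g => ?_⟩
  rw [AlgGrpQ.rho_apply, ComodLib.actF_apply]
  generalize (HopfRep.Comod.coact v : W ⊗[k] A) = z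
  induction z using TensorProduct.induction_on with
  | zero => simp
  | tmul x a => simp [ComodLib.slice]
  | add x y hx hy => simp only [map_add, hx, hy]

/-- The matrix coefficient of a regular representation. -/
theorem IsRegRep.exists_coef {π : Pt k A k →* Module.End k W} (hπ : IsRegRep π) (v : W) (φ : W →ₗ[k] k) :
    ∃ a : A, ∀ g, φ (π g v) = g.ofConv a := by
  obtain ⟨z, hz⟩ := hπ v
  refine ⟨(TensorProduct.rid k A).toLinearMap (φ.lTensor A z), fun g => ?_⟩
  rw [hz g]
  clear hz
  induction z using TensorProduct.induction_on with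
  | zero => simp
  | tmul a x => simp [mul_comm]
  | add x y hx hy => simp only [map_add, hx, hy]

theorem ev_map (g : Pt k A k) (f : W →ₗ[k] W') (z : A ⊗[k] W) : f (ev g z) = ev g (f.lTensor A z) := by
  induction z using TensorProduct.induction_on with
  | zero => simp
  | tmul a x => simp
  | add x y hx hy => simp only [map_add, hx, hy]

section Restrict

variable (π : Pt k A k →* Module.End k W) (U : Submodule k W) (hU : ∀ g, ∀ x ∈ U, π g x ∈ U)

/-- The representation on a stable subspace. -/
noncomputable def restr : Pt k A k →* Module.End k U where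
  toFun g := (π g).restrict (hU g)
  map_one' := LinearMap.ext fun x => Subtype.ext (by simp)
  map_mul' g h := LinearMap.ext fun x => Subtype.ext (by simp [Module.End.mul_apply])

@[simp] theorem restr_coe (g : Pt k A k) (x : U) : (restr π U hU g x : W) = π g x := rfl

theorem isRegRep_restr {π : Pt k A k →* Module.End k W} (hπ : IsRegRep π) (U : Submodule k W)
    (hU : ∀ g, ∀ x ∈ U, π g x ∈ U) : IsRegRep (restr π U hU) := by
  obtain ⟨p, hp⟩ := LinearMap.exists_leftInverse_of_injective U.subtype U.ker_subtype
  intro x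
  obtain ⟨z, hz⟩ := hπ x
  refine ⟨p.lTensor A z, fun g => ?_⟩
  rw [← ev_map, ← hz g]
  exact (LinearMap.congr_fun hp (restr π U hU g x)).symm

end Restrict

section Exterior

variable (π : Pt k A k →* Module.End k W)

/-- The representation on the exterior algebra. -/
noncomputable def extRep : Pt k A k →* Module.End k (ExteriorAlgebra k W) where
  toFun g := (ExteriorAlgebra.map (π g)).toLinearMap
  map_one' := by
    rw [map_one, show (1 : Module.End k W) = LinearMap.id from rfl, ExteriorAlgebra.map_id]
    rfl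
  map_mul' g h := by
    rw [map_mul, show π g * π h = (π g).comp (π h) from rfl, ← ExteriorAlgebra.map_comp_map]
    rfl

theorem extRep_apply (g : Pt k A k) (x : ExteriorAlgebra k W) : extRep π g x = ExteriorAlgebra.map (π g) x := rfl

theorem ev_mul {E : Type u} [Ring E] [Algebra k E] (g : Pt k A k) (z z' : A ⊗[k] E) :
    ev g (z * z') = ev g z * ev g z' := by
  induction z using TensorProduct.induction_on with
  | zero => simp
  | tmul a m =>
    induction z' using TensorProduct.induction_on with
    | zero => simp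
    | tmul b n => simp [smul_smul, mul_comm]
    | add p q hp hq => simp only [mul_add, map_add, hp, hq]
  | add p q hp hq => simp only [add_mul, map_add, hp, hq]

theorem isRegRep_extRep {π : Pt k A k →* Module.End k W} (hπ : IsRegRep π) : IsRegRep (extRep π) := by
  intro x
  induction x using ExteriorAlgebra.induction with
  | algebraMap r => exact ⟨1 ⊗ₜ algebraMap k _ r, fun g => by rw [extRep_apply, AlgHom.commutes, ev_tmul]; simp⟩
  | «ι» m =>
    obtain ⟨z, hz⟩ := hπ m
    exact ⟨(ExteriorAlgebra.ι k).lTensor _ z, fun g => by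
      rw [extRep_apply, ExteriorAlgebra.map_apply_ι, hz g, ev_map]⟩
  | mul a b ha hb =>
    obtain ⟨z, hz⟩ := ha
    obtain ⟨w, hw⟩ := hb
    exact ⟨z * w, fun g => by rw [ev_mul, ← hz g, ← hw g, extRep_apply, extRep_apply, extRep_apply, map_mul]⟩
  | add p q hp hq =>
    obtain ⟨z, hz⟩ := hp
    obtain ⟨w, hw⟩ := hq
    exact ⟨z + w, fun g => by rw [map_add, map_add, hz g, hw g]⟩

theorem exteriorPower_stable (j : ℕ) (g : Pt k A k) (x : ExteriorAlgebra k W) (hx : x ∈ ⋀[k]^j W) :
    extRep π g x ∈ ⋀[k]^j W := by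
  have h1 : Submodule.map (ExteriorAlgebra.map (π g)).toLinearMap
      (LinearMap.range (ExteriorAlgebra.ι k : W →ₗ[k] ExteriorAlgebra k W)) ≤
        LinearMap.range (ExteriorAlgebra.ι k : W →ₗ[k] ExteriorAlgebra k W) := by
    rintro _ ⟨_, ⟨m, rfl⟩, rfl⟩
    exact ⟨π g m, (ExteriorAlgebra.map_apply_ι (π g) m).symm⟩
  have h2 : Submodule.map (ExteriorAlgebra.map (π g)).toLinearMap (⋀[k]^j W) ≤ ⋀[k]^j W := by
    simp only [ExteriorAlgebra.exteriorPower, Submodule.map_pow]
    exact pow_le_pow_left' h1 j
  exact h2 ⟨x, hx, rfl⟩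

end Exterior

section Weights

variable {M ι : Type} [AddCommGroup M] [Module.Free ℤ M] [Module.Finite ℤ M] [IsAlgClosed k]

/-- The character of `M` with values `s ^ l`. -/
noncomputable def cchar (l : M →+ ℤ) (s : kˣ) : Multiplicative M →* k where
  toFun m := ((s ^ l m.toAdd : kˣ) : k)
  map_one' := by simp
  map_mul' a b := by simp [zpow_add]

@[simp] theorem cchar_apply (l : M →+ ℤ) (s : kˣ) (m : M) :
    cchar l s (Multiplicative.ofAdd m) = ((s ^ l m : kˣ) : k) := rfl

theorem exists_functional_ne_zero {m : M} (hm : m ≠ 0) : ∃ l : M →+ ℤ, l m ≠ 0 := by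
  by_contra h
  push Not at h
  refine hm ((Module.Free.chooseBasis ℤ M).forall_coord_eq_zero_iff.mp fun i => ?_)
  exact h ((Module.Free.chooseBasis ℤ M).coord i).toAddMonoidHom

theorem exists_char_eq {m : M} (hm : m ≠ 0) (s : kˣ) :
    ∃ χ : Multiplicative M →* k, χ (Multiplicative.ofAdd m) = s := by
  obtain ⟨l, hl⟩ := exists_functional_ne_zero hm
  have hpos : 0 < (l m).natAbs := Int.natAbs_pos.mpr hl
  obtain ⟨z, hz⟩ := IsAlgClosed.exists_pow_nat_eq (s : k) hpos
  have hz0 : z ≠ 0 := fun h => s.ne_zero (by rw [← hz, h, zero_pow hpos.ne'])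
  rcases Int.natAbs_eq (l m) with h | h
  · refine ⟨cchar l (Units.mk0 z hz0), ?_⟩
    rw [cchar_apply, h, zpow_natCast, Units.val_pow_eq_pow_val, Units.val_mk0, hz]
  · refine ⟨cchar l (Units.mk0 z hz0)⁻¹, ?_⟩
    rw [cchar_apply, h, inv_zpow', neg_neg, zpow_natCast, Units.val_pow_eq_pow_val, Units.val_mk0, hz]

theorem eval_injective : Function.Injective fun m : M =>
    (⟨⟨fun χ => χ (Multiplicative.ofAdd m), rfl⟩, fun _ _ => rfl⟩ : (Multiplicative M →* k) →* k) := by
  intro m m' h
  by_contra hne
  haveI : Infinite k := IsAlgClosed.instInfinite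
  obtain ⟨s, hs⟩ : ∃ s : kˣ, (s : k) ≠ 1 := by
    classical
    obtain ⟨x, hx⟩ := Infinite.exists_notMem_finset ({0, 1} : Finset k)
    simp only [Finset.mem_insert, Finset.mem_singleton, not_or] at hx
    exact ⟨Units.mk0 x hx.1, hx.2⟩
  obtain ⟨χ, hχ⟩ := exists_char_eq (sub_ne_zero.mpr hne) s
  have h' : χ (Multiplicative.ofAdd m) = χ (Multiplicative.ofAdd m') := DFunLike.congr_fun h χ
  have h0 : χ (Multiplicative.ofAdd (m - m')) * χ (Multiplicative.ofAdd m') = χ (Multiplicative.ofAdd m') := by
    rw [← map_mul, ← ofAdd_add, sub_add_cancel, h']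
  have hu : IsUnit (χ (Multiplicative.ofAdd m')) := (Group.isUnit _).map χ
  exact hs (hχ.symm.trans ((mul_eq_right₀ hu.ne_zero).mp h0))

theorem eq_zero_of_sum_char_mul_eq_zero {f : M →₀ k}
    (h : ∀ χ : Multiplicative M →* k, (f.sum fun m r => r * χ (Multiplicative.ofAdd m)) = 0) : f = 0 := by
  have hli := (linearIndependent_monoidHom (Multiplicative M →* k) k).comp _ (eval_injective (k := k) (M := M))
  refine linearIndependent_iff.mp hli f (funext fun χ => ?_)
  rw [Finsupp.linearCombination_apply, Finsupp.sum, Finset.sum_apply, Pi.zero_apply]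
  exact h χ

theorem wt_unique {f f' : M →₀ W}
    (h : ∀ χ : Multiplicative M →* k, (f.sum fun m x => χ (Multiplicative.ofAdd m) • x) =
      f'.sum fun m x => χ (Multiplicative.ofAdd m) • x) : f = f' := by
  suffices ∀ g : M →₀ W, (∀ χ : Multiplicative M →* k, (g.sum fun m x => χ (Multiplicative.ofAdd m) • x) = 0) →
      g = 0 by
    refine sub_eq_zero.mp (this _ fun χ => ?_)
    rw [Finsupp.sum_sub_index (fun _ _ _ => smul_sub _ _ _), h χ, sub_self]
  intro g hg
  refine Finsupp.ext fun m => (Module.forall_dual_apply_eq_zero_iff k _).mp fun φ => ?_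
  have := eq_zero_of_sum_char_mul_eq_zero (f := g.mapRange φ (map_zero φ)) fun χ => by
    rw [Finsupp.sum_mapRange_index (fun _ => zero_mul _)]
    have := congrArg φ (hg χ)
    rw [map_finsuppSum, map_zero] at this
    simpa [mul_comm] using this
  simpa using congrArg (fun f : M →₀ k => f m) this

variable (F : Frame k A M ι) {π : Pt k A k →* Module.End k W}

theorem exists_wt (hπ : IsRegRep π) (v : W) : ∃ f : M →₀ W, ∀ χ : Multiplicative M →* k,
    π (F.T.tor χ) v = f.sum fun m x => χ (Multiplicative.ofAdd m) • x := by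
  obtain ⟨z, hz⟩ := hπ v
  simp only [hz]
  clear hz
  induction z using TensorProduct.induction_on with
  | zero => exact ⟨0, fun χ => by simp⟩
  | tmul a x =>
    refine ⟨(F.T.π a).coeff.mapRange (fun r => r • x) (zero_smul _ _), fun χ => ?_⟩
    rw [ev_tmul, Finsupp.sum_mapRange_index (fun m => smul_zero _)]
    show (AddMonoidAlgebra.lift k k M χ (F.T.π a)) • x = _
    rw [AddMonoidAlgebra.lift_apply, Finsupp.sum, Finsupp.sum, Finset.sum_smul]
    exact Finset.sum_congr rfl fun m _ => by simp [smul_smul, mul_comm]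
  | add p q hp hq =>
    obtain ⟨f, hf⟩ := hp
    obtain ⟨f', hf'⟩ := hq
    exact ⟨f + f', fun χ => by
      rw [map_add, hf, hf', Finsupp.sum_add_index' (fun _ => smul_zero _) fun _ _ _ => smul_add _ _ _]⟩

variable (π) in
/-- The weight space. -/
def Wt (m : M) : Submodule k W where
  carrier := {v | ∀ χ : Multiplicative M →* k, π (F.T.tor χ) v = χ (Multiplicative.ofAdd m) • v}
  add_mem' hx hy χ := by rw [map_add, hx χ, hy χ, smul_add]
  zero_mem' χ := by simp
  smul_mem' c x hx χ := by rw [map_smul, hx χ, smul_comm]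

theorem mem_Wt {m : M} {v : W} :
    v ∈ Wt F π m ↔ ∀ χ : Multiplicative M →* k, π (F.T.tor χ) v = χ (Multiplicative.ofAdd m) • v := Iff.rfl

variable (hπ : IsRegRep π)

/-- The weight components of a vector. -/
noncomputable def wt (v : W) : M →₀ W := (exists_wt F hπ v).choose

theorem tor_eq_sum_wt (v : W) (χ : Multiplicative M →* k) :
    π (F.T.tor χ) v = (wt F hπ v).sum fun m x => χ (Multiplicative.ofAdd m) • x :=
  (exists_wt F hπ v).choose_spec χ

theorem sum_wt (v : W) : ((wt F hπ v).sum fun _ x => x) = v := by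
  have := tor_eq_sum_wt F hπ v 1
  rw [map_one, map_one] at this
  simpa using this.symm

theorem wt_eq_of {v : W} {f : M →₀ W} (h : ∀ m, f m ∈ Wt F π m) (hf : (f.sum fun _ x => x) = v) :
    wt F hπ v = f := by
  refine wt_unique (k := k) fun χ => ?_
  rw [← tor_eq_sum_wt, ← hf, map_finsuppSum]
  exact Finset.sum_congr rfl fun m _ => h m χ

theorem wt_mem (v : W) (m : M) : wt F hπ v m ∈ Wt F π m := by
  intro χ'
  have key := wt_unique (k := k) (f := (wt F hπ v).mapRange (π (F.T.tor χ')) (map_zero _))
    (f' := Finsupp.onFinset (wt F hπ v).support (fun n => χ' (Multiplicative.ofAdd n) • wt F hπ v n)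
      fun n hn => by rw [Finsupp.mem_support_iff]; intro h; rw [h, smul_zero] at hn; exact hn rfl) fun χ => by
    rw [Finsupp.sum_mapRange_index (fun _ => smul_zero _), Finsupp.onFinset_sum _ (fun _ => smul_zero _)]
    have h1 := tor_eq_sum_wt F hπ v (χ' * χ)
    rw [map_mul, map_mul, Module.End.mul_apply, tor_eq_sum_wt F hπ v χ, map_finsuppSum] at h1
    simp only [map_smul] at h1
    rw [h1]
    refine Finset.sum_congr rfl fun n _ => ?_
    simp only [MonoidHom.mul_apply, smul_smul]
    rw [mul_comm]
  simpa using congrArg (fun f : M →₀ W => f m) key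

variable [DecidableEq M]

theorem wt_of_mem {m : M} {v : W} (hv : v ∈ Wt F π m) : wt F hπ v = Finsupp.single m v := by
  refine wt_eq_of F hπ (fun n => ?_) (by simp)
  by_cases h : m = n
  · subst h; simpa using hv
  · rw [Finsupp.single_eq_of_ne' h]; exact zero_mem _

/-- The projection to a weight space. -/
noncomputable def comp (m : M) : W →ₗ[k] W where
  toFun v := wt F hπ v m
  map_add' v v' := by
    have : wt F hπ (v + v') = wt F hπ v + wt F hπ v' := wt_eq_of F hπ
      (fun n => Submodule.add_mem _ (wt_mem F hπ v n) (wt_mem F hπ v' n))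
      (by rw [Finsupp.sum_add_index' (fun _ => rfl) fun _ _ _ => rfl, sum_wt, sum_wt])
    rw [this, Finsupp.add_apply]
  map_smul' c v := by
    have : wt F hπ (c • v) = c • wt F hπ v := wt_eq_of F hπ
      (fun n => Submodule.smul_mem _ c (wt_mem F hπ v n))
      (by rw [Finsupp.sum_smul_index' (fun _ => rfl), ← Finsupp.smul_sum, sum_wt])
    rw [this, Finsupp.smul_apply, RingHom.id_apply]

omit [DecidableEq M] in
theorem comp_apply (m : M) (v : W) : comp F hπ m v = wt F hπ v m := rfl

theorem comp_mem (m : M) (v : W) : comp F hπ m v ∈ Wt F π m := wt_mem F hπ v m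

theorem comp_of_mem {m : M} {v : W} (hv : v ∈ Wt F π m) (n : M) :
    comp F hπ n v = if m = n then v else 0 := by
  rw [comp_apply, wt_of_mem F hπ hv, Finsupp.single_apply]

include hπ in
theorem eq_of_mem_Wt {m n : M} {v : W} (hv : v ∈ Wt F π m) (hv' : v ∈ Wt F π n) (h0 : v ≠ 0) : m = n := by
  by_contra h
  have e1 := comp_of_mem F hπ hv n
  rw [comp_of_mem F hπ hv' n, if_pos rfl, if_neg h] at e1
  exact h0 e1

omit [DecidableEq M] in
include hπ in
theorem finite_weights [Module.Finite k W] : {m : M | Wt F π m ≠ ⊥}.Finite := by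
  classical
  haveI := (Submodule.eq_bot_iff (⊥ : Submodule k W)).mp rfl
  refine WellFoundedGT.finite_ne_bot_of_iSupIndep ?_
  rw [iSupIndep_iff_finset_sum_eq_zero_imp_eq_zero]
  intro s v hv hsum i hi
  have := congrArg (comp F hπ i) hsum
  rw [map_sum, map_zero, Finset.sum_eq_single i] at this
  · rwa [comp_of_mem F hπ (hv i hi), if_pos rfl] at this
  · exact fun j hj hji => by rw [comp_of_mem F hπ (hv j hj), if_neg hji]
  · exact fun h => absurd hi h

theorem exists_root_poly (hπ : IsRegRep π) (i : ι) (v : W) : ∃ f : ℕ →₀ W, ∀ x : k,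
    π (F.rt i x) v = f.sum fun n y => x ^ n • y := by
  obtain ⟨z, hz⟩ := hπ v
  simp only [hz]
  clear hz
  induction z using TensorProduct.induction_on with
  | zero => exact ⟨0, fun χ => by simp⟩
  | tmul a y =>
    refine ⟨(F.φ i a).toFinsupp.coeff.mapRange (fun r => r • y) (zero_smul _ _), fun x => ?_⟩
    rw [ev_tmul, Finsupp.sum_mapRange_index (fun m => smul_zero _)]
    show (Polynomial.aeval x (F.φ i a)) • y = _
    rw [Polynomial.aeval_eq_sum_range, Finset.sum_smul, Finsupp.sum]
    symm
    refine (Finset.sum_subset (fun n hn => Finset.mem_range.mpr (Nat.lt_succ_of_le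
      (Polynomial.le_natDegree_of_mem_supp n hn))) fun n _ hn => ?_).trans (Finset.sum_congr rfl fun n _ => ?_)
    · simp [Polynomial.toFinsupp_apply, Polynomial.notMem_support_iff.mp hn]
    · simp [Polynomial.toFinsupp_apply, smul_smul, mul_comm]
  | add p q hp hq =>
    obtain ⟨f, hf⟩ := hp
    obtain ⟨f', hf'⟩ := hq
    exact ⟨f + f', fun x => by
      rw [map_add, hf, hf', Finsupp.sum_add_index' (fun _ => smul_zero _) fun _ _ _ => smul_add _ _ _]⟩

omit [DecidableEq M] in
include hπ in
/-- A root element moves a weight vector by higher multiples of the root. -/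
theorem root_expand (i : ι) {m : M} {v : W} (hv : v ∈ Wt F π m) : ∃ f : ℕ →₀ W,
    (∀ x : k, π (F.rt i x) v = f.sum fun n y => x ^ n • y) ∧ f 0 = v ∧
      ∀ n, f n ∈ Wt F π (m + n • F.root i) := by
  classical
  obtain ⟨f, hf⟩ := exists_root_poly F hπ i v
  haveI : Infinite k := IsAlgClosed.instInfinite
  have hcoef : ∀ g g' : ℕ →₀ W, (∀ x : k, (g.sum fun n y => x ^ n • y) = g'.sum fun n y => x ^ n • y) → g = g' := by
    intro g g' h
    refine Finsupp.ext fun n => sub_eq_zero.mp ((Module.forall_dual_apply_eq_zero_iff k _).mp fun φ => ?_)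
    let P : Polynomial k := ∑ j ∈ g.support ∪ g'.support, Polynomial.monomial j (φ (g j - g' j))
    have hP : P = 0 := Polynomial.funext fun x => by
      have e : ∀ q : ℕ →₀ W, q.support ⊆ g.support ∪ g'.support →
          ∑ j ∈ g.support ∪ g'.support, φ (q j) * x ^ j = φ (q.sum fun n y => x ^ n • y) := fun q hq => by
        rw [map_finsuppSum, Finsupp.sum_of_support_subset _ hq _ (by simp)]
        exact Finset.sum_congr rfl fun j _ => by simp [mul_comm]
      simp only [P, Polynomial.eval_finsetSum, Polynomial.eval_monomial, Polynomial.eval_zero]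
      simp only [map_sub, sub_mul, Finset.sum_sub_distrib]
      rw [e g Finset.subset_union_left, e g' Finset.subset_union_right, h x, sub_self]
    have := congrArg (fun p : Polynomial k => p.coeff n) hP
    simp only [P, Polynomial.finsetSum_coeff, Polynomial.coeff_monomial, Finset.sum_ite_eq', Polynomial.coeff_zero] at this
    split_ifs at this with hn
    · exact this
    · simp only [Finset.mem_union, Finsupp.mem_support_iff, not_or, not_not] at hn
      simp [hn.1, hn.2]
  refine ⟨f, hf, ?_, fun n χ => ?_⟩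
  · have h1 := hf 0
    rw [F.rt_zero, map_one] at h1
    rw [Module.End.one_apply] at h1
    rw [h1, Finsupp.sum, Finset.sum_eq_single 0]
    · simp
    · intro b _ hb; simp [zero_pow hb]
    · intro h; simp [Finsupp.notMem_support_iff.mp h]
  · set c := χ (Multiplicative.ofAdd (F.root i))
    set d := χ (Multiplicative.ofAdd m)
    have key := hcoef (f.mapRange (π (F.T.tor χ)) (map_zero _))
      (Finsupp.onFinset f.support (fun n => (d * c ^ n) • f n)
        fun j hj => by rw [Finsupp.mem_support_iff]; intro h; rw [h, smul_zero] at hj; exact hj rfl) fun x => by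
      rw [Finsupp.sum_mapRange_index (fun _ => smul_zero _), Finsupp.onFinset_sum _ (fun _ => smul_zero _)]
      have h1 : π (F.T.tor χ) (π (F.rt i x) v) = π (F.rt i (c * x)) (π (F.T.tor χ) v) := by
        rw [← Module.End.mul_apply, ← map_mul, ← Module.End.mul_apply, ← map_mul]
        congr 2
        exact F.conj k i χ x
      rw [hf x, hv χ, map_smul, hf (c * x), map_finsuppSum, Finsupp.smul_sum] at h1
      simp only [map_smul] at h1
      rw [h1]
      exact Finset.sum_congr rfl fun j _ => by simp only [smul_smul]; congr 1; ring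
    rw [show χ (Multiplicative.ofAdd (m + n • F.root i)) = d * c ^ n by
      rw [ofAdd_add, ofAdd_nsmul, map_mul, map_pow]]
    simpa using congrArg (fun g : ℕ →₀ W => g n) key

end Weights

end Groth.Agent.RedRk29
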