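import Groth.Agent.RedRk29.NormWeyl
import Groth.Agent.RedRk29.Reps

/-!
# The points of a split group over an algebraically closed field over the base

Over any algebraically closed field over the base the torus is its own centraliser and, with the root groups, generates
the group; trivial Weyl words are torus points.
-/

set_option autoImplicit false

universe u

open CategoryTheory CategoryTheory.Limits MonoidalCategory CartesianMonoidalCategory AlgebraicGeometry
open scoped MonObj GrpObj

noncomputable section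

namespace Groth.Agent.RedRk29

open BigCell29 GrpSchLib Rank2Red38 RedSub30.RootPoly

variable {S : Scheme.{u}} {G : Over S} [GrpObj G] (D : Red.SplitRed G)

theorem exists_enumerates (R : Set D.idx) : ∃ (k : ℕ) (e : Fin k → D.idx), RedSub.Enumerates R e := by
  classical
  refine ⟨(Set.toFinset R).card, fun k => ((Set.toFinset R).equivFin.symm k : D.idx),
    Subtype.val_injective.comp (Equiv.injective _), ?_⟩
  ext x
  simp only [Set.mem_range]
  exact ⟨fun ⟨k, hk⟩ => hk ▸ Set.mem_toFinset.mp ((Set.toFinset R).equivFin.symm k).2,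
    fun hx => ⟨(Set.toFinset R).equivFin ⟨x, Set.mem_toFinset.mpr hx⟩, by simp⟩⟩

theorem root_wordPerm (l : List D.idx) (c : D.idx) :
    D.P.root (RedSub.wordPerm D.P l c) = wordMap D l (D.P.root c) := by
  induction l with
  | nil => simp [RedSub.wordPerm, wordMap]
  | cons a l ih =>
    simp only [RedSub.wordPerm, wordMap, List.map_cons, List.prod_cons, Equiv.Perm.mul_apply] at ih ⊢
    rw [RootPairing.root_reflectionPerm, ih]
    rfl

theorem wordMap_append (l l' : List D.idx) : wordMap D (l ++ l') = (wordMap D l).comp (wordMap D l') := by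
  ext m
  simp [wordMap, List.map_append, List.prod_append]

theorem wordMap_reverse (l : List D.idx) (m : D.M) : wordMap D l.reverse (wordMap D l m) = m := by
  induction l generalizing m with
  | nil => simp [wordMap]
  | cons a l ih =>
    rw [List.reverse_cons, wordMap_append, AddMonoidHom.comp_apply]
    have e : wordMap D [a] (wordMap D (a :: l) m) = wordMap D l m := by
      simp [wordMap, RootPairing.reflection_same]
    rw [e, ih]

theorem wordPerm_eq_of_wordMap {l l' : List D.idx} (h : wordMap D l.reverse = wordMap D l'.reverse) :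
    RedSub.wordPerm D.P l = RedSub.wordPerm D.P l' := by
  refine Equiv.ext fun c => D.P.root.injective ?_
  rw [root_wordPerm, root_wordPerm]
  have h2 := wordMap_reverse D l'.reverse (wordMap D l (D.P.root c))
  rw [List.reverse_reverse] at h2
  rw [← h2, ← h, wordMap_reverse]

theorem actT_id {X : Over S} (t : X ⟶ D.T) : actT D (AddMonoidHom.id D.M) t = t ≫ D.i := by
  have hid' : D.split.hom.hom.hom ≫ D.split.inv.hom.hom = 𝟙 _ := congrArg (fun k => k.hom.hom) D.split.hom_inv_id
  have e : t ≫ D.split.hom.hom.hom ≫ Red.DSmap S (AddMonoidHom.id D.M) = t ≫ D.split.hom.hom.hom := by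
    refine ds_ext fun m => ?_
    rw [← Category.assoc, dsVal_map]
    rfl
  simp only [actT, ← Category.assoc] at e ⊢
  rw [e, Category.assoc t, hid', Category.comp_id]

variable {D} {nr : D.idx → (𝟙_ (Over S) ⟶ G)} (hnr : RedSub.RealisesReflections D nr)

include hnr in
/-- Conjugation by the inverse of a word preserves the torus. -/
theorem conj_word_inv (l : List D.idx) (X : Over S) (t : X ⟶ D.T) : ∃ s : X ⟶ D.T,
    (toUnit X ≫ (l.map nr).prod)⁻¹ * I D X t * (toUnit X ≫ (l.map nr).prod) = I D X s := by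
  induction l generalizing t with
  | nil => exact ⟨t, by simp [MonObj.comp_one]⟩
  | cons a l ih =>
    obtain ⟨s, hs⟩ := ih (reflT D X a t)
    refine ⟨s, ?_⟩
    have h := conj_torus D hnr a X (reflT D X a t)
    rw [reflT_reflT] at h
    rw [List.map_cons, List.prod_cons, MonObj.comp_mul, ← hs, ← h]
    group

variable {b : D.P.Base} {n m : ℕ} {eneg : Fin n → D.idx} {epos : Fin m → D.idx}
  (hneg : RedSub.Enumerates (RedSub.negRoots D.P b) eneg) (hpos : RedSub.Enumerates (RedSub.posRoots D.P b) epos)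

include hneg hpos hnr in
/-- A word acting trivially on the torus is a torus point. -/
theorem nl_mem_torus {l : List D.idx} (h : wordMap D l.reverse = AddMonoidHom.id D.M) :
    ∃ t : 𝟙_ (Over S) ⟶ D.T, (l.map nr).prod = t ≫ D.i := by
  haveI := BigCell29.isOpenImmersion_cellMap D b hneg hpos
  set g : 𝟙_ (Over S) ⟶ G := (l.map nr).prod
  set c := RedSub.cellMap D eneg epos
  have hcomm : ∀ (X : Over S) (t : X ⟶ D.T), (toUnit X ≫ g) * I D X t * (toUnit X ≫ g)⁻¹ = I D X t := fun X t => by
    rw [conj_word hnr l X t, h, actT_id]; rfl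
  have hrange : Set.range g.left.base ⊆ Set.range c.left.base := by
    rintro _ ⟨s, rfl⟩
    let X := tObj (Red.geomPt (show S from s)) (AlgebraicClosure (S.residueField (show S from s)))
    obtain ⟨-, hZ, -⟩ := geom_pts D (show S from s)
    obtain ⟨t, ht⟩ := hZ (toUnit X ≫ g) fun t => mul_inv_eq_iff_eq_mul.mp (hcomm X t)
    obtain ⟨y, hy⟩ := exists_cell_lift hneg hpos X t (one_mem _) (one_mem _)
    rw [one_mul, mul_one, ← ht] at hy
    let o : X.left := Classical.choice (inferInstanceAs (Nonempty (PrimeSpectrum _)))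
    refine ⟨y.left.base o, ?_⟩
    show (y ≫ c).left.base o = _
    rw [hy]
    show g.left.base ((toUnit X).left.base o) = _
    congr 1
    have h2 : (toUnit X).left = X.hom := (Category.comp_id _).symm.trans (Over.w (toUnit X))
    rw [h2, show X.hom = Spec.map _ ≫ (Spec.map _ ≫ S.fromSpecResidueField (show S from s)) from rfl]
    simp [Scheme.fromSpecResidueField_apply]
  let z : 𝟙_ (Over S) ⟶ _ := Over.homMk (IsOpenImmersion.lift c.left g.left hrange)
    (by rw [← Over.w c, ← Category.assoc, IsOpenImmersion.lift_fac]; exact Over.w g)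
  have hz : z ≫ c = g := Over.OverMorphism.ext (IsOpenImmersion.lift_fac _ _ _)
  refine ⟨z ≫ snd _ _ ≫ fst _ _, hz.symm.trans (Groth.Agent.S5509.result D b _ _ hneg hpos _ z fun X' y t => ?_)⟩
  refine ⟨t, ?_⟩
  rw [show z ≫ RedSub.cellMap D eneg epos = g from hz, show y = toUnit X' from toUnit_unique _ _]
  exact hcomm X' t

include hneg hpos in
/-- A point of the cell over an algebraically closed field moving the torus points into the torus is a torus point. -/
theorem torus_of_comm_cell {L : Type u} [Field L] [IsAlgClosed L] {f : Spec (CommRingCat.of L) ⟶ S}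
    (z : tObj f L ⟶ RedSub.pow (Red.Ga S) n ⊗ (D.T ⊗ RedSub.pow (Red.Ga S) m))
    (h : ∀ t : tObj f L ⟶ D.T, ∃ s : tObj f L ⟶ D.T,
      (z ≫ RedSub.cellMap D eneg epos) * (t ≫ D.i) * (z ≫ RedSub.cellMap D eneg epos)⁻¹ = s ≫ D.i) :
    z ≫ RedSub.cellMap D eneg epos = (z ≫ snd _ _ ≫ fst _ _) ≫ D.i := by
  classical
  let X := tObj f L
  haveI : IsOpenImmersion (RedSub.cellMap D eneg epos).left := BigCell29.isOpenImmersion_cellMap D b hneg hpos
  haveI : Mono (RedSub.cellMap D eneg epos) := (Over.forget S).mono_of_mono_map (f := RedSub.cellMap D eneg epos)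
    (inferInstanceAs (Mono (RedSub.cellMap D eneg epos).left))
  set y := z ≫ fst _ _
  set t₀ := z ≫ snd _ _ ≫ fst _ _
  set x := z ≫ snd _ _ ≫ snd _ _
  have hlift : ∀ (y : X ⟶ RedSub.pow (Red.Ga S) n) (t : X ⟶ D.T) (x : X ⟶ RedSub.pow (Red.Ga S) m),
      lift y (lift t x) ≫ RedSub.cellMap D eneg epos = wordPt D X eneg (coord y) * I D X t * wordPt D X epos (coord x) := by
    intro y t x
    rw [RedSub.cellMap, MonObj.comp_mul, MonObj.comp_mul, lift_fst_assoc, lift_snd_assoc, lift_fst_assoc,
      lift_snd_assoc, lift_snd_assoc, comp_prodMap, comp_prodMap, mul_assoc]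
    rfl
  have hz : z = lift y (lift t₀ x) := by
    apply CartesianMonoidalCategory.hom_ext
    · rw [lift_fst]
    · apply CartesianMonoidalCategory.hom_ext <;> simp [t₀, x]
  have hconj : ∀ {k : ℕ} (e : Fin k → D.idx) (t : X ⟶ D.T) (w : Fin k → Γ(X.left, ⊤)),
      I D X t * wordPt D X e w * (I D X t)⁻¹ = wordPt D X e fun j => ((rootVal D X (e j) t : Γ(X.left, ⊤)ˣ) : Γ(X.left, ⊤)) * w j :=
    fun e t w => (isWeighted_wordPt D e).equiv X t w
  obtain ⟨lam, hgen, -⟩ := exists_form_posRoots D b
  obtain ⟨s₀, hs₀⟩ := exists_unit_pow_ne_one (k := L) (Set.finite_range fun i => -lam (D.P.root i))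
  let χ := cchar (k := L) lam.toAddMonoidHom s₀⁻¹
  let t : X ⟶ D.T := chPt f χ ≫ D.split.inv.hom.hom
  have hval : ∀ c, (rootVal D X c t : Γ(X.left, ⊤)) ≠ 1 := fun c hc => by
    have hid : D.split.inv.hom.hom ≫ D.split.hom.hom.hom = 𝟙 _ := congrArg (fun k => k.hom.hom) D.split.inv_hom_id
    rw [rootVal_apply] at hc
    simp only [t, Category.assoc, hid, Category.comp_id] at hc
    rw [← gmFn_chi, gmFn_chPt_chi] at hc
    have h1 := congrArg (tVal f L) hc
    rw [RingEquiv.apply_symm_apply, map_one] at h1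
    refine hs₀ (-lam (D.P.root c)) ⟨c, rfl⟩ (neg_ne_zero.mpr (hgen c)) ?_
    rw [zpow_neg, ← inv_zpow]
    exact h1
  obtain ⟨s, hs⟩ := h t
  set v := wordPt D X eneg (coord y)
  set u := wordPt D X epos (coord x)
  have e1 : lift y (lift (t₀ * t) (ofCoord fun j => ((rootVal D X (epos j) t⁻¹ : Γ(X.left, ⊤)ˣ) : Γ(X.left, ⊤)) * coord x j)) ≫ RedSub.cellMap D eneg epos =
      lift (ofCoord fun j => ((rootVal D X (eneg j) s : Γ(X.left, ⊤)ˣ) : Γ(X.left, ⊤)) * coord y j) (lift (s * t₀) x) ≫ RedSub.cellMap D eneg epos := by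
    rw [hlift, hlift, coord_ofCoord, coord_ofCoord, ← hconj eneg s, ← hconj epos t⁻¹, map_mul, map_mul, map_inv,
      show I D X s = s ≫ D.i from rfl, ← hs]
    rw [hz, hlift]
    show _ = _
    simp only [show t ≫ D.i = I D X t from rfl]
    group
  have e2 := (cancel_mono _).mp e1
  have ey : coord y = fun j => ((rootVal D X (eneg j) s : Γ(X.left, ⊤)ˣ) : Γ(X.left, ⊤)) * coord y j := by
    have := congrArg (fun w => coord (w ≫ fst _ _)) e2
    simpa [coord_ofCoord] using this
  have ex : (fun j => ((rootVal D X (epos j) t⁻¹ : Γ(X.left, ⊤)ˣ) : Γ(X.left, ⊤)) * coord x j) = coord x := by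
    have := congrArg (fun w => coord (w ≫ snd _ _ ≫ snd _ _)) e2
    simpa [coord_ofCoord] using this
  have et : s = t := by
    have := congrArg (fun w => w ≫ snd _ _ ≫ fst _ _) e2
    simp only [lift_snd_assoc, lift_fst] at this
    rw [torus_comm D t₀ t] at this
    exact (mul_right_cancel this).symm
  have hfield : ∀ a : Γ(X.left, ⊤), a ≠ 0 → IsUnit a := fun a ha => by
    have h : IsUnit (tVal f L a) := Ne.isUnit ((map_ne_zero_iff _ (tVal f L).injective).mpr ha)
    simpa using h.map (tVal f L).symm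
  have hzero : ∀ {v a : Γ(X.left, ⊤)}, v ≠ 1 → v * a = a → a = 0 := fun hv ha => by_contra fun h0 => hv ((hfield _ h0).mul_eq_right.mp ha)
  have hy0 : coord y = fun _ => 0 := funext fun j => hzero (hval _) (et ▸ (congrFun ey j).symm)
  have hx0 : coord x = fun _ => 0 := funext fun j => hzero (fun h1 => hval (epos j) (by
    have h2 : ((rootVal D X (epos j) t⁻¹ : Γ(X.left, ⊤)ˣ) : Γ(X.left, ⊤)) = 1 := h1
    rw [map_inv, Units.val_eq_one, inv_eq_one] at h2
    rw [h2, Units.val_one])) (congrFun ex j)
  have hword : ∀ {k : ℕ} (e : Fin k → D.idx), wordPt D X e (fun _ => (0 : Γ(X.left, ⊤))) = 1 := fun e =>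
    (isWeighted_wordPt D e).zero X
  rw [hz, hlift, hy0, hx0, hword, hword, one_mul, mul_one]
  rfl

include hneg hpos hnr in
/-- Over an algebraically closed field over the base the torus is its own centraliser and, with the root groups,
generates the group. -/
theorem field_pts {L : Type u} [Field L] [IsAlgClosed L] (f : Spec (CommRingCat.of L) ⟶ S) :
    (∀ x : Γ((tObj f L).left, ⊤), x ≠ 0 → IsUnit x) ∧
    (∀ g : tObj f L ⟶ G, (∀ t, g * I D _ t = I D _ t * g) → ∃ t, g = I D _ t) ∧
    ∀ g : tObj f L ⟶ G, g ∈ Subgroup.closure (((I D (tObj f L)).range : Set (tObj f L ⟶ G)) ∪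
      ⋃ c, (rootSub D (tObj f L) c : Set (tObj f L ⟶ G))) := by
  classical
  let X := tObj f L
  let o : X.left := Classical.choice (inferInstanceAs (Nonempty (PrimeSpectrum L)))
  haveI hsub : Subsingleton X.left := inferInstanceAs (Subsingleton (PrimeSpectrum L))
  haveI : Nonempty S := ⟨X.hom.base o⟩
  haveI : IsOpenImmersion (RedSub.cellMap D eneg epos).left := BigCell29.isOpenImmersion_cellMap D b hneg hpos
  have hfield : ∀ x : Γ(X.left, ⊤), x ≠ 0 → IsUnit x := fun x hx => by
    have h : IsUnit (tVal f L x) := Ne.isUnit ((map_ne_zero_iff _ (tVal f L).injective).mpr hx)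
    simpa using h.map (tVal f L).symm
  -- every point is in a translate
  have hfac : ∀ g : X ⟶ G, ∃ l : List D.idx, (∀ a ∈ l, a ∈ b.support) ∧ ∃ z : X ⟶ _,
      g = (toUnit X ≫ (l.map nr).prod) * (z ≫ RedSub.cellMap D eneg epos) := fun g => by
    obtain ⟨l, hl, hp⟩ := cover_translates hneg hpos hnr (g.left.base o)
    haveI := isOpenImmersion_translate (RedSub.cellMap D eneg epos) (l.map nr).prod
    set W := (toUnit _ ≫ (l.map nr).prod) * RedSub.cellMap D eneg epos
    have hrange : Set.range g.left.base ⊆ Set.range W.left.base := by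
      rintro _ ⟨q, rfl⟩
      rw [Subsingleton.elim q o]
      exact hp
    let z : X ⟶ _ := Over.homMk (IsOpenImmersion.lift W.left g.left hrange)
      (by rw [← Over.w W, ← Category.assoc, IsOpenImmersion.lift_fac]; exact Over.w g)
    have hz : z ≫ W = g := Over.OverMorphism.ext (IsOpenImmersion.lift_fac _ _ _)
    exact ⟨l, hl, z, by rw [← comp_monoid, hz]⟩
  have hword : ∀ {k : ℕ} (e : Fin k → D.idx) (z : X ⟶ RedSub.pow (Red.Ga S) k), ∀ H : Subgroup (X ⟶ G),
      (∀ c x, U D X c x ∈ H) → z ≫ RedSub.prodMap (Red.Ga S) k (fun j => D.u (e j)) ∈ H := fun e z H hH => by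
    rw [comp_prodMap D, wordPt]
    refine list_prod_mem fun v hv => ?_
    obtain ⟨j, rfl⟩ := List.mem_ofFn.mp hv
    exact hH _ _
  have hid : D.split.inv.hom.hom ≫ D.split.hom.hom.hom = 𝟙 _ := congrArg (fun k => k.hom.hom) D.split.inv_hom_id
  have hZ : ∀ g : X ⟶ G, (∀ t, g * I D X t = I D X t * g) → ∃ t, g = I D X t := fun g hg => by
    obtain ⟨l, -, z, hz⟩ := hfac g
    -- the cell part centralises up to the word
    have hz' : z ≫ RedSub.cellMap D eneg epos = (z ≫ snd _ _ ≫ fst _ _) ≫ D.i :=
      torus_of_comm_cell hneg hpos z fun t => by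
        obtain ⟨s, hs⟩ := conj_word_inv hnr l X t
        refine ⟨s, ?_⟩
        have h := hg t
        rw [hz] at h
        show _ * I D X t * _ = I D X s
        rw [← hs]
        rw [mul_inv_eq_iff_eq_mul]
        calc z ≫ RedSub.cellMap D eneg epos * I D X t
            = (toUnit X ≫ (l.map nr).prod)⁻¹ * ((toUnit X ≫ (l.map nr).prod) *
                (z ≫ RedSub.cellMap D eneg epos) * I D X t) := by group
          _ = _ := by rw [h]; group
    set t₀ := z ≫ snd _ _ ≫ fst _ _
    rw [hz'] at hz
    have hmap : wordMap D l.reverse = AddMonoidHom.id D.M := by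
      refine AddMonoidHom.ext fun mm => by_contra fun hne => ?_
      have hne' : wordMap D l.reverse mm - mm ≠ 0 := sub_ne_zero.mpr hne
      obtain ⟨s, hs1⟩ : ∃ s : Lˣ, s ≠ 1 := by
        obtain ⟨s, hs⟩ := exists_unit_pow_ne_one (k := L) (S := {1}) (Set.finite_singleton 1)
        exact ⟨s, fun h => hs 1 rfl one_ne_zero (by simp [h])⟩
      obtain ⟨χ', hχ'⟩ := exists_char_eq hne' s
      let t := chPt f χ' ≫ D.split.inv.hom.hom
      have h1 := conj_word hnr l X t
      have h2 : (toUnit X ≫ (l.map nr).prod) * I D X t * (toUnit X ≫ (l.map nr).prod)⁻¹ = I D X t := by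
        have h := hg t
        rw [hz] at h
        have e : (toUnit X ≫ (l.map nr).prod) * I D X t₀ * I D X t =
            (toUnit X ≫ (l.map nr).prod) * I D X t * I D X t₀ := by
          rw [mul_assoc, mul_assoc, ← map_mul, ← map_mul, torus_comm D t₀ t]
        rw [mul_inv_eq_iff_eq_mul]
        refine mul_right_cancel (b := I D X t₀) ?_
        rw [← e]
        show _ = _
        rw [mul_assoc (I D X t)]
        exact h
      rw [h2] at h1
      have h3 : torG (R := L) (B := L) (f := f) D χ' = torG D (χ'.comp (wordMap D l.reverse).toMultiplicative) := by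
        refine Eq.trans ?_ (h1.trans ?_)
        · exact (Category.assoc _ _ _).symm
        · simp only [actT, t, Category.assoc, reassoc_of% hid]
          rw [← Category.assoc (chPt f χ') (Red.DSmap S _), chPt_DSmap]
          rfl
      have h4 := DFunLike.congr_fun (torG_injective D h3) (Multiplicative.ofAdd mm)
      simp only [MonoidHom.comp_apply] at h4
      have h5 : (χ' (Multiplicative.ofAdd (wordMap D l.reverse mm - mm))) *
          χ' (Multiplicative.ofAdd mm) = χ' (Multiplicative.ofAdd (wordMap D l.reverse mm)) := by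
        rw [← map_mul, ← ofAdd_add, sub_add_cancel]
      rw [hχ', show χ' (Multiplicative.ofAdd (wordMap D l.reverse mm)) = χ' (Multiplicative.ofAdd mm) from h4.symm] at h5
      exact hs1 (Units.ext (mul_eq_right₀ ((Group.isUnit _).map χ').ne_zero |>.mp h5))
    obtain ⟨t₁, ht₁⟩ := nl_mem_torus hnr hneg hpos hmap
    refine ⟨(toUnit X ≫ t₁) * t₀, ?_⟩
    rw [hz, ht₁, map_mul, ← Category.assoc]
    rfl
  refine ⟨hfield, hZ, fun g => ?_⟩
  let B := bnData D hnr X b hfield hZ
  set H : Subgroup (X ⟶ G) :=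
    Subgroup.closure (((I D X).range : Set (X ⟶ G)) ∪ ⋃ c, (rootSub D X c : Set (X ⟶ G)))
  have hU : ∀ c x, U D X c x ∈ H := fun c x => Subgroup.subset_closure (Or.inr (Set.mem_iUnion.mpr ⟨c, x, rfl⟩))
  have hn : ∀ a ∈ b.support, (toUnit X ≫ nr a) ∈ H := fun a ha => by
    refine Subgroup.closure_mono (Set.union_subset (Set.union_subset Set.subset_union_left ?_) ?_)
      (BNData.n_mem_closure (D := B) ha ?_)
    · exact fun z hz => Or.inr (Set.mem_iUnion.mpr ⟨a, hz⟩)
    · exact fun z hz => Or.inr (Set.mem_iUnion.mpr ⟨_, hz⟩)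
    · haveI : Nontrivial Γ(X.left, ⊤) := (tVal f L).symm.injective.nontrivial
      exact ⟨_, section_ne_one D a (x := GaPts.ptOfFn 1) (by rw [GaPts.gaFn_ptOfFn]; exact isUnit_one) X⟩
  obtain ⟨l, hl, z, rfl⟩ := hfac g
  refine mul_mem ?_ ?_
  · have e : toUnit X ≫ (l.map nr).prod = (l.map fun a => toUnit X ≫ nr a).prod := by
      clear hl
      induction l with
      | nil => simp [MonObj.comp_one]
      | cons a l ih => simp only [List.map_cons, List.prod_cons, MonObj.comp_mul, ih]
    rw [e]
    refine list_prod_mem fun v hv => ?_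
    obtain ⟨a, ha, rfl⟩ := List.mem_map.mp hv
    exact hn a (hl a ha)
  · rw [RedSub.cellMap, MonObj.comp_mul, MonObj.comp_mul]
    simp only [← Category.assoc]
    exact mul_mem (hword _ _ H hU) (mul_mem (Subgroup.subset_closure (Or.inl ⟨_, rfl⟩)) (hword _ _ H hU))

end Groth.Agent.RedRk29
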