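import Mathlib.Algebra.Group.Subgroup.Lattice
import Mathlib.GroupTheory.Perm.Basic
import Mathlib.Algebra.Group.Subgroup.Map
import Mathlib.Algebra.Group.Subgroup.Pointwise
import Mathlib.Tactic.Group

/-!
# The Bruhat covering in a group with root subgroups

The abstract form of the argument: a group with a torus, root subgroups and elements inducing the simple
reflections is covered by the double cosets of the Weyl words, and hence by the translates of the big cell.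
-/

namespace Groth.Agent.RedRk29

variable {G ι : Type*} [Group G]

/-- A torus, root subgroups and simple reflection elements in a group. -/
structure BNData (G ι : Type*) [Group G] where
  T : Subgroup G
  U : ι → Subgroup G
  pos : ι → Prop
  simple : ι → Prop
  neg : ι → ι
  n : ι → G
  s : ι → Equiv.Perm ι
  s_self : ∀ a, simple a → s a a = neg a
  s_inv : ∀ a c, s a (s a c) = c
  s_pos : ∀ a c, simple a → pos c → c ≠ a → pos (s a c) ∧ s a c ≠ a
  neg_iff : ∀ c, pos (neg c) ↔ ¬ pos c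
  s_neg : ∀ a c, s a (neg c) = neg (s a c)
  simple_pos : ∀ a, simple a → pos a
  reach : ∀ c, ∃ (l : List ι) (a : ι), (∀ b ∈ l, simple b) ∧ simple a ∧ (l.map s).prod a = c
  T_norm : ∀ c, ∀ t ∈ T, ∀ x ∈ U c, t * x * t⁻¹ ∈ U c
  n_T : ∀ a, simple a → ∀ t ∈ T, n a * t * (n a)⁻¹ ∈ T
  n_U : ∀ a c, simple a → ∀ x ∈ U c, n a * x * (n a)⁻¹ ∈ U (s a c)
  n_sq : ∀ a, simple a → n a * n a ∈ T
  split : ∀ (Q : ι → Prop), ∀ u ∈ ⨆ (c : ι) (_ : pos c), U c,
    ∃ p ∈ ⨆ (c : ι) (_ : pos c) (_ : Q c), U c, ∃ q ∈ ⨆ (c : ι) (_ : pos c) (_ : ¬ Q c), U c, u = p * q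
  conj_Ua : ∀ a c, simple a → pos c → c ≠ a → ∀ x ∈ U a, ∀ y ∈ U c,
    x * y * x⁻¹ ∈ ⨆ (d : ι) (_ : pos d) (_ : d ≠ a), U d
  rankOne : ∀ a, simple a → ∀ y ∈ U (neg a), y ≠ 1 → ∃ x₁ ∈ U a, ∃ t ∈ T, ∃ x₂ ∈ U a, y = x₁ * t * n a * x₂

namespace BNData

variable (D : BNData G ι)

/-- The positive root subgroups. -/
def Upos : Subgroup G := ⨆ (c : ι) (_ : D.pos c), D.U c

/-- The negative root subgroups. -/
def Uneg : Subgroup G := ⨆ (c : ι) (_ : ¬ D.pos c), D.U c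

theorem conj_mem {P : ι → Prop} {K : Subgroup G} {g : G} (h : ∀ c, P c → ∀ x ∈ D.U c, g * x * g⁻¹ ∈ K) {x : G}
    (hx : x ∈ ⨆ (c : ι) (_ : P c), D.U c) : g * x * g⁻¹ ∈ K := by
  have : (⨆ (c : ι) (_ : P c), D.U c) ≤ Subgroup.comap (MulAut.conj g).toMonoidHom K :=
    iSup₂_le fun c hc x hx => h c hc x hx
  exact this hx

theorem mem_Upos {c : ι} (hc : D.pos c) {x : G} (hx : x ∈ D.U c) : x ∈ D.Upos :=
  Subgroup.mem_iSup_of_mem c (Subgroup.mem_iSup_of_mem hc hx)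

theorem T_Upos {t u : G} (ht : t ∈ D.T) (hu : u ∈ D.Upos) : t * u * t⁻¹ ∈ D.Upos :=
  D.conj_mem (fun c hc x hx => D.mem_Upos hc (D.T_norm c t ht x hx)) hu

/-- The product of the torus and the positive root subgroups. -/
def B : Subgroup G where
  carrier := {g | ∃ u ∈ D.Upos, ∃ t ∈ D.T, g = u * t}
  one_mem' := ⟨1, one_mem _, 1, one_mem _, (one_mul 1).symm⟩
  mul_mem' := by
    rintro _ _ ⟨u, hu, t, ht, rfl⟩ ⟨u', hu', t', ht', rfl⟩
    exact ⟨u * (t * u' * t⁻¹), mul_mem hu (D.T_Upos ht hu'), t * t', mul_mem ht ht', by group⟩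
  inv_mem' := by
    rintro _ ⟨u, hu, t, ht, rfl⟩
    refine ⟨t⁻¹ * u⁻¹ * t, ?_, t⁻¹, inv_mem ht, by group⟩
    simpa using D.T_Upos (inv_mem ht) (inv_mem hu)

theorem mem_B_of_Upos {u : G} (hu : u ∈ D.Upos) : u ∈ D.B := ⟨u, hu, 1, one_mem _, (mul_one u).symm⟩

theorem mem_B_of_T {t : G} (ht : t ∈ D.T) : t ∈ D.B := ⟨1, one_mem _, t, ht, (one_mul t).symm⟩

theorem n_T' {a : ι} (ha : D.simple a) {t : G} (ht : t ∈ D.T) : (D.n a)⁻¹ * t * D.n a ∈ D.T := by
  have h := mul_mem (mul_mem (inv_mem (D.n_sq a ha)) (D.n_T a ha t ht)) (D.n_sq a ha)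
  have e : (D.n a * D.n a)⁻¹ * (D.n a * t * (D.n a)⁻¹) * (D.n a * D.n a) = (D.n a)⁻¹ * t * D.n a := by group
  rwa [e] at h

theorem n_U' {a c : ι} (ha : D.simple a) {x : G} (hx : x ∈ D.U c) : (D.n a)⁻¹ * x * D.n a ∈ D.U (D.s a c) := by
  have h := D.T_norm _ _ (inv_mem (D.n_sq a ha)) _ (D.n_U a c ha x hx)
  rw [inv_inv] at h
  convert h using 1
  group

/-- The element of a word. -/
def nl (l : List ι) : G := (l.map D.n).prod

/-- The permutation of a word. -/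
def perm (l : List ι) : Equiv.Perm ι := (l.map D.s).prod

theorem nl_T {l : List ι} (hl : ∀ b ∈ l, D.simple b) {t : G} (ht : t ∈ D.T) : (D.nl l)⁻¹ * t * D.nl l ∈ D.T := by
  induction l generalizing t with
  | nil => simpa [nl] using ht
  | cons a l ih =>
    have h := ih (fun b hb => hl b (List.mem_cons_of_mem _ hb)) (D.n_T' (hl a List.mem_cons_self) ht)
    simpa [nl, mul_assoc] using h

theorem nl_U {l : List ι} (hl : ∀ b ∈ l, D.simple b) {c : ι} {x : G} (hx : x ∈ D.U c) :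
    (D.nl l)⁻¹ * x * D.nl l ∈ D.U ((D.perm l).symm c) := by
  induction l generalizing c x with
  | nil => simpa [nl, perm, Equiv.Perm.one_def] using hx
  | cons a l ih =>
    have h := ih (fun b hb => hl b (List.mem_cons_of_mem _ hb)) (D.n_U' (hl a List.mem_cons_self) hx)
    have e : (D.perm (a :: l)).symm c = (D.perm l).symm (D.s a c) := by
      rw [Equiv.symm_apply_eq]
      simp [perm, D.s_inv]
    rw [e]
    simpa [nl, mul_assoc] using h

theorem nl_U_image {l : List ι} (hl : ∀ b ∈ l, D.simple b) {c : ι} {x : G} (hx : x ∈ D.U c) :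
    D.nl l * x * (D.nl l)⁻¹ ∈ D.U (D.perm l c) := by
  induction l with
  | nil => simpa [nl, perm] using hx
  | cons a l ih =>
    have h := D.n_U a _ (hl a List.mem_cons_self) _ (ih fun b hb => hl b (List.mem_cons_of_mem _ hb))
    simpa [nl, perm, mul_assoc] using h

theorem perm_neg (l : List ι) (c : ι) : D.perm l (D.neg c) = D.neg (D.perm l c) := by
  induction l with
  | nil => simp [perm]
  | cons a l ih =>
    simp only [perm, List.map_cons, List.prod_cons, Equiv.Perm.mul_apply] at ih ⊢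
    rw [ih, D.s_neg]

/-- The union of the double cosets of the words. -/
def cover : Set G := {g | ∃ (l : List ι), (∀ b ∈ l, D.simple b) ∧ ∃ b₁ ∈ D.B, ∃ b₂ ∈ D.B, g = b₁ * D.nl l * b₂}

theorem cover_B {b g : G} (hb : b ∈ D.B) (hg : g ∈ D.cover) : b * g ∈ D.cover := by
  obtain ⟨l, hl, b₁, h₁, b₂, h₂, rfl⟩ := hg
  exact ⟨l, hl, b * b₁, mul_mem hb h₁, b₂, h₂, by simp only [mul_assoc]⟩

theorem cover_n {a : ι} (ha : D.simple a) {g : G} (hg : g ∈ D.cover) : D.n a * g ∈ D.cover := by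
  obtain ⟨l, hl, _, ⟨u, hu, t, ht, rfl⟩, b₂, h₂, rfl⟩ := hg
  have hal : ∀ b ∈ a :: l, D.simple b := fun b hb => (List.mem_cons.mp hb).elim (fun h => h ▸ ha) (hl b)
  obtain ⟨x, hx, v, hv, rfl⟩ := D.split (fun c => c = a) u hu
  have hxa : x ∈ D.U a := (iSup₂_le fun c _ => iSup_le fun hc => hc ▸ le_refl (D.U c) :
    (⨆ (c : ι) (_ : D.pos c) (_ : c = a), D.U c) ≤ D.U a) hx
  have hK : (⨆ (c : ι) (_ : D.pos c) (_ : ¬ c = a), D.U c) = ⨆ (c : ι) (_ : D.pos c ∧ c ≠ a), D.U c :=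
    iSup_congr fun c => by rw [iSup_and]
  have hv₁ : x * v * x⁻¹ ∈ ⨆ (c : ι) (_ : D.pos c ∧ c ≠ a), D.U c := by
    rw [hK] at hv
    refine D.conj_mem (fun c hc y hy => ?_) hv
    rw [← hK]
    exact D.conj_Ua a c ha hc.1 hc.2 x hxa y hy
  have hv₂ : D.n a * (x * v * x⁻¹) * (D.n a)⁻¹ ∈ D.B :=
    D.conj_mem (fun c hc y hy => D.mem_B_of_Upos (D.mem_Upos (D.s_pos a c ha hc.1 hc.2).1 (D.n_U a c ha y hy))) hv₁
  have ht' := D.nl_T hl ht
  have e : D.n a * (x * v * t * D.nl l * b₂) =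
      (D.n a * (x * v * x⁻¹) * (D.n a)⁻¹) * (D.n a * x * D.nl l * ((D.nl l)⁻¹ * t * D.nl l * b₂)) := by group
  rw [e]
  refine D.cover_B hv₂ ?_
  have hb : (D.nl l)⁻¹ * t * D.nl l * b₂ ∈ D.B := mul_mem (D.mem_B_of_T ht') h₂
  by_cases hp : D.pos ((D.perm l).symm a)
  · refine ⟨a :: l, hal, 1, one_mem _, (D.nl l)⁻¹ * x * D.nl l * ((D.nl l)⁻¹ * t * D.nl l * b₂),
      mul_mem (D.mem_B_of_Upos (D.mem_Upos hp (D.nl_U hl hxa))) hb, ?_⟩
    simp only [nl, List.map_cons, List.prod_cons]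
    group
  by_cases hx1 : x = 1
  · refine ⟨a :: l, hal, 1, one_mem _, (D.nl l)⁻¹ * t * D.nl l * b₂, hb, ?_⟩
    simp only [hx1, nl, List.map_cons, List.prod_cons]
    group
  have hy : D.n a * x * (D.n a)⁻¹ ∈ D.U (D.neg a) := D.s_self a ha ▸ D.n_U a a ha x hxa
  have hy1 : D.n a * x * (D.n a)⁻¹ ≠ 1 := fun h => hx1 (by
    rw [mul_inv_eq_one] at h
    exact mul_eq_left.mp h)
  obtain ⟨x₁, hx₁, t₁, ht₁, x₂, hx₂, h⟩ := D.rankOne a ha _ hy hy1
  have hp' : D.pos ((D.perm (a :: l)).symm a) := by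
    have e1 : (D.perm (a :: l)).symm a = D.neg ((D.perm l).symm a) := by
      rw [Equiv.symm_apply_eq]
      simp only [perm, List.map_cons, List.prod_cons, Equiv.Perm.mul_apply]
      rw [show (l.map D.s).prod = D.perm l from rfl, D.perm_neg, Equiv.apply_symm_apply]
      rw [← D.s_self a ha, D.s_inv]
    rw [e1]
    exact (D.neg_iff _).mpr hp
  refine ⟨l, hl, x₁ * t₁ * (D.n a * D.n a),
    mul_mem (mul_mem (D.mem_B_of_Upos (D.mem_Upos (D.simple_pos a ha) hx₁)) (D.mem_B_of_T ht₁))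
      (D.mem_B_of_T (D.n_sq a ha)),
    (D.nl (a :: l))⁻¹ * x₂ * D.nl (a :: l) * ((D.nl l)⁻¹ * t * D.nl l * b₂),
    mul_mem (D.mem_B_of_Upos (D.mem_Upos hp' (D.nl_U hal hx₂))) hb, ?_⟩
  have e2 : D.n a * x = x₁ * t₁ * D.n a * x₂ * D.n a := by rw [← h, inv_mul_cancel_right]
  rw [e2]
  simp only [nl, List.map_cons, List.prod_cons]
  group

theorem cover_nl {l : List ι} (hl : ∀ b ∈ l, D.simple b) {g : G} (hg : g ∈ D.cover) : D.nl l * g ∈ D.cover := by
  induction l with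
  | nil => simpa [nl] using hg
  | cons a l ih =>
    have h := D.cover_n (hl a List.mem_cons_self) (ih fun b hb => hl b (List.mem_cons_of_mem _ hb))
    simpa [nl, mul_assoc] using h

theorem cover_nl_inv {l : List ι} (hl : ∀ b ∈ l, D.simple b) {g : G} (hg : g ∈ D.cover) :
    (D.nl l)⁻¹ * g ∈ D.cover := by
  induction l generalizing g with
  | nil => simpa [nl] using hg
  | cons a l ih =>
    have ha := hl a List.mem_cons_self
    have h := ih (fun b hb => hl b (List.mem_cons_of_mem _ hb))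
      (D.cover_B (D.mem_B_of_T (inv_mem (D.n_sq a ha))) (D.cover_n ha hg))
    simpa [nl, mul_assoc] using h

/-- The group generated by the torus and the root subgroups is covered. -/
theorem mem_cover {g : G} (hg : g ∈ Subgroup.closure ((D.T : Set G) ∪ ⋃ c, (D.U c : Set G))) : g ∈ D.cover := by
  have hU : ∀ c, ∀ x ∈ D.U c, ∀ h ∈ D.cover, x * h ∈ D.cover := fun c x hx h hh => by
    obtain ⟨l, a, hl, ha, rfl⟩ := D.reach c
    have hy := D.nl_U hl hx
    rw [show (D.perm l).symm ((l.map D.s).prod a) = a from (D.perm l).symm_apply_apply a] at hy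
    have := D.cover_nl hl (D.cover_B (D.mem_B_of_Upos (D.mem_Upos (D.simple_pos a ha) hy)) (D.cover_nl_inv hl hh))
    simpa [mul_assoc] using this
  have key : ∀ g ∈ Subgroup.closure ((D.T : Set G) ∪ ⋃ c, (D.U c : Set G)), ∀ h ∈ D.cover, g * h ∈ D.cover := by
    intro g hg
    induction hg using Subgroup.closure_induction_left with
    | one => exact fun h hh => by rwa [one_mul]
    | mul_left x hx y _ ih =>
      intro h hh
      rw [mul_assoc]
      rcases hx with hx | hx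
      · exact D.cover_B (D.mem_B_of_T hx) (ih h hh)
      · obtain ⟨c, hc⟩ := Set.mem_iUnion.mp hx
        exact hU c x hc _ (ih h hh)
    | inv_mul_cancel x hx y _ ih =>
      intro h hh
      rw [mul_assoc]
      rcases hx with hx | hx
      · exact D.cover_B (D.mem_B_of_T (inv_mem hx)) (ih h hh)
      · obtain ⟨c, hc⟩ := Set.mem_iUnion.mp hx
        exact hU c _ (inv_mem hc) _ (ih h hh)
  simpa using key g hg 1 ⟨[], by simp, 1, one_mem _, 1, one_mem _, by simp [nl]⟩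

/-- Every element of the generated group lies in a translate of the big cell. -/
theorem exists_translate {g : G} (hg : g ∈ Subgroup.closure ((D.T : Set G) ∪ ⋃ c, (D.U c : Set G))) :
    ∃ l : List ι, (∀ b ∈ l, D.simple b) ∧ ∃ v ∈ D.Uneg, ∃ t ∈ D.T, ∃ u ∈ D.Upos, g = D.nl l * (v * t * u) := by
  obtain ⟨l, hl, _, ⟨w, hw, t₁, ht₁, rfl⟩, b₂, h₂, rfl⟩ := D.mem_cover hg
  obtain ⟨p, hp, q, hq, rfl⟩ := D.split (fun c => ¬ D.pos ((D.perm l).symm c)) w hw
  have hp' : (D.nl l)⁻¹ * p * D.nl l ∈ D.Uneg := by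
    have h0 : ∀ c, (D.pos c ∧ ¬ D.pos ((D.perm l).symm c)) → ∀ x ∈ D.U c, (D.nl l)⁻¹ * x * (D.nl l)⁻¹⁻¹ ∈ D.Uneg :=
      fun c hc x hx => by
        rw [inv_inv]
        exact Subgroup.mem_iSup_of_mem _ (Subgroup.mem_iSup_of_mem hc.2 (D.nl_U hl hx))
    simpa using D.conj_mem h0 (show p ∈ ⨆ (c : ι) (_ : D.pos c ∧ ¬ D.pos ((D.perm l).symm c)), D.U c by
      convert hp using 1
      exact iSup_congr fun c => by rw [iSup_and])
  have hq' : (D.nl l)⁻¹ * q * D.nl l ∈ D.Upos := by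
    have h0 : ∀ c, (D.pos c ∧ ¬¬ D.pos ((D.perm l).symm c)) → ∀ x ∈ D.U c, (D.nl l)⁻¹ * x * (D.nl l)⁻¹⁻¹ ∈ D.Upos :=
      fun c hc x hx => by
        rw [inv_inv]
        exact D.mem_Upos (not_not.mp hc.2) (D.nl_U hl hx)
    simpa using D.conj_mem h0 (show q ∈ ⨆ (c : ι) (_ : D.pos c ∧ ¬¬ D.pos ((D.perm l).symm c)), D.U c by
      convert hq using 1
      exact iSup_congr fun c => by rw [iSup_and])
  obtain ⟨u₂, hu₂, t₂, ht₂, h⟩ := mul_mem (mul_mem (D.mem_B_of_Upos hq') (D.mem_B_of_T (D.nl_T hl ht₁))) h₂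
  refine ⟨l, hl, _, hp', t₂, ht₂, t₂⁻¹ * u₂ * t₂, by simpa using D.T_Upos (inv_mem ht₂) hu₂, ?_⟩
  calc p * q * t₁ * D.nl l * b₂
      = D.nl l * ((D.nl l)⁻¹ * p * D.nl l * ((D.nl l)⁻¹ * q * D.nl l * ((D.nl l)⁻¹ * t₁ * D.nl l) * b₂)) := by group
    _ = _ := by rw [h]; group

end BNData

end Groth.Agent.RedRk29
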