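import Groth.Agent.GITQuot.Good
import Groth.Agent.AGFRoot.BorelFixed
import Groth.Agent.BigCell29.Model
import Groth.Agent.BigCell29.Bridge
import Groth.Prelude.Def_Red
import Mathlib.CategoryTheory.Monoidal.Cartesian.Mon
import Mathlib.CategoryTheory.Monoidal.Grp

/-!
# A closed double coset of two subgroups on the points over an algebraically closed field
-/

set_option autoImplicit false
set_option linter.style.haveILetI false
set_option backward.isDefEq.respectTransparency false

universe u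

open CategoryTheory CategoryTheory.Limits MonoidalCategory CartesianMonoidalCategory AlgebraicGeometry
open scoped MonObj GrpObj Polynomial

noncomputable section

namespace Groth.Agent.RedRk29

open BigCell29 GrpSchLib.AffineHopf DSPtsLib

variable {S : Scheme.{u}} {G : Over S} [GrpObj G] {K : Type u} [Field K] (f : Spec (CommRingCat.of K) ⟶ S)

theorem theta_inv {U : Scheme.{u}} (g : U ⟶ S) {Y : Over U} (x : Y ⟶ Red.bc g G) :
    theta g x⁻¹ = (theta g x)⁻¹ := by
  refine eq_inv_of_mul_eq_one_left ?_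
  rw [← theta_mul, inv_mul_cancel]
  exact mul_eq_left.mp ((theta_mul g 1 1).symm.trans (congrArg (theta g) (mul_one 1)))

/-- A set of points containing the value at zero of every line of points that it contains elsewhere. -/
def IsLineClosed (O : Set (tObj f K ⟶ G)) : Prop :=
  ∀ ln : tObj f K[X] ⟶ G, (∀ y : K, y ≠ 0 → tMap f (Polynomial.aeval (R := K) y) ≫ ln ∈ O) →
    tMap f (Polynomial.aeval (R := K) 0) ≫ ln ∈ O

/-- Two actions by translations, one on each side. -/
def twoSidedAction {k : Type u} [Field k] {P Q G : Over (Spec (CommRingCat.of k))} [GrpObj P] [GrpObj Q] [GrpObj G]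
    (a : P ⟶ G) (c : Q ⟶ G) [IsMonHom a] [IsMonHom c] : AlgGrp.Action (P ⊗ Q) G where
  act := (fst _ _ ≫ fst P Q ≫ a) * snd _ _ * (fst _ _ ≫ snd P Q ≫ c)⁻¹
  one_act := by
    simp only [MonObj.comp_mul, GrpObj.comp_inv, whiskerRight_fst_assoc, whiskerRight_snd]
    have h1 : η[P ⊗ Q] ≫ fst P Q ≫ a = η[G] := by rw [← Category.assoc, IsMonHom.one_hom, IsMonHom.one_hom]
    have h2 : η[P ⊗ Q] ≫ snd P Q ≫ c = η[G] := by rw [← Category.assoc, IsMonHom.one_hom, IsMonHom.one_hom]
    rw [h1, h2, MonObj.one_eq_one, MonObj.comp_one, one_mul, inv_one, mul_one]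
    exact (CartesianMonoidalCategory.leftUnitor_hom _).symm
  mul_act := by
    have hm : ∀ {Z : Over (Spec (CommRingCat.of k))} (u : P ⊗ Q ⟶ Z) (φ : Z ⟶ G) [GrpObj Z] [IsMonHom u]
        [IsMonHom φ], μ[P ⊗ Q] ≫ u ≫ φ = (fst _ _ ≫ u ≫ φ) * (snd _ _ ≫ u ≫ φ) := by
      intro Z u φ _ _ _
      rw [← MonObj.mul_comp _ _ (u ≫ φ), Hom.mul_def, lift_fst_snd, Category.id_comp]
    simp only [MonObj.comp_mul, GrpObj.comp_inv, whiskerRight_fst_assoc, whiskerRight_snd, whiskerLeft_fst_assoc,
      associator_hom_fst_assoc, associator_hom_snd_fst_assoc, associator_hom_snd_snd,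
      whiskerLeft_snd]
    rw [hm (fst P Q) a, hm (snd P Q) c]
    simp only [MonObj.comp_mul, mul_inv_rev, mul_assoc]

variable [IsAlgClosed K]

/-- Some double coset of two smooth quasi-compact subgroups is line-closed. -/
theorem exists_lineClosed_coset {P Q : Over S} [GrpObj P] [GrpObj Q] (a : P ⟶ G) (c : Q ⟶ G) [IsMonHom a]
    [IsMonHom c] [Smooth P.hom] [Smooth Q.hom] [QuasiCompact P.hom] [QuasiCompact Q.hom] [Smooth G.hom]
    [QuasiCompact G.hom] :
    ∃ g : tObj f K ⟶ G, IsLineClosed f {x | ∃ (p : tObj f K ⟶ P) (q : tObj f K ⟶ Q), x = (p ≫ a) * g * (q ≫ c)⁻¹} := by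
  classical
  let Y : Over (Spec (CommRingCat.of K)) := Over.mk (Spec.map (CommRingCat.ofHom (algebraMap K K)))
  let e : 𝟙_ (Over (Spec (CommRingCat.of K))) ⟶ Y := Over.homMk (𝟙 (Spec (CommRingCat.of K))) (by
      show 𝟙 _ ≫ Spec.map (CommRingCat.ofHom (algebraMap K K)) = 𝟙 _
      simp)
  have hee : toUnit Y ≫ e = 𝟙 _ := Over.OverMorphism.ext (by
    show Spec.map (CommRingCat.ofHom (algebraMap K K)) ≫ 𝟙 _ = 𝟙 _
    simp)
  have hee' : e ≫ toUnit Y = 𝟙 _ := toUnit_unique _ _
  let aK : Red.bc f P ⟶ Red.bc f G := (Over.pullback f).map a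
  let cK : Red.bc f Q ⟶ Red.bc f G := (Over.pullback f).map c
  haveI : IsMonHom aK := by show IsMonHom ((Over.pullback f).map a); infer_instance
  haveI : IsMonHom cK := by show IsMonHom ((Over.pullback f).map c); infer_instance
  haveI : Smooth (Red.bc f P).hom := MorphismProperty.pullback_snd _ _ ‹Smooth P.hom›
  haveI : Smooth (Red.bc f Q).hom := MorphismProperty.pullback_snd _ _ ‹Smooth Q.hom›
  haveI : Smooth (Red.bc f G).hom := MorphismProperty.pullback_snd _ _ ‹Smooth G.hom›
  haveI : QuasiCompact (Red.bc f P).hom := MorphismProperty.pullback_snd _ _ ‹QuasiCompact P.hom›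
  haveI : QuasiCompact (Red.bc f Q).hom := MorphismProperty.pullback_snd _ _ ‹QuasiCompact Q.hom›
  haveI : QuasiCompact (Red.bc f G).hom := MorphismProperty.pullback_snd _ _ ‹QuasiCompact G.hom›
  haveI : Smooth (Red.bc f P ⊗ Red.bc f Q).hom := by rw [Over.tensorObj_hom]; infer_instance
  haveI : QuasiCompact (Red.bc f P ⊗ Red.bc f Q).hom := by rw [Over.tensorObj_hom]; infer_instance
  haveI : LocallyOfFiniteType (Red.bc f G).hom := inferInstance
  haveI : Nonempty (Red.bc f G).left := ⟨(η[Red.bc f G] : 𝟙_ _ ⟶ _).left.base (IsLocalRing.closedPoint K)⟩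
  let act := twoSidedAction aK cK
  obtain ⟨x, hx⟩ := AGFRoot.exists_closed_orbit act
  refine ⟨theta f (toUnit Y ≫ x), fun ln hln => ?_⟩
  obtain ⟨gm, rfl⟩ := (theta_bijective (Y := sp K K[X]) (H := G) f).surjective ln
  -- the values along the line
  let val : K → (𝟙_ (Over (Spec (CommRingCat.of K))) ⟶ Red.bc f G) := fun y =>
    e ≫ spMap (Polynomial.aeval (R := K) y) ≫ gm
  have hval : ∀ y, tMap f (Polynomial.aeval (R := K) y) ≫ theta (Y := sp K K[X]) f gm = theta f (toUnit Y ≫ val y) := by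
    intro y
    rw [← theta_spMap]
    congr 1
    simp only [val]
    rw [← Category.assoc (toUnit Y), hee, Category.id_comp]
  have hin : ∀ v : 𝟙_ _ ⟶ Red.bc f G, theta f (toUnit Y ≫ v) ∈
      {z | ∃ (p : tObj f K ⟶ P) (q : tObj f K ⟶ Q), z = (p ≫ a) * (show tObj f K ⟶ G from theta f (toUnit Y ≫ x)) * (q ≫ c)⁻¹} ↔
      v.left.base (IsLocalRing.closedPoint K) ∈ Set.range (act.orbitMap x).left.base := by
    intro v
    have hpt : ∀ (p' : 𝟙_ _ ⟶ Red.bc f P) (q' : 𝟙_ _ ⟶ Red.bc f Q),
        theta f (toUnit Y ≫ lift (lift p' q') x ≫ act.act) =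
          ((show tObj f K ⟶ P from theta f (toUnit Y ≫ p')) ≫ a) * (show tObj f K ⟶ G from theta f (toUnit Y ≫ x)) *
            ((show tObj f K ⟶ Q from theta f (toUnit Y ≫ q')) ≫ c)⁻¹ := by
      intro p' q'
      show _ = (theta f (toUnit Y ≫ p') ≫ a : (Over.map f).obj Y ⟶ G) * theta f (toUnit Y ≫ x) *
        (theta f (toUnit Y ≫ q') ≫ c : (Over.map f).obj Y ⟶ G)⁻¹
      simp only [act, twoSidedAction, MonObj.comp_mul, GrpObj.comp_inv, lift_fst_assoc, lift_snd_assoc, lift_snd]
      rw [theta_mul, theta_mul, ← Category.assoc (toUnit Y) p' aK, BigCell29.theta_map]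
      rw [theta_inv, ← Category.assoc (toUnit Y) q' cK, BigCell29.theta_map]
    constructor
    · rintro ⟨p, q, hpq⟩
      obtain ⟨p₁, rfl⟩ := (theta_bijective (Y := Y) (H := P) f).surjective p
      obtain ⟨q₁, rfl⟩ := (theta_bijective (Y := Y) (H := Q) f).surjective q
      have h1 : v = lift (lift (e ≫ p₁) (e ≫ q₁)) x ≫ act.act := by
        suffices h : toUnit Y ≫ v = toUnit Y ≫ lift (lift (e ≫ p₁) (e ≫ q₁)) x ≫ act.act by
          have h' := congrArg (e ≫ ·) h
          simpa only [reassoc_of% hee'] using h'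
        refine (theta_bijective f).injective ?_
        rw [hpq, hpt]
        simp only [reassoc_of% hee]
      rw [h1]
      refine ⟨(lift (e ≫ p₁) (e ≫ q₁)).left.base (IsLocalRing.closedPoint K), ?_⟩
      show (lift (e ≫ p₁) (e ≫ q₁) ≫ act.orbitMap x).left.base _ = _
      rw [AGFRoot.comp_orbitMap, toUnit_unique (toUnit (𝟙_ _)) (𝟙 _), Category.id_comp]
    · intro hv
      obtain ⟨g, hg⟩ := GITQuot.Good.exists_of_mem_orbit act x v hv
      refine ⟨theta f (toUnit Y ≫ g ≫ fst _ _), theta f (toUnit Y ≫ g ≫ snd _ _), ?_⟩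
      rw [← hpt, ← hg]
      congr 4
      apply CartesianMonoidalCategory.hom_ext <;> simp
  rw [hval, hin]
  have hC : IsClosed (gm.left.base ⁻¹' Set.range (act.orbitMap x).left.base) := hx.preimage gm.left.continuous
  obtain ⟨s, hs⟩ := (PrimeSpectrum.isClosed_iff_zeroLocus _).mp hC
  have hpoint : ∀ y : K, (val y).left.base (IsLocalRing.closedPoint K) =
      gm.left.base ((Spec.map (CommRingCat.ofHom (Polynomial.aeval (R := K) y).toRingHom)).base
        (IsLocalRing.closedPoint K)) := fun y => rfl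
  have hsub : ∀ p ∈ s, p = 0 := by
    intro p hp
    refine Polynomial.eq_zero_of_infinite_isRoot p (Set.Infinite.mono (fun y (hy : y ≠ 0) => ?_)
      (Set.finite_singleton (0 : K)).infinite_compl)
    have h := (hin (val y)).mp (by rw [← hval]; exact hln y hy)
    rw [hpoint] at h
    have h2 : (Spec.map (CommRingCat.ofHom (Polynomial.aeval (R := K) y).toRingHom)).base
        (IsLocalRing.closedPoint K) ∈ PrimeSpectrum.zeroLocus s := hs ▸ h
    have h3 : (Polynomial.aeval (R := K) y) p ∈ IsLocalRing.maximalIdeal K := h2 hp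
    rw [IsLocalRing.maximalIdeal_eq_bot, Ideal.mem_bot] at h3
    show p.eval y = 0
    simpa [Polynomial.coe_aeval_eq_eval] using h3
  rw [hpoint]
  show _ ∈ gm.left.base ⁻¹' Set.range (act.orbitMap x).left.base
  rw [hs]
  intro p hp
  rw [hsub p hp]
  exact zero_mem _

end Groth.Agent.RedRk29
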