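import Groth.Agent.RedRk29.Line
import Groth.Agent.RedRk29.Fix
import Mathlib.GroupTheory.Nilpotent

/-!
# The elements of a doubled root group fixing extremal points
-/

set_option autoImplicit false

universe u

open TensorProduct WithConv
open scoped AddMonoidAlgebra

namespace Groth.Agent.RedRk29

open BigCell29
open AlgGrpQ (fil)

/-- A root whose double is a root, with a point inducing the reflection. -/
structure DoubleRoot {k : Type u} [Field k] {A : Type u} [CommRing A] [HopfAlgebra k A] {M ι : Type}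
    [AddCommGroup M] (F : Frame k A M ι) where
  /-- the root -/
  a : ι
  /-- its opposite -/
  a' : ι
  /-- the opposite of its double -/
  b' : ι
  root_a' : F.root a' = -F.root a
  root_b' : F.root b' = -((2 : ℤ) • F.root a)
  /-- the reflection -/
  s : M →+ M
  /-- a point inducing the reflection -/
  n : Pt k A k
  s_s : ∀ m, s (s m) = m
  s_a : s (F.root a) = -F.root a
  s_line : ∀ m, ∃ z : ℤ, s m = m + z • F.root a
  s_root : ∀ i, ∃ i', F.root i' = s (F.root i)
  normS : NormS F s n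
  no_mix : ∀ r : ι, ∀ p q : ℕ, 1 ≤ p → 1 ≤ q → F.root r ≠ p • F.root a' + q • F.root b'

variable {M ι J : Type} [AddCommGroup M] [Module.Free ℤ M] [Module.Finite ℤ M] [Fintype ι] [Fintype J]
variable {k : Type u} [Field k] [IsAlgClosed k] {A : Type u} [CommRing A] [HopfAlgebra k A]
variable {W : J → Type u} [∀ j, AddCommGroup (W j)] [∀ j, Module k (W j)] [∀ j, Module.Finite k (W j)]
variable (F : Frame k A M ι) [Algebra.Smooth k A] [IsDomain A] (d : DoubleRoot F)
variable {π : ∀ j, Pt k A k →* Module.End k (W j)} (hπ : ∀ j, IsRegRep (π j))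
variable {V : Type u} [AddCommGroup V] [Module k V] [Module.Finite k V] {ρ : Pt k A k →* Module.End k V}
variable (hρ : IsRegRep ρ) (hgen : Generates ρ) (hne : ∀ i, F.root i ≠ 0)
variable {p₀ : ∀ j, W j} (hcl : IsClosedOrbit π p₀) (htri : ∀ q ∈ Cl π p₀, Nondeg q → HasTri π ρ q)

/-- An element of the product of the two negative root groups. -/
noncomputable def DoubleRoot.U (y₁ y₂ : k) : Pt k A k := F.rt d.a' y₁ * F.rt d.b' y₂

omit [Fintype ι] [IsAlgClosed k] [Module.Free ℤ M] [Module.Finite ℤ M] [Algebra.Smooth k A] [IsDomain A] in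
theorem DoubleRoot.lam_a' (lam : M →+ ℤ) : lam (F.root d.a') = -lam (F.root d.a) := by
  rw [d.root_a', map_neg]

omit [Fintype ι] [IsAlgClosed k] [Module.Free ℤ M] [Module.Finite ℤ M] [Algebra.Smooth k A] [IsDomain A] in
theorem DoubleRoot.lam_b' (lam : M →+ ℤ) : lam (F.root d.b') = -(2 * lam (F.root d.a)) := by
  rw [d.root_b', map_neg, map_zsmul, smul_eq_mul]

omit [Fintype ι] [IsAlgClosed k] [Module.Free ℤ M] [Module.Finite ℤ M] [Algebra.Smooth k A] [IsDomain A] in
theorem DoubleRoot.U_mem_posRt {lam : M →+ ℤ} (h : lam (F.root d.a) < 0) (y₁ y₂ : k) :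
    d.U F y₁ y₂ ∈ posRt F lam :=
  mul_mem (rt_mem_posRt F lam (by rw [d.lam_a']; omega) _) (rt_mem_posRt F lam (by rw [d.lam_b']; omega) _)

omit [Fintype ι] [IsAlgClosed k] [Module.Free ℤ M] [Module.Finite ℤ M] [Algebra.Smooth k A] [IsDomain A] in
theorem DoubleRoot.lam_s (lam : M →+ ℤ) : (lam.comp d.s) (F.root d.a) = -lam (F.root d.a) := by
  rw [AddMonoidHom.comp_apply, d.s_a, map_neg]

include hπ hcl in
omit [Fintype J] in
theorem eq_of_same_sign [Fintype J] {lam lam' : M →+ ℤ} (hlam : Good F π lam) (hlam' : Good F π lam') {α : M}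
    {x y : ∀ j, W j} {m m' : J → M} (hx : Ext F π p₀ lam x m) (hy : Ext F π p₀ lam' y m')
    (hsign : 0 < lam α * lam' α) (hline : ∀ j, ∃ z : ℤ, m' j = m j + z • α) :
    Prop' (k := k) x y ∧ m' = m := by
  choose z hz using hline
  have hsum : wsum m' = wsum m + (∑ j, z j) • α := by
    simp only [wsum, hz, Finset.sum_add_distrib, Finset.sum_smul]
  obtain ⟨h1, h1'⟩ := Ext.max F hπ hcl hlam hx hy.1 hy.2.1
  obtain ⟨h2, -⟩ := Ext.max F hπ hcl hlam' hy hx.1 hx.2.1
  rw [hsum, map_add, map_zsmul, smul_eq_mul] at h1 h1' h2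
  set K := ∑ j, z j
  have hK : K * lam α = 0 := by
    have a1 : K * lam α ≤ 0 := by omega
    have a2 : 0 ≤ K * lam' α := by omega
    rcases lt_or_eq_of_le a1 with h | h
    · exfalso
      have : 0 ≤ (K * K) * (lam α * lam' α) := mul_nonneg (mul_self_nonneg K) hsign.le
      have h' : (K * lam α) * (K * lam' α) ≤ 0 := mul_nonpos_of_nonpos_of_nonneg a1 a2
      have h'' : (K * K) * (lam α * lam' α) = 0 := le_antisymm (by linarith [h']) this
      rcases mul_eq_zero.mp h'' with h0 | h0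
      · rw [mul_self_eq_zero.mp h0, zero_mul] at h
        exact lt_irrefl _ h
      · omega
    · exact h
  exact h1' (by omega)

include hπ hρ hgen hne hcl htri in
/-- On the string of an extremal point lie only it and its reflection. -/
theorem classify {lam : M →+ ℤ} (hlam : Good F π lam) {x : ∀ j, W j} {m : J → M} (hx : Ext F π p₀ lam x m)
    (hpos : 0 < lam (F.root d.a)) {y : ∀ j, W j} {my : J → M} (hy : y ∈ Cl π p₀) (hey : Eig F π y my)
    (hline : ∀ j, ∃ z : ℤ, my j = m j + z • F.root d.a) :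
    (Prop' (k := k) x y ∧ my = m) ∨
      (Prop' (k := k) (fun j => π j d.n (x j)) y ∧ my = fun j => d.s (m j)) := by
  obtain ⟨lam', hlam', hy'⟩ := exists_ext_of_eig F π hρ hgen hπ hne hcl htri hy hey
  rcases lt_trichotomy (lam' (F.root d.a)) 0 with h | h | h
  · refine Or.inr (eq_of_same_sign F hπ hcl (good_comp F d.s_s d.normS d.s_root hlam) hlam'
      (ext_reflect F hπ hcl d.s_s d.s_root d.normS hlam hx) hy' (α := F.root d.a) ?_ fun j => ?_)
    · rw [d.lam_s F]
      exact mul_pos_of_neg_of_neg (by omega) h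
    · obtain ⟨z, hz⟩ := hline j
      obtain ⟨z₁, hz₁⟩ := d.s_line (m j)
      exact ⟨z - z₁, by rw [hz, hz₁, sub_smul]; abel⟩
  · exact absurd h (hlam'.1 d.a)
  · exact Or.inl (eq_of_same_sign F hπ hcl hlam hlam' hx hy' (mul_pos hpos h) hline)

include hπ hρ hgen hne hcl htri in
/-- Some nontrivial element of the doubled root group fixes a given positive point. -/
theorem exists_fix {lam : M →+ ℤ} (hlam : Good F π lam) {x : ∀ j, W j} {m : J → M} (hx : Ext F π p₀ lam x m)
    (hpos : 0 < lam (F.root d.a)) :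
    ∃ y₁ y₂ : k, (y₁ ≠ 0 ∨ y₂ ≠ 0) ∧ ∀ j, π j (d.U F y₁ y₂) (x j) = x j := by
  classical
  by_contra hcon
  push Not at hcon
  set lam' := lam.comp d.s with hlam'def
  have hg' : Good F π lam' := good_comp F d.s_s d.normS d.s_root hlam
  have hneg : lam' (F.root d.a) < 0 := by rw [hlam'def, d.lam_s F]; omega
  have hL : ∀ y₁ y₂, d.U F y₁ y₂ ∈ lineStable F π (F.root d.a) := fun y₁ y₂ =>
    mul_mem (rt_mem_lineStable F hπ (z₀ := -1) (by rw [d.root_a', neg_one_smul]) _)
      (rt_mem_lineStable F hπ (z₀ := -2) (by rw [d.root_b', neg_smul]) _)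
  have key : ∀ y₁ y₂ : k, (y₁ ≠ 0 ∨ y₂ ≠ 0) →
      Prop' (k := k) (fun j => π j d.n (x j))
          (fun j => wt F (hπ j) (π j (d.U F y₁ y₂) (x j)) (d.s (m j))) ∧
        ∃ j, d.s (m j) ≠ m j := by
    intro y₁ y₂ hy
    have hn : Nondeg (fun j => π j (d.U F y₁ y₂) (x j)) := fun j h0 => hx.2.1.1 j (by
      have e := congrArg (π j (d.U F y₁ y₂)⁻¹) (show π j (d.U F y₁ y₂) (x j) = 0 from h0)
      rwa [map_zero, ← Module.End.mul_apply, ← map_mul, inv_mul_cancel, map_one, Module.End.one_apply] at e)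
    have hc : (fun j => π j (d.U F y₁ y₂) (x j)) ∈ Cl π p₀ :=
      cl_orb π hx.1 ⟨d.U F y₁ y₂, 1, fun j => by simp⟩
    obtain ⟨mt, hmt⟩ := exists_isTop F hπ lam' hn
    have hline : ∀ j, ∃ z : ℤ, mt j = m j + z • F.root d.a := fun j => by
      refine exists_of_comp_lineSub F (hπ j) ((hL y₁ y₂).1 j (m j) (x j) ?_) (hmt j).1
      simpa using Wt_le_lineSub F (F.root d.a) (m j) 0 (by simpa using hx.2.1.2 j)
    have hnot : mt ≠ m := by
      intro he
      obtain ⟨j, hj⟩ := hcon y₁ y₂ hy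
      refine hj (sub_eq_zero.mp ?_)
      have hd : x j ∈ Hi F (π j) lam' (lam' (m j)) := Wt_le_Hi F (π j) lam' le_rfl (hx.2.1.2 j)
      have hup := sub_mem_Hi F lam' (hπ j) (d.U_mem_posRt F hneg y₁ y₂) hd
      rw [← sum_wt F (hπ j) (π j (d.U F y₁ y₂) (x j) - x j)]
      refine Finset.sum_eq_zero fun n hn' => ?_
      rw [Finsupp.mem_support_iff] at hn'
      exfalso
      by_cases hlt : lam' n < lam' (m j) + 1
      · exact hn' (comp_Hi F lam' (hπ j) hup hlt)
      · refine hn' ?_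
        rw [← comp_apply, map_sub, comp_of_mem F (hπ j) (hx.2.1.2 j), if_neg (fun h => hlt (by rw [h]; omega)),
          sub_zero, comp_apply]
        by_contra h0
        have := (hmt j).2 n h0
        rw [he] at this
        omega
    rcases classify F d hπ hρ hgen hne hcl htri hlam hx hpos (top_mem F hπ lam' hc hmt hg'.2)
        (top_eig F hπ lam' hmt) hline with ⟨-, h⟩ | ⟨h, h'⟩
    · exact absurd h hnot
    · subst h'
      refine ⟨h, ?_⟩
      by_contra hall
      push Not at hall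
      exact hnot (funext hall)
  choose φ hφ using fun j => Module.Projective.exists_dual_eq_one k
    (show π j d.n (x j) ≠ 0 from (d.normS.eig F hx.2.1).1 j)
  have hexp : ∀ j, ∃ P : MvPolynomial (Fin 2) k, ∀ y₁ y₂ : k,
      φ j (comp F (hπ j) (d.s (m j)) (π j (d.U F y₁ y₂) (x j))) = MvPolynomial.eval ![y₁, y₂] P := by
    intro j
    obtain ⟨f, hf⟩ := exists_root_poly F (hπ j) d.b' (x j)
    choose g hg using fun n => exists_root_poly F (hπ j) d.a' (f n)
    refine ⟨∑ n ∈ f.support, MvPolynomial.X 1 ^ n *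
      ∑ l ∈ (g n).support, MvPolynomial.X 0 ^ l * MvPolynomial.C (φ j (comp F (hπ j) (d.s (m j)) (g n l))),
      fun y₁ y₂ => ?_⟩
    simp only [DoubleRoot.U, map_mul, Module.End.mul_apply, hf, hg, Finsupp.sum, map_sum, map_smul,
      MvPolynomial.eval_pow, MvPolynomial.eval_X, MvPolynomial.eval_C, smul_eq_mul, Matrix.cons_val_zero,
      Matrix.cons_val_one]
  choose P hP using hexp
  let Q : MvPolynomial (Fin 2) k := ∏ j, P j
  have hQ : ∀ y₁ y₂, MvPolynomial.eval ![y₁, y₂] Q =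
      ∏ j, φ j (comp F (hπ j) (d.s (m j)) (π j (d.U F y₁ y₂) (x j))) := fun y₁ y₂ => by
    simp [Q, hP]
  have hQne : ∀ y₁ y₂ : k, (y₁ ≠ 0 ∨ y₂ ≠ 0) → MvPolynomial.eval ![y₁, y₂] Q ≠ 0 := by
    intro y₁ y₂ hy
    obtain ⟨⟨c, hc⟩, -⟩ := key y₁ y₂ hy
    rw [hQ, Finset.prod_ne_zero_iff]
    intro j _
    have hcj : wt F (hπ j) (π j (d.U F y₁ y₂) (x j)) (d.s (m j)) = c j • π j d.n (x j) := (hc j).2
    rw [comp_apply, hcj, map_smul, hφ, smul_eq_mul, mul_one]
    exact (hc j).1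
  have hQ0 : MvPolynomial.eval ![(0 : k), 0] Q = 0 := by
    obtain ⟨-, j, hj⟩ := key 1 0 (Or.inl one_ne_zero)
    rw [hQ, Finset.prod_eq_zero_iff]
    refine ⟨j, Finset.mem_univ _, ?_⟩
    rw [show d.U F 0 0 = 1 by simp [DoubleRoot.U, F.rt_zero], map_one, Module.End.one_apply,
      comp_of_mem F (hπ j) (hx.2.1.2 j), if_neg (Ne.symm hj), map_zero]
  let q : k → Polynomial k := fun c => MvPolynomial.aeval ![Polynomial.X, Polynomial.C c] Q
  have hq : ∀ y c, (q c).eval y = MvPolynomial.eval ![y, c] Q := fun y c => by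
    rw [← Polynomial.coe_aeval_eq_eval, ← AlgHom.comp_apply, MvPolynomial.comp_aeval, MvPolynomial.aeval_eq_eval]
    congr 2
    funext i
    fin_cases i <;> simp
  have hconst : ∀ c, c ≠ 0 → ∀ y, MvPolynomial.eval ![y, c] Q = MvPolynomial.eval ![(0 : k), c] Q := by
    intro c hc y
    rw [← hq, ← hq]
    have hdeg : (q c).degree ≤ 0 := by
      by_contra hd
      obtain ⟨z, hz⟩ := IsAlgClosed.exists_root (q c) (fun h => hd (le_of_eq h))
      exact hQne z c (Or.inr hc) (by rw [← hq]; exact hz)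
    rw [Polynomial.eq_C_of_degree_le_zero hdeg]
    simp
  let R : MvPolynomial (Fin 2) k := Q - MvPolynomial.aeval ![0, MvPolynomial.X 1] Q
  have hR : ∀ v : Fin 2 → k, MvPolynomial.eval v R =
      MvPolynomial.eval ![v 0, v 1] Q - MvPolynomial.eval ![0, v 1] Q := fun v => by
    rw [map_sub]
    simp only [← MvPolynomial.aeval_eq_eval]
    rw [← AlgHom.comp_apply (MvPolynomial.aeval v) (MvPolynomial.aeval _), MvPolynomial.comp_aeval]
    congr 3
    · funext i; fin_cases i <;> simp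
    · funext i; fin_cases i <;> simp
  have hzero : R * MvPolynomial.X 1 = 0 := MvPolynomial.funext fun v => by
    rw [map_mul, map_zero, MvPolynomial.eval_X, hR]
    by_cases h : v 1 = 0
    · rw [h, mul_zero]
    · rw [hconst _ h, sub_self, zero_mul]
  have hR0 : R = 0 := (mul_eq_zero.mp hzero).resolve_right (MvPolynomial.X_ne_zero _)
  have := hR ![1, 0]
  simp only [hR0, map_zero, Matrix.cons_val_zero, Matrix.cons_val_one] at this
  exact hQne 1 0 (Or.inl one_ne_zero) (by rw [sub_eq_zero.mp this.symm]; exact hQ0)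

include hπ hρ hgen hne hcl htri in
/-- An element fixing one positive point fixes all of them. -/
theorem fix_propagate {lam lam' : M →+ ℤ} (hlam : Good F π lam) (hlam' : Good F π lam')
    {x x' : ∀ j, W j} {m m' : J → M} (hx : Ext F π p₀ lam x m) (hx' : Ext F π p₀ lam' x' m')
    (hpos : 0 < lam (F.root d.a)) (hpos' : 0 < lam' (F.root d.a)) {y₁ y₂ : k}
    (hfix : ∀ j, π j (d.U F y₁ y₂) (x j) = x j) : ∀ j, π j (d.U F y₁ y₂) (x' j) = x' j := by
  classical
  by_contra hcon
  push Not at hcon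
  set u := d.U F y₁ y₂
  have hnx := ext_reflect F hπ hcl d.s_s d.s_root d.normS hlam hx
  have hnx' := ext_reflect F hπ hcl d.s_s d.s_root d.normS hlam' hx'
  have hinvx' := ext_reflect F hπ hcl d.s_s d.s_root (d.normS.inv F d.s_s) hlam' hx'
  have hnil : ∀ {Z : Type u} [AddCommGroup Z] [Module k Z] [Module.Finite k Z] {σ : Pt k A k →* Module.End k Z},
      IsRegRep σ → IsNilpotent (σ u - 1) := fun hσ =>
    isNilpotent_sub_one F (lam.comp d.s) hσ (d.U_mem_posRt F (by rw [d.lam_s F]; omega) y₁ y₂)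
  let b : (Multiplicative M →* k) → Pt k A k := fun χ => (d.n * F.T.tor χ) * u * (d.n * F.T.tor χ)⁻¹
  have hbnx : ∀ χ j, π j (b χ) (π j d.n (x j)) = π j d.n (x j) := by
    intro χ j
    have e1 : π j (F.T.tor χ)⁻¹ (x j) = charInv χ (Multiplicative.ofAdd (m j)) • x j := by
      rw [← tor_charInv]; exact hx.2.1.2 j _
    have e2 : π j u (π j (F.T.tor χ)⁻¹ (x j)) = π j (F.T.tor χ)⁻¹ (x j) := by rw [e1, map_smul, hfix]
    have e3 : (d.n * F.T.tor χ) * u * (d.n * F.T.tor χ)⁻¹ * d.n = d.n * (F.T.tor χ * u * (F.T.tor χ)⁻¹) := by group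
    rw [← Module.End.mul_apply, ← map_mul, e3, map_mul, map_mul, map_mul, Module.End.mul_apply,
      Module.End.mul_apply, Module.End.mul_apply, e2, ← Module.End.mul_apply (π j (F.T.tor χ)), ← map_mul,
      mul_inv_cancel, map_one, Module.End.one_apply]
  have hbx' : ∀ χ j, π j (b χ) (x' j) = x' j := by
    intro χ j
    have hu' : π j u (π j (d.n⁻¹) (x' j)) = π j (d.n⁻¹) (x' j) :=
      hinvx'.2.2 u (d.U_mem_posRt F (by rw [d.lam_s F]; omega) y₁ y₂) j
    have e1 : π j (F.T.tor χ)⁻¹ (π j d.n⁻¹ (x' j)) =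
        charInv χ (Multiplicative.ofAdd (d.s (m' j))) • π j d.n⁻¹ (x' j) := by
      rw [← tor_charInv]; exact hinvx'.2.1.2 j _
    have e2 : π j u (π j (F.T.tor χ)⁻¹ (π j d.n⁻¹ (x' j))) = π j (F.T.tor χ)⁻¹ (π j d.n⁻¹ (x' j)) := by
      rw [e1, map_smul, hu']
    show π j (d.n * F.T.tor χ * u * (d.n * F.T.tor χ)⁻¹) (x' j) = x' j
    rw [mul_inv_rev]
    simp only [map_mul, Module.End.mul_apply]
    rw [e2]
    simp only [← Module.End.mul_apply, ← map_mul]
    rw [show d.n * (F.T.tor χ * ((F.T.tor χ)⁻¹ * d.n⁻¹)) = 1 by group, map_one, Module.End.one_apply]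
  let S : Set (Pt k A k) := Set.range b ∪ (Set.range (F.rt d.a') ∪ Set.range (F.rt d.b'))
  let Q : Subgroup (Pt k A k) := Subgroup.closure S
  have hSnil : ∀ g ∈ S, ∀ {Z : Type u} [AddCommGroup Z] [Module k Z] [Module.Finite k Z]
      {σ : Pt k A k →* Module.End k Z}, IsRegRep σ → IsNilpotent (σ g - 1) := by
    rintro g (⟨χ, rfl⟩ | ⟨z, rfl⟩ | ⟨z, rfl⟩) Z _ _ _ σ hσ
    · exact isNilpotent_conj_sub_one (hnil hσ) _
    · exact isNilpotent_sub_one F (lam.comp d.s) hσ
        (rt_mem_posRt F _ (by rw [d.lam_a' F, d.lam_s F]; omega) _)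
    · exact isNilpotent_sub_one F (lam.comp d.s) hσ
        (rt_mem_posRt F _ (by rw [d.lam_b' F, d.lam_s F]; omega) _)
  have hQfix : ∀ g ∈ Q, ∀ j, π j g (π j d.n (x j)) = π j d.n (x j) := by
    intro g hg
    induction hg using Subgroup.closure_induction with
    | mem g hg =>
      rcases hg with ⟨χ, rfl⟩ | ⟨z, rfl⟩ | ⟨z, rfl⟩
      · exact hbnx χ
      · exact hnx.2.2 _ (rt_mem_posRt F _ (by rw [d.lam_a' F, d.lam_s F]; omega) _)
      · exact hnx.2.2 _ (rt_mem_posRt F _ (by rw [d.lam_b' F, d.lam_s F]; omega) _)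
    | one => simp
    | mul g h _ _ hg hh => intro j; rw [map_mul, Module.End.mul_apply, hh, hg]
    | inv g _ hg =>
      intro j
      conv_lhs => rw [← hg j]
      rw [← Module.End.mul_apply, ← map_mul, inv_mul_cancel, map_one, Module.End.one_apply]
  have hQL : Q ≤ lineStable F π (F.root d.a) := by
    have ha : ∀ z, F.rt d.a' z ∈ lineStable F π (F.root d.a) := fun z =>
      rt_mem_lineStable F hπ (z₀ := -1) (by rw [d.root_a', neg_one_smul]) _
    have hb : ∀ z, F.rt d.b' z ∈ lineStable F π (F.root d.a) := fun z =>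
      rt_mem_lineStable F hπ (z₀ := -2) (by rw [d.root_b', neg_smul]) _
    refine Subgroup.closure_le _ |>.mpr ?_
    rintro g (⟨χ, rfl⟩ | ⟨z, rfl⟩ | ⟨z, rfl⟩)
    · have h1 : d.n * F.T.tor χ ∈ lineStable F π (F.root d.a) :=
        mul_mem (mem_lineStable_of_normS F d.s_s d.s_a d.s_line d.normS) (tor_mem_lineStable F χ)
      exact mul_mem (mul_mem h1 (mul_mem (ha _) (hb _))) (inv_mem h1)
    · exact ha z
    · exact hb z
  obtain ⟨N, fl, hfl, hf0, hfn, hrk, hst⟩ := htri _ hnx.1 hnx.2.1.1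
  have hQ1 : ∀ g ∈ Q, ρ g - 1 ∈ fil fl 1 := by
    have hQ0 : ∀ g ∈ Q, ρ g ∈ fil fl 0 := fun g hg => hst g (fix_mem_lineStab π (hQfix g hg))
    intro g hg
    induction hg using Subgroup.closure_induction with
    | mem g hg => exact sub_one_mem_fil_one hfl hf0 hfn hrk (hQ0 g (Subgroup.subset_closure hg)) (hSnil g hg hρ)
    | one => simp
    | mul g h hgm hhm hg hh =>
      have e : ρ (g * h) - 1 = ρ g * (ρ h - 1) + (ρ g - 1) := by rw [map_mul, mul_sub, mul_one]; abel
      rw [e]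
      exact Submodule.add_mem _ (by simpa using AlgGrpQ.mul_mem_fil (hQ0 g hgm) hh) hg
    | inv g hgm hg =>
      have e : ρ g⁻¹ - 1 = -(ρ g⁻¹ * (ρ g - 1)) := by
        rw [mul_sub, ← map_mul, inv_mul_cancel, map_one, mul_one, neg_sub]
      rw [e]
      exact Submodule.neg_mem _ (by simpa using AlgGrpQ.mul_mem_fil (hQ0 _ (inv_mem hgm)) hg)
  haveI : Group.IsNilpotent Q := AlgGrpQ.isNilpotent_of_faithful_fil (ρ := ρ.comp Q.subtype) hfl hf0 hfn
    ((hgen.injective).comp Subtype.val_injective) fun g => hQ1 g g.2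
  let Qs : Subgroup Q := (lineStab π x').comap Q.subtype
  by_cases htop : Qs = ⊤
  · obtain ⟨j, hj⟩ := hcon
    have hline : ∀ g ∈ S, g ∈ lineStab π x' := fun g hg =>
      show (⟨g, Subgroup.subset_closure hg⟩ : Q) ∈ Qs from htop ▸ Subgroup.mem_top _
    have hexact : ∀ g ∈ S, π j g (x' j) = x' j := fun g hg => by
      obtain ⟨c, -, hc⟩ := hline g hg j
      exact fix_of_line (hSnil g hg (hπ j)) (hx'.2.1.1 j) hc
    refine hj ?_
    show π j (F.rt d.a' y₁ * F.rt d.b' y₂) (x' j) = x' j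
    rw [map_mul, Module.End.mul_apply, hexact _ (.inr (.inr ⟨_, rfl⟩)), hexact _ (.inr (.inl ⟨_, rfl⟩))]
  have hlt := normalizerCondition_of_isNilpotent (G := Q) Qs (lt_top_iff_ne_top.mpr htop)
  obtain ⟨q, hqN, hqS⟩ := SetLike.exists_of_lt hlt
  have hbS : ∀ χ, b χ ∈ Q := fun χ => Subgroup.subset_closure (.inl ⟨χ, rfl⟩)
  have hbfix : ∀ χ j, π j (b χ) (π j (q : Pt k A k) (x' j)) = π j (q : Pt k A k) (x' j) := by
    intro χ j
    have hmem : q⁻¹ * ⟨b χ, hbS χ⟩ * q ∈ Qs :=
      (Subgroup.mem_normalizer_iff''.mp hqN _).mp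
        (show b χ ∈ lineStab π x' from fix_mem_lineStab π (hbx' χ))
    obtain ⟨c, -, hc⟩ := hmem j
    refine fix_of_line (hSnil _ (.inl ⟨χ, rfl⟩) (hπ j)) (c := c) (fun h0 => hx'.2.1.1 j (by
      have e := congrArg (π j (q : Pt k A k)⁻¹) h0
      rwa [map_zero, ← Module.End.mul_apply, ← map_mul, inv_mul_cancel, map_one, Module.End.one_apply] at e)) ?_
    have e := congrArg (π j (q : Pt k A k)) hc
    rw [map_smul, ← Module.End.mul_apply, ← map_mul] at e
    rw [← e, ← Module.End.mul_apply, ← map_mul]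
    congr 2
    show b χ * (q : Pt k A k) = (q : Pt k A k) * ((q : Pt k A k)⁻¹ * b χ * (q : Pt k A k))
    group
  have hbwt : ∀ χ j n, π j (b χ) (wt F (hπ j) (π j (q : Pt k A k) (x' j)) n) =
      wt F (hπ j) (π j (q : Pt k A k) (x' j)) n := by
    intro χ₀ j n
    set w := π j (q : Pt k A k) (x' j)
    set f := wt F (hπ j) w
    refine DFunLike.congr_fun (wt_unique (k := k) (f := f.mapRange (π j (b χ₀)) (map_zero _)) (f' := f) fun χ => ?_) n
    rw [Finsupp.sum_mapRange_index (fun _ => smul_zero _), ← tor_eq_sum_wt F (hπ j) w χ]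
    simp only [← map_smul]
    rw [← map_finsuppSum, ← tor_eq_sum_wt F (hπ j) w χ, ← Module.End.mul_apply, ← map_mul]
    let χ₁ := (charInv χ).comp d.s.toMultiplicative * χ₀
    have e : b χ₀ * F.T.tor χ = F.T.tor χ * b χ₁ := by
      have h1 : d.n * F.T.tor χ₁ = (F.T.tor χ)⁻¹ * (d.n * F.T.tor χ₀) := by
        rw [map_mul, ← mul_assoc, ← d.normS, ← mul_assoc, tor_charInv]
      show d.n * F.T.tor χ₀ * u * (d.n * F.T.tor χ₀)⁻¹ * F.T.tor χ =
        F.T.tor χ * (d.n * F.T.tor χ₁ * u * (d.n * F.T.tor χ₁)⁻¹)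
      rw [h1]; group
    rw [e, map_mul, Module.End.mul_apply, hbfix]
  have htopw : ∀ μ, Good F π μ → ∀ mt : J → M,
      IsTop F hπ μ (fun j => π j (q : Pt k A k) (x' j)) mt →
      mt = m' ∧ Prop' (k := k) x' (fun j => wt F (hπ j) (π j (q : Pt k A k) (x' j)) (mt j)) := by
    intro μ hμ mt hmt
    have hline : ∀ j, ∃ z : ℤ, mt j = m' j + z • F.root d.a := fun j => by
      refine exists_of_comp_lineSub F (hπ j) ((hQL q.2).1 j (m' j) (x' j) ?_) (hmt j).1
      simpa using Wt_le_lineSub F (F.root d.a) (m' j) 0 (by simpa using hx'.2.1.2 j)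
    rcases classify F d hπ hρ hgen hne hcl htri hlam' hx' hpos'
        (top_mem F hπ μ (cl_orb π hx'.1 ⟨(q : Pt k A k), 1, fun j => by simp⟩) hmt hμ.2)
        (top_eig F hπ μ hmt) hline with ⟨h, h'⟩ | ⟨⟨c, hc⟩, -⟩
    · exact ⟨h', h⟩
    · exfalso
      obtain ⟨j, hj⟩ := hcon
      refine hj ?_
      have h1 := hbwt 1 j (mt j)
      have hcj : wt F (hπ j) (π j (q : Pt k A k) (x' j)) (mt j) = c j • π j d.n (x' j) := (hc j).2
      rw [hcj, map_smul] at h1
      have h2 := smul_right_injective _ (hc j).1 h1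
      have h3 : π j (b 1) (π j d.n (x' j)) = π j d.n (π j u (x' j)) := by
        rw [← Module.End.mul_apply, ← map_mul, ← Module.End.mul_apply, ← map_mul]
        congr 2
        simp [b]
      rw [h3] at h2
      have e := congrArg (π j d.n⁻¹) h2
      rwa [← Module.End.mul_apply, ← map_mul, inv_mul_cancel, map_one, Module.End.one_apply,
        ← Module.End.mul_apply, ← map_mul, inv_mul_cancel, map_one, Module.End.one_apply] at e
  have hqn : Nondeg (fun j => π j (q : Pt k A k) (x' j)) := fun j h0 => hx'.2.1.1 j (by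
    have e := congrArg (π j (q : Pt k A k)⁻¹) (show π j (q : Pt k A k) (x' j) = 0 from h0)
    rwa [map_zero, ← Module.End.mul_apply, ← map_mul, inv_mul_cancel, map_one, Module.End.one_apply] at e)
  have hg2 : Good F π (-lam') := good_neg π F hlam'
  obtain ⟨mt, hmt⟩ := exists_isTop F hπ lam' hqn
  obtain ⟨mt', hmt'⟩ := exists_isTop F hπ (-lam') hqn
  obtain ⟨rfl, hprop⟩ := htopw lam' hlam' mt hmt
  obtain ⟨he', -⟩ := htopw (-lam') hg2 mt' hmt'
  refine hqS ?_
  show (q : Pt k A k) ∈ lineStab π x'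
  intro j
  obtain ⟨c, hc⟩ := hprop
  refine ⟨c j, (hc j).1, ?_⟩
  rw [← (hc j).2]
  conv_lhs => rw [← sum_wt F (hπ j) (π j (q : Pt k A k) (x' j))]
  rw [Finsupp.sum, Finset.sum_eq_single (mt j)]
  · intro n hn hn'
    rw [Finsupp.mem_support_iff] at hn
    exfalso
    have h1 := (hmt j).2 n hn
    have h2 := (hmt' j).2 n hn
    rw [he'] at h2
    simp only [AddMonoidHom.neg_apply] at h2
    refine hn' (hlam'.2 ⟨j, fun hb => hn ?_⟩ (hx'.2.1.mem_wts F hπ j) (le_antisymm h1 (by omega)))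
    have := wt_mem F (hπ j) (π j (q : Pt k A k) (x' j)) n
    rwa [hb, Submodule.mem_bot] at this
  · intro h
    simp [Finsupp.notMem_support_iff.mp h]

end Groth.Agent.RedRk29
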