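import Groth.Agent.RedRk29.BruhatCover
import Groth.Agent.RedRk29.OppBase

/-!
# Translates of the big cell by simple unipotent sections cover the group
-/

set_option autoImplicit false

universe u

open CategoryTheory MonoidalCategory CartesianMonoidalCategory AlgebraicGeometry
open scoped MonObj GrpObj

noncomputable section

namespace Groth.Agent.RedRk29

open BigCell29 GrpSchLib Rank2Red38

variable {S : Scheme.{u}} {G : Over S} [GrpObj G] (D : Red.SplitRed G)

theorem exists_realisesReflections : ∃ nr : D.idx → (𝟙_ (Over S) ⟶ G), RedSub.RealisesReflections D nr := by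
  choose n hn using D.refl
  exact ⟨n, hn⟩

/-- A section with invertible coordinate of a root group is non-trivial at a nonempty test object. -/
theorem section_ne_one (a : D.idx) {x : 𝟙_ (Over S) ⟶ Red.Ga S} (hx : IsUnit (Red.gaFn x)) (X : Over S)
    [Nontrivial Γ(X.left, ⊤)] : (toUnit X ≫ x ≫ D.u a) ∈ rootSub D X a ∧ toUnit X ≫ x ≫ D.u a ≠ 1 := by
  have e : toUnit X ≫ x ≫ D.u a = U D X a ((toUnit X).left.appTop (Red.gaFn x)) := by
    rw [← Category.assoc, pt_comp_eq, GaPts.gaFn_comp]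
  refine ⟨⟨_, e.symm⟩, fun h => ?_⟩
  obtain ⟨lam, hgen, hpos⟩ := exists_generic_pos D a
  have h0 := (hasNormalForm D).mono hgen hpos (X := X) (y := 0)
    ((e.symm.trans h).trans (U_oneParam D (X := X) a).zero.symm)
  exact (hx.map (toUnit X).left.appTop.hom).ne_zero h0

theorem comp_monoid {X : Over S} (w : 𝟙_ (Over S) ⟶ G) {Z : Over S} (y : X ⟶ Z) (c : Z ⟶ G) :
    y ≫ ((toUnit Z ≫ w) * c) = (toUnit X ≫ w) * (y ≫ c) := by
  rw [MonObj.comp_mul, ← Category.assoc, toUnit_unique (y ≫ toUnit Z) (toUnit X)]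

variable (b : D.P.Base) {n m : ℕ} {eneg : Fin n → D.idx} {epos : Fin m → D.idx}
  (hneg : RedSub.Enumerates (RedSub.negRoots D.P b) eneg) (hpos : RedSub.Enumerates (RedSub.posRoots D.P b) epos)

variable {D b}

/-- The test object of a geometric point has a nontrivial ring of functions. -/
theorem nontrivial_geom (s : S) :
    Nontrivial Γ((tObj (Red.geomPt s) (AlgebraicClosure (S.residueField s))).left, ⊤) :=
  (tVal (Red.geomPt s) (AlgebraicClosure (S.residueField s))).symm.injective.nontrivial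

include hneg hpos in
theorem cell_factor {nr : D.idx → (𝟙_ (Over S) ⟶ G)} (hnr : RedSub.RealisesReflections D nr) [Nonempty S] (X : Over S)
    (hfield : ∀ x : Γ(X.left, ⊤), x ≠ 0 → IsUnit x)
    (hZ : ∀ g : X ⟶ G, (∀ t, g * I D X t = I D X t * g) → ∃ t, g = I D X t) {g : X ⟶ G}
    (hg : g ∈ (bnData D hnr X b hfield hZ).cell) :
    ∃ y : X ⟶ RedSub.pow (Red.Ga S) n ⊗ (D.T ⊗ RedSub.pow (Red.Ga S) m), y ≫ RedSub.cellMap D eneg epos = g := by
  obtain ⟨v, hv, _, ⟨t, rfl⟩, u', hu, rfl⟩ := hg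
  exact exists_cell_lift hneg hpos X t hv hu

include hneg hpos in
/-- Translates by the monoid of simple unipotent sections cover the group. -/
theorem cover_simple (x : D.idx → (𝟙_ (Over S) ⟶ Red.Ga S)) (hx : ∀ a ∈ b.support, IsUnit (Red.gaFn (x a)))
    (p : G.left) :
    ∃ w ∈ Submonoid.closure {g : 𝟙_ (Over S) ⟶ G | ∃ a ∈ b.support, g = x a ≫ D.u a},
      p ∈ Set.range ((toUnit _ ≫ w) * RedSub.cellMap D eneg epos).left.base := by
  obtain ⟨nr, hnr⟩ := exists_realisesReflections D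
  refine mem_range_of_geom hneg hpos p (Submonoid.closure {g | ∃ a ∈ b.support, g = x a ≫ D.u a} : Set _) fun g => ?_
  let s := G.hom.base p
  haveI : Nonempty S := ⟨s⟩
  let X := tObj (Red.geomPt s) (AlgebraicClosure (S.residueField s))
  haveI : Nontrivial Γ(X.left, ⊤) := nontrivial_geom s
  obtain ⟨hfield, hZ, hgen⟩ := geom_pts D s
  let B := bnData D hnr X b hfield hZ
  let φ : (𝟙_ (Over S) ⟶ G) →* (X ⟶ G) := MonoidHom.mk' (fun w => toUnit X ≫ w) fun v w => MonObj.comp_mul _ _ _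
  obtain ⟨_, ⟨w, hw, rfl⟩, hc⟩ := B.mem_monoid_cell (bnData_sym D b hnr X hfield hZ)
    ((Submonoid.closure {g : 𝟙_ (Over S) ⟶ G | ∃ a ∈ b.support, g = x a ≫ D.u a}).map φ)
    (fun a ha => ⟨_, (section_ne_one D a (hx a ha) X).1, (section_ne_one D a (hx a ha) X).2,
      ⟨x a ≫ D.u a, Submonoid.subset_closure ⟨a, ha, rfl⟩, rfl⟩⟩) (hgen g)
  obtain ⟨y, hy⟩ := cell_factor hneg hpos hnr X hfield hZ hc
  refine ⟨w, hw, y, ?_⟩
  rw [comp_monoid, hy]
  exact (mul_inv_cancel_left (φ w) g).symm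

include hneg hpos in
/-- In semisimple rank one the big cell and one translate cover the group. -/
theorem cover_rankOne {a : D.idx} (ha : a ∈ RedSub.posRoots D.P b)
    (hR : ∀ c : D.idx, c = a ∨ c = D.P.reflectionPerm a a) {x : 𝟙_ (Over S) ⟶ Red.Ga S} (hx : IsUnit (Red.gaFn x))
    (p : G.left) :
    p ∈ Set.range (RedSub.cellMap D eneg epos).left.base ∨
      p ∈ Set.range ((toUnit _ ≫ x ≫ D.u a) * RedSub.cellMap D eneg epos).left.base := by
  obtain ⟨nr, hnr⟩ := exists_realisesReflections D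
  obtain ⟨w, hw, h⟩ : ∃ w ∈ ({1, x ≫ D.u a} : Set (𝟙_ (Over S) ⟶ G)),
      p ∈ Set.range ((toUnit _ ≫ w) * RedSub.cellMap D eneg epos).left.base := by
    refine mem_range_of_geom hneg hpos p _ fun g => ?_
    let s := G.hom.base p
    haveI : Nonempty S := ⟨s⟩
    let X := tObj (Red.geomPt s) (AlgebraicClosure (S.residueField s))
    haveI : Nontrivial Γ(X.left, ⊤) := nontrivial_geom s
    obtain ⟨hfield, hZ, hgen⟩ := geom_pts D s
    let B := bnData D hnr X b hfield hZ
    have hsa : a ∈ b.support := by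
      obtain ⟨-, c, -, hc, -⟩ := reach_simple D b a
      have hcp : c ∈ RedSub.posRoots D.P b := (simple_base D b).subset_posOf (Finset.mem_coe.mpr hc)
      rcases hR c with rfl | rfl
      · exact hc
      · exact absurd ha ((simple_base D b).neg_mem_posOf_iff.mp hcp)
    obtain ⟨hxU, hx1⟩ := section_ne_one D a hx X
    rcases B.mem_cell_or_translate (bnData_sym D b hnr X hfield hZ) hsa hR hxU hx1 (hgen g) with h | h
    · obtain ⟨y, hy⟩ := cell_factor hneg hpos hnr X hfield hZ h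
      exact ⟨1, Or.inl rfl, y, by rw [comp_monoid, hy, MonObj.comp_one, one_mul]⟩
    · obtain ⟨y, hy⟩ := cell_factor hneg hpos hnr X hfield hZ h
      exact ⟨x ≫ D.u a, Or.inr rfl, y, by rw [comp_monoid, hy, mul_inv_cancel_left]⟩
  rcases hw with rfl | rfl
  · left
    rwa [show ((toUnit _ ≫ (1 : 𝟙_ (Over S) ⟶ G)) * RedSub.cellMap D eneg epos) = RedSub.cellMap D eneg epos by
      rw [MonObj.comp_one, one_mul]] at h
  · exact Or.inr h

end Groth.Agent.RedRk29
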