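import Groth.Agent.RedRk29.Dual
import Groth.Agent.RedRk29.Conj

/-!
# A closed orbit augmented by weight functionals
-/

set_option autoImplicit false

universe u

open TensorProduct WithConv
open scoped AddMonoidAlgebra

namespace Groth.Agent.RedRk29

open BigCell29

variable {M ι J : Type} [AddCommGroup M] [Module.Free ℤ M] [Module.Finite ℤ M] [Fintype ι] [Fintype J]
variable {k : Type u} [Field k] [IsAlgClosed k] {A : Type u} [CommRing A] [HopfAlgebra k A]
variable {W : J → Type u} [∀ j, AddCommGroup (W j)] [∀ j, Module k (W j)] [∀ j, Module.Finite k (W j)]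

section Defs

variable (π : ∀ j, Pt k A k →* Module.End k (W j)) (p₀ : ∀ j, W j)

/-- The factors together with the duals of the orbit spans. -/
def W2 : J ⊕ J → Type u
  | .inl j => W j
  | .inr j => Module.Dual k (orbSpan π p₀ j)

instance instACG2 : ∀ s, AddCommGroup (W2 π p₀ s)
  | .inl j => inferInstanceAs (AddCommGroup (W j))
  | .inr j => inferInstanceAs (AddCommGroup (Module.Dual k (orbSpan π p₀ j)))

instance instMod2 : ∀ s, Module k (W2 π p₀ s)
  | .inl j => inferInstanceAs (Module k (W j))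
  | .inr j => inferInstanceAs (Module k (Module.Dual k (orbSpan π p₀ j)))

instance instFin2 : ∀ s, Module.Finite k (W2 π p₀ s)
  | .inl j => inferInstanceAs (Module.Finite k (W j))
  | .inr j => inferInstanceAs (Module.Finite k (Module.Dual k (orbSpan π p₀ j)))

/-- The representations on the factors. -/
noncomputable def π2 : ∀ s, Pt k A k →* Module.End k (W2 π p₀ s)
  | .inl j => π j
  | .inr j => dualRep (spanRep π p₀ j)

/-- The first half of a tuple. -/
def fstP (q : ∀ s, W2 π p₀ s) : ∀ j, W j := fun j => q (.inl j)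

/-- The second half of a tuple. -/
def sndP (q : ∀ s, W2 π p₀ s) (j : J) : Module.Dual k (orbSpan π p₀ j) := q (.inr j)

theorem isPolyFn_fstP {f : (∀ j, W j) → k} (hf : IsPolyFn k f) :
    IsPolyFn k fun q : ∀ s, W2 π p₀ s => f (fstP π p₀ q) := by
  obtain ⟨P, hP⟩ := hf
  simp only [hP]
  refine IsPolyFn.eval (fun i => ?_) P
  exact IsPolyFn.linear (W := W2 π p₀) (j := Sum.inl i.1) ((Module.finBasis k (W i.1)).coord i.2)

theorem fstP_mem_cl {q q' : ∀ s, W2 π p₀ s} (h : q ∈ Cl (π2 π p₀) q') :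
    fstP π p₀ q ∈ Cl π (fstP π p₀ q') := by
  intro f hf h0
  refine h _ (isPolyFn_fstP π p₀ hf) ?_
  rintro y ⟨g, c, hy⟩
  exact h0 _ ⟨g, fun j => c (.inl j), fun j => hy (.inl j)⟩

variable (F : Frame k A M ι)

omit [Fintype J] [∀ j, Module.Finite k (W j)] [IsAlgClosed k] [Fintype ι] [Module.Free ℤ M] [Module.Finite ℤ M] in
theorem wts_subset : wts F π ⊆ wts F (π2 π p₀) := by
  rintro m ⟨j, hj⟩
  exact ⟨.inl j, hj⟩

omit [Fintype J] [∀ j, Module.Finite k (W j)] [IsAlgClosed k] [Fintype ι] [Module.Free ℤ M] [Module.Finite ℤ M] in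
theorem good_of_good2 {lam : M →+ ℤ} (h : Good F (π2 π p₀) lam) : Good F π lam :=
  ⟨h.1, h.2.mono (wts_subset π p₀ F)⟩

omit [Fintype J] [∀ j, Module.Finite k (W j)] [IsAlgClosed k] [Fintype ι] [Module.Free ℤ M] [Module.Finite ℤ M] in
theorem good_neg {lam : M →+ ℤ} (h : Good F π lam) : Good F π (-lam) :=
  ⟨fun i => by simpa using h.1 i, fun a ha b hb hab => h.2 ha hb (neg_injective hab)⟩

end Defs

variable {π : ∀ j, Pt k A k →* Module.End k (W j)} {p₀ : ∀ j, W j} (hπ : ∀ j, IsRegRep (π j))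
  (F : Frame k A M ι) [Algebra.Smooth k A] [IsDomain A]

include hπ in
omit [IsDomain A] [Algebra.Smooth k A] in
theorem isRegRep_π2 : ∀ s, IsRegRep (π2 π p₀ s)
  | .inl j => hπ j
  | .inr j => isRegRep_dualRep (isRegRep_restr (hπ j) _ _)

variable (hcl : IsClosedOrbit π p₀)

include hπ hcl in
/-- The augmented orbit: closed, over the given one, with functionals pairing with extremal vectors. -/
theorem exists_double (hne : ∀ i, F.root i ≠ 0) :
    ∃ q₀ : ∀ s, W2 π p₀ s, IsClosedOrbit (π2 π p₀) q₀ ∧ fstP π p₀ q₀ ∈ Cl π p₀ := by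
  classical
  obtain ⟨lam, hlam, -, -⟩ := exists_good F (isRegRep_π2 (p₀ := p₀) hπ) hne 0 (D := ∅) Set.finite_empty
  have hg1 : Good F π lam := good_of_good2 π p₀ F hlam
  have hg1' : Good F π (-lam) := good_neg π F hg1
  have hg2' : Good F (π2 π p₀) (-lam) := good_neg (π2 π p₀) F hlam
  obtain ⟨x, m, hx, -⟩ := exists_ext_max F hπ p₀ hcl.1 hg1
  obtain ⟨y, my, hy, -⟩ := exists_ext_max F hπ p₀ hcl.1 hg1'
  choose η hη0 hηfix hηwt hη1 hηv using fun j => exists_eta hπ F lam hcl hg1.1 hx j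
  let q₀ : ∀ s, W2 π p₀ s := fun s =>
    match s with
    | .inl j => y j
    | .inr j => η j
  have hn0 : Nondeg q₀ := fun s => by
    cases s with
    | inl j => exact hy.2.1.1 j
    | inr j => exact hη0 j
  refine ⟨q₀, ⟨hn0, fun q hq hqn => ?_⟩, hy.1⟩
  obtain ⟨e, me, he, -⟩ := exists_ext_max F (isRegRep_π2 hπ) q hqn hg2'
  have hfst : Ext F π p₀ (-lam) (fstP π p₀ e) (fun j => me (.inl j)) :=
    ⟨cl_trans π (cl_trans π hy.1 (fstP_mem_cl π p₀ hq)) (fstP_mem_cl π p₀ he.1),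
      ⟨fun j => he.2.1.1 (.inl j), fun j => he.2.1.2 (.inl j)⟩, fun g hg j => he.2.2 g hg (.inl j)⟩
  obtain ⟨⟨c, hc⟩, -⟩ := Ext.unique F hπ hcl hg1'.1 hy hfst
  have hsnd : ∀ j, ∃ d : k, d ≠ 0 ∧ sndP π p₀ e j = d • η j := by
    intro j
    let x' : orbSpan π p₀ j := ⟨x j, mem_orbSpan π p₀ (hcl.2 x hx.1 hx.2.1.1) j⟩
    have heq : sndP π p₀ e j = sndP π p₀ e j x' • η j := by
      refine eq_of_apply_ext hπ F lam hcl hg1.1 hx j (fun v hv => he.2.2 v hv (.inr j)) (fun v hv => ?_) ?_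
      · rw [map_smul, hηfix j v hv]
      · simp [hη1 j, x']
    refine ⟨_, fun h => he.2.1.1 (.inr j) ?_, heq⟩
    rw [h, zero_smul] at heq
    exact heq
  choose d hd0 hd using hsnd
  have horb : e ∈ Orb (π2 π p₀) q₀ := by
    refine ⟨1, fun s => Sum.elim c d s, fun s => ?_⟩
    cases s with
    | inl j => rw [map_one, Module.End.one_apply]; exact (hc j).2
    | inr j => rw [map_one, Module.End.one_apply]; exact hd j
  have hq0 : q₀ ∈ Cl (π2 π p₀) q := cl_orb (π2 π p₀) he.1 (orb_symm (π2 π p₀) horb he.2.1.1)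
  exact mem_orb_of_vIdeal_eq (π := π2 π p₀) (isRegRep_π2 hπ) hn0 hqn
    (le_antisymm (vIdeal_le (π2 π p₀) hq0) (vIdeal_le (π2 π p₀) hq))

variable {V : Type u} [AddCommGroup V] [Module k V] {ρ : Pt k A k →* Module.End k V}

omit [IsDomain A] [Algebra.Smooth k A] in
theorem hasTri_double (htri : ∀ q ∈ Cl π p₀, Nondeg q → HasTri π ρ q) {q₀ : ∀ s, W2 π p₀ s}
    (h0 : fstP π p₀ q₀ ∈ Cl π p₀) :
    ∀ q ∈ Cl (π2 π p₀) q₀, Nondeg q → HasTri (π2 π p₀) ρ q := by
  intro q hq hn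
  obtain ⟨n, fl, h1, h2, h3, h4, h5⟩ :=
    htri (fstP π p₀ q) (cl_trans π h0 (fstP_mem_cl π p₀ hq)) fun j => hn (.inl j)
  exact ⟨n, fl, h1, h2, h3, h4, fun g hg => h5 g fun j => hg (.inl j)⟩

variable [Module.Finite k V]

include hπ hcl in
/-- At every point of the orbit some weight functional does not vanish. -/
theorem exists_cover (hρ : IsRegRep ρ) (hgen : Generates ρ) (hne : ∀ i, F.root i ≠ 0)
    (htri : ∀ q ∈ Cl π p₀, Nondeg q → HasTri π ρ q) {q₀ : ∀ s, W2 π p₀ s}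
    (h2 : IsClosedOrbit (π2 π p₀) q₀) (h0 : fstP π p₀ q₀ ∈ Cl π p₀) {z : ∀ j, W j}
    (hz : z ∈ Cl π p₀) (hzn : Nondeg z) :
    ∃ e me, e ∈ Cl (π2 π p₀) q₀ ∧ Eig F (π2 π p₀) e me ∧
      ∀ j, sndP π p₀ e j ⟨z j, mem_orbSpan π p₀ (hcl.2 z hz hzn) j⟩ ≠ 0 := by
  classical
  obtain ⟨lam₁, hlam₁, -, -⟩ := exists_good F hπ hne 0 (D := ∅) Set.finite_empty
  obtain ⟨mz, hmz⟩ := exists_isTop F hπ lam₁ hzn
  set x : ∀ j, W j := fun j => wt F (hπ j) (z j) (mz j) with hxdef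
  have hxc : x ∈ Cl π p₀ := top_mem F hπ lam₁ hz hmz hlam₁.2
  have hxe : Eig F π x mz := top_eig F hπ lam₁ hmz
  obtain ⟨lam', hlam', hx'⟩ := exists_ext_of_eig F π hρ hgen hπ hne hcl htri hxc hxe
  obtain ⟨lam, hlam, -, hneg⟩ := exists_good F (isRegRep_π2 (p₀ := p₀) hπ) hne lam'
    (D := Set.range fun i => -F.root i) (Set.finite_range _)
  have hg1 : Good F π lam := good_of_good2 π p₀ F hlam
  have hg2' : Good F (π2 π p₀) (-lam) := good_neg (π2 π p₀) F hlam
  have hposle : posRt F lam ≤ posRt F lam' := by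
    refine Subgroup.closure_le _ |>.mpr ?_
    rintro _ ⟨i, y, hi, rfl⟩
    refine rt_mem_posRt F lam' ?_ y
    rcases lt_trichotomy (lam' (F.root i)) 0 with h | h | h
    · exfalso
      have := hneg (-F.root i) ⟨i, rfl⟩ (by rw [map_neg]; omega)
      rw [map_neg] at this
      omega
    · exact absurd h (hlam'.1 i)
    · exact h
  have hxlam : Ext F π p₀ lam x mz := ⟨hxc, hxe, fun g hg j => hx'.2.2 g (hposle hg) j⟩
  obtain ⟨e, me, he, -⟩ := exists_ext_max F (isRegRep_π2 hπ) q₀ h2.1 hg2'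
  refine ⟨e, me, he.1, he.2.1, fun j => ?_⟩
  obtain ⟨η, -, hηfix, -, hη1, hηv⟩ := exists_eta hπ F lam hcl hg1.1 hxlam j
  let x' : orbSpan π p₀ j := ⟨x j, mem_orbSpan π p₀ (hcl.2 x hxlam.1 hxlam.2.1.1) j⟩
  have heq : sndP π p₀ e j = sndP π p₀ e j x' • η := by
    refine eq_of_apply_ext hπ F lam hcl hg1.1 hxlam j (fun v hv => he.2.2 v hv (.inr j)) (fun v hv => ?_) ?_
    · rw [map_smul, hηfix v hv]
    · simp [hη1, x']
  rw [heq, LinearMap.smul_apply, hηv ⟨z j, mem_orbSpan π p₀ (hcl.2 z hz hzn) j⟩ rfl, smul_eq_mul, mul_one]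
  intro h
  refine he.2.1.1 (.inr j) ?_
  rw [h, zero_smul] at heq
  exact heq

end Groth.Agent.RedRk29
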