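import Groth.Agent.RedRk29.Extremal

/-!
# Contragredient representations, orbit spans and weight functionals
-/

set_option autoImplicit false

universe u

open TensorProduct WithConv
open scoped AddMonoidAlgebra

namespace Groth.Agent.RedRk29

open BigCell29

section Contra

variable {k : Type u} [Field k] {A : Type u} [CommRing A] [HopfAlgebra k A]
  {V : Type u} [AddCommGroup V] [Module k V]

/-- The contragredient representation. -/
noncomputable def dualRep (π : Pt k A k →* Module.End k V) : Pt k A k →* Module.End k (Module.Dual k V) where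
  toFun g := (π g⁻¹).dualMap
  map_one' := LinearMap.ext fun φ => LinearMap.ext fun v => by simp
  map_mul' g h := LinearMap.ext fun φ => LinearMap.ext fun v => by
    simp [mul_inv_rev, Module.End.mul_apply]

@[simp] theorem dualRep_apply (π : Pt k A k →* Module.End k V) (g : Pt k A k) (φ : Module.Dual k V) (v : V) :
    dualRep π g φ v = φ (π g⁻¹ v) := rfl

theorem isRegRep_dualRep [Module.Finite k V] {π : Pt k A k →* Module.End k V} (hπ : IsRegRep π) :
    IsRegRep (dualRep π) := by
  intro φ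
  let b := Module.finBasis k V
  choose a ha using fun i => hπ.exists_coef (b i) φ
  refine ⟨∑ i, HopfAlgebra.antipode k (a i) ⊗ₜ[k] b.coord i, fun g => b.ext fun i => ?_⟩
  rw [map_sum, LinearMap.sum_apply, Finset.sum_eq_single i]
  · rw [ev_tmul, dualRep_apply, ha]
    simp [inv_apply]
  · intro j _ hj
    simp [hj]
  · simp

end Contra

section PolyEval

variable {k : Type u} [Field k] {J : Type} [Fintype J] {W : J → Type u} [∀ j, AddCommGroup (W j)]
  [∀ j, Module k (W j)] [∀ j, Module.Finite k (W j)]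

theorem IsPolyFn.eval {σ : Type*} {fs : σ → (∀ j, W j) → k} (h : ∀ i, IsPolyFn k (fs i))
    (P : MvPolynomial σ k) : IsPolyFn k fun p => MvPolynomial.eval (fun i => fs i p) P := by
  induction P using MvPolynomial.induction_on with
  | C c => simpa using IsPolyFn.const (W := W) c
  | add p q hp hq => simpa using hp.add hq
  | mul_X p i hp => simpa using hp.mul (h i)

end PolyEval

section Span

variable {M ι J : Type} [AddCommGroup M] [Module.Free ℤ M] [Module.Finite ℤ M] [Fintype ι] [Fintype J]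
variable {k : Type u} [Field k] [IsAlgClosed k] {A : Type u} [CommRing A] [HopfAlgebra k A]
variable {W : J → Type u} [∀ j, AddCommGroup (W j)] [∀ j, Module k (W j)] [∀ j, Module.Finite k (W j)]
variable (π : ∀ j, Pt k A k →* Module.End k (W j)) (p₀ : ∀ j, W j)

/-- The span of the orbit in one factor. -/
def orbSpan (j : J) : Submodule k (W j) := Submodule.span k (Set.range fun g => π j g (p₀ j))

omit [Fintype J] [∀ j, Module.Finite k (W j)] [IsAlgClosed k] in
theorem orbSpan_stable (j : J) (g : Pt k A k) : ∀ x ∈ orbSpan π p₀ j, π j g x ∈ orbSpan π p₀ j := by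
  intro x hx
  refine (Submodule.span_le.mpr ?_ : orbSpan π p₀ j ≤ (orbSpan π p₀ j).comap (π j g)) hx
  rintro _ ⟨h, rfl⟩
  exact Submodule.subset_span ⟨g * h, by simp [map_mul, Module.End.mul_apply]⟩

/-- The representation on the span of the orbit. -/
noncomputable def spanRep (j : J) : Pt k A k →* Module.End k (orbSpan π p₀ j) :=
  restr (π j) (orbSpan π p₀ j) (orbSpan_stable π p₀ j)

omit [Fintype J] [∀ j, Module.Finite k (W j)] [IsAlgClosed k] in
@[simp] theorem spanRep_coe (j : J) (g : Pt k A k) (x : orbSpan π p₀ j) :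
    (spanRep π p₀ j g x : W j) = π j g x := rfl

omit [Fintype J] [∀ j, Module.Finite k (W j)] [IsAlgClosed k] in
theorem mem_orbSpan {x : ∀ j, W j} (hx : x ∈ Orb π p₀) (j : J) : x j ∈ orbSpan π p₀ j := by
  obtain ⟨g, c, h⟩ := hx
  rw [h j]
  exact Submodule.smul_mem _ _ (Submodule.subset_span ⟨g, rfl⟩)

omit [Fintype J] [∀ j, Module.Finite k (W j)] [IsAlgClosed k] in
theorem orbSpan_eq_of_orb {x : ∀ j, W j} (hx : x ∈ Orb π p₀) (hn : Nondeg x) (j : J) :
    orbSpan π x j = orbSpan π p₀ j := by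
  obtain ⟨g, c, h⟩ := hx
  have hc : c j ≠ 0 := fun h0 => hn j (by rw [h j, h0, zero_smul])
  refine le_antisymm (Submodule.span_le.mpr ?_) (Submodule.span_le.mpr ?_)
  · rintro _ ⟨g', rfl⟩
    exact orbSpan_stable π p₀ j g' _ (mem_orbSpan π p₀ ⟨g, c, h⟩ j)
  · rintro _ ⟨g', rfl⟩
    have e : π j g' (p₀ j) = (c j)⁻¹ • π j (g' * g⁻¹) (x j) := by
      rw [h j, map_smul, inv_smul_smul₀ hc, ← Module.End.mul_apply, ← map_mul, inv_mul_cancel_right]
    rw [show (fun g => π j g (p₀ j)) g' = π j g' (p₀ j) from rfl, e]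
    exact Submodule.smul_mem _ _ (Submodule.subset_span ⟨_, rfl⟩)

variable {π} (hπ : ∀ j, IsRegRep (π j)) (F : Frame k A M ι) (lam : M →+ ℤ)
variable [Algebra.Smooth k A] [IsDomain A]

include hπ in
omit [Fintype J] [∀ j, Module.Finite k (W j)] in
/-- The orbit of a fixed point of the positive part spans together with the negative part. -/
theorem orbSpan_le_neg (hlam : ∀ i, lam (F.root i) ≠ 0) {x : ∀ j, W j} {m : J → M} (he : Eig F π x m)
    (hfix : ∀ g ∈ posRt F lam, ∀ j, π j g (x j) = x j) (j : J) :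
    orbSpan π x j ≤ Submodule.span k ((fun v => π j v (x j)) '' (posRt F (-lam) : Set (Pt k A k))) := by
  classical
  refine Submodule.span_le.mpr ?_
  rintro _ ⟨g, rfl⟩
  by_contra hg
  obtain ⟨φ, hφg, hφ⟩ := Submodule.exists_dual_map_eq_bot_of_notMem hg inferInstance
  obtain ⟨a, ha⟩ := (hπ j).exists_coef (x j) φ
  obtain ⟨c, hc, hcell⟩ := exists_cell_decomp F lam hlam
  have hzero : ∀ g' : Pt k A k, g'.ofConv (a * c) = 0 := by
    intro g'
    rw [map_mul, mul_eq_zero]
    by_cases hg' : g'.ofConv c = 0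
    · exact Or.inr hg'
    refine Or.inl ?_
    obtain ⟨v, χ, u, hv, hu, rfl⟩ := hcell g' hg'
    rw [← ha, map_mul, map_mul, Module.End.mul_apply, Module.End.mul_apply, hfix u hu j, he.2 j χ, map_smul,
      map_smul, Submodule.eq_bot_iff _ |>.mp hφ _ (Submodule.mem_map_of_mem (Submodule.subset_span ⟨v, hv, rfl⟩)),
      smul_zero]
  haveI : Algebra.FinitePresentation k A := Algebra.Smooth.finitePresentation
  haveI : Algebra.FiniteType k A := Algebra.FiniteType.of_finitePresentation
  have hac : a * c = 0 := by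
    by_contra hne
    obtain ⟨y, hy⟩ := ComodLib.exists_point_ne_zero (k := k) (a := a * c) fun hn => hne hn.eq_zero
    exact hy (hzero (toConv y))
  rcases mul_eq_zero.mp hac with h | h
  · exact hφg (by rw [show (fun g => π j g (x j)) g = π j g (x j) from rfl, ha, h, map_zero])
  · exact hc (by rw [h, map_zero])

variable {p₀} (hcl : IsClosedOrbit π p₀) (hlam : ∀ i, lam (F.root i) ≠ 0)
variable {x : ∀ j, W j} {m : J → M} (hx : Ext F π p₀ lam x m)

include hπ hcl hlam hx in
omit [Fintype J] in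
theorem orbSpan_le_ext (j : J) :
    orbSpan π p₀ j ≤ Submodule.span k ((fun v => π j v (x j)) '' (posRt F (-lam) : Set (Pt k A k))) := by
  rw [← orbSpan_eq_of_orb π p₀ (hcl.2 x hx.1 hx.2.1.1) hx.2.1.1 j]
  exact orbSpan_le_neg hπ F lam hlam hx.2.1 hx.2.2 j

include hπ hcl hlam hx in
omit [Fintype J] in
/-- A functional on the orbit span fixed by the negative part is determined at the extremal vector. -/
theorem eq_of_apply_ext (j : J) {φ ψ : Module.Dual k (orbSpan π p₀ j)}
    (hφ : ∀ v ∈ posRt F (-lam), dualRep (spanRep π p₀ j) v φ = φ)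
    (hψ : ∀ v ∈ posRt F (-lam), dualRep (spanRep π p₀ j) v ψ = ψ)
    (heq : φ ⟨x j, mem_orbSpan π p₀ (hcl.2 x hx.1 hx.2.1.1) j⟩ = ψ ⟨x j, mem_orbSpan π p₀ (hcl.2 x hx.1 hx.2.1.1) j⟩) :
    φ = ψ := by
  set x' : orbSpan π p₀ j := ⟨x j, mem_orbSpan π p₀ (hcl.2 x hx.1 hx.2.1.1) j⟩
  have key : ∀ v ∈ posRt F (-lam), φ (spanRep π p₀ j v x') = ψ (spanRep π p₀ j v x') := by
    intro v hv
    have h1 := LinearMap.congr_fun (hφ v hv) (spanRep π p₀ j v x')
    have h2 := LinearMap.congr_fun (hψ v hv) (spanRep π p₀ j v x')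
    simp only [dualRep_apply, ← Module.End.mul_apply, ← map_mul, inv_mul_cancel, map_one, Module.End.one_apply] at h1 h2
    rw [← h1, ← h2, heq]
  have hspan : (Submodule.span k ((fun v => π j v (x j)) '' (posRt F (-lam) : Set (Pt k A k)))).comap
      (orbSpan π p₀ j).subtype ≤ LinearMap.ker (φ - ψ) := by
    intro w hw
    let S : Submodule k (W j) := (LinearMap.ker (φ - ψ)).map (orbSpan π p₀ j).subtype
    have hS : Submodule.span k ((fun v => π j v (x j)) '' (posRt F (-lam) : Set (Pt k A k))) ≤ S := by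
      refine Submodule.span_le.mpr ?_
      rintro _ ⟨v, hv, rfl⟩
      exact ⟨spanRep π p₀ j v x', by simp [key v hv], rfl⟩
    obtain ⟨w', hw', he⟩ := hS hw
    rwa [← Subtype.ext he]
  refine LinearMap.ext fun w => ?_
  have := hspan (show w ∈ _ from orbSpan_le_ext hπ F lam hcl hlam hx j w.2)
  simpa [LinearMap.mem_ker, sub_eq_zero] using this

include hπ hcl hlam hx in
omit [Fintype J] in
/-- The weight coordinate at an extremal vector. -/
theorem exists_eta (j : J) : ∃ η : Module.Dual k (orbSpan π p₀ j),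
    η ≠ 0 ∧ (∀ v ∈ posRt F (-lam), dualRep (spanRep π p₀ j) v η = η) ∧
      η ∈ Wt F (dualRep (spanRep π p₀ j)) (-(m j)) ∧
      η ⟨x j, mem_orbSpan π p₀ (hcl.2 x hx.1 hx.2.1.1) j⟩ = 1 ∧
      ∀ w : orbSpan π p₀ j, comp F (hπ j) (m j) (w : W j) = x j → η w = 1 := by
  classical
  obtain ⟨φ, hφ⟩ : ∃ φ : Module.Dual k (W j), φ (x j) = 1 := by
    exact Module.Projective.exists_dual_eq_one k (hx.2.1.1 j)
  let η : Module.Dual k (orbSpan π p₀ j) := φ ∘ₗ comp F (hπ j) (m j) ∘ₗ (orbSpan π p₀ j).subtype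
  have hη1 : η ⟨x j, mem_orbSpan π p₀ (hcl.2 x hx.1 hx.2.1.1) j⟩ = 1 := by
    show φ (comp F (hπ j) (m j) (x j)) = 1
    rw [comp_of_mem F (hπ j) (hx.2.1.2 j), if_pos rfl, hφ]
  have hHi : orbSpan π p₀ j ≤ Hi F (π j) (-lam) (-(lam (m j))) := by
    refine (orbSpan_le_ext hπ F lam hcl hlam hx j).trans (Submodule.span_le.mpr ?_)
    rintro _ ⟨v, hv, rfl⟩
    have h0 : x j ∈ Hi F (π j) (-lam) (-(lam (m j))) := Wt_le_Hi F (π j) (-lam) (by simp) (hx.2.1.2 j)
    have := Submodule.add_mem _ (Hi_antitone F (π j) (-lam) (Int.le.intro 1 rfl) (sub_mem_Hi F (-lam) (hπ j) hv h0)) h0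
    simpa using this
  refine ⟨η, fun h => by simp [h] at hη1, fun v hv => ?_, fun χ => ?_, hη1, fun w hw => ?_⟩
  · refine LinearMap.ext fun w => ?_
    rw [dualRep_apply]
    have h1 := sub_mem_Hi F (-lam) (hπ j) ((posRt F (-lam)).inv_mem hv) (hHi w.2)
    have h2 := comp_Hi F (-lam) (hπ j) h1 (m := m j) (by simp)
    rw [map_sub, sub_eq_zero] at h2
    exact congrArg φ h2
  · refine LinearMap.ext fun w => ?_
    rw [dualRep_apply]
    show φ (comp F (hπ j) (m j) (π j (F.T.tor χ)⁻¹ (w : W j))) =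
      χ (Multiplicative.ofAdd (-(m j))) • φ (comp F (hπ j) (m j) (w : W j))
    rw [← map_smul φ, ← tor_charInv]
    refine congrArg φ ?_
    conv_lhs => rw [← sum_wt F (hπ j) (w : W j)]
    simp only [Finsupp.sum, map_sum]
    rw [comp_apply F (hπ j) (m j) (w : W j)]
    rw [Finset.sum_eq_single (m j)]
    · rw [wt_mem F (hπ j) _ _ (charInv χ), map_smul, comp_of_mem F (hπ j) (wt_mem F (hπ j) _ _), if_pos rfl,
        charInv_apply]
      rfl
    · intro n _ hn
      rw [wt_mem F (hπ j) _ _ (charInv χ), map_smul, comp_of_mem F (hπ j) (wt_mem F (hπ j) _ _), if_neg hn,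
        smul_zero]
    · intro h
      simp [Finsupp.notMem_support_iff.mp h]
  · show φ (comp F (hπ j) (m j) (w : W j)) = 1
    rw [hw, hφ]

end Span

end Groth.Agent.RedRk29
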