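import Groth.Agent.RedRk29.Conj

/-!
# Strings of weights, and reflections acting on extremal points
-/

set_option autoImplicit false

universe u

open TensorProduct WithConv
open scoped AddMonoidAlgebra

namespace Groth.Agent.RedRk29

open BigCell29

variable {M ι : Type} [AddCommGroup M] [Module.Free ℤ M] [Module.Finite ℤ M]
variable {k : Type u} [Field k] [IsAlgClosed k] {A : Type u} [CommRing A] [HopfAlgebra k A]
variable (F : Frame k A M ι)

section One

variable {W : Type u} [AddCommGroup W] [Module k W] {π : Pt k A k →* Module.End k W}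

omit [IsAlgClosed k] in
theorem fix_of_line {g : Pt k A k} (hnil : IsNilpotent (π g - 1)) {v : W} (hv : v ≠ 0) {c : k}
    (h : π g v = c • v) : π g v = v := by
  obtain ⟨n, hn⟩ := hnil
  have e : ∀ m, ((π g - 1) ^ m) v = (c - 1) ^ m • v := fun m => by
    induction m with
    | zero => simp
    | succ m ih =>
      rw [pow_succ', Module.End.mul_apply, ih, map_smul, LinearMap.sub_apply, Module.End.one_apply, h, pow_succ,
        mul_smul, sub_smul, one_smul]
  have := e n
  rw [hn, LinearMap.zero_apply, eq_comm, smul_eq_zero] at this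
  have hc : c - 1 = 0 := eq_zero_of_pow_eq_zero (this.resolve_right hv)
  rw [h, sub_eq_zero.mp hc, one_smul]

omit [IsAlgClosed k] in
theorem isNilpotent_conj_sub_one {g : Pt k A k} (hnil : IsNilpotent (π g - 1)) (c : Pt k A k) :
    IsNilpotent (π (c * g * c⁻¹) - 1) := by
  obtain ⟨m, hm⟩ := hnil
  refine ⟨m, ?_⟩
  have e : π (c * g * c⁻¹) - 1 = π c * (π g - 1) * π c⁻¹ := by
    rw [map_mul, map_mul, mul_sub, sub_mul, mul_one, ← map_mul π c c⁻¹, mul_inv_cancel, map_one]
  have hcc : π c⁻¹ * π c = 1 := by rw [← map_mul, inv_mul_cancel, map_one]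
  have hcc' : π c * π c⁻¹ = 1 := by rw [← map_mul, mul_inv_cancel, map_one]
  have hp : ∀ m, (π c * (π g - 1) * π c⁻¹) ^ m = π c * (π g - 1) ^ m * π c⁻¹ := fun m => by
    induction m with
    | zero => rw [pow_zero, pow_zero, mul_one, hcc']
    | succ m ih =>
      calc (π c * (π g - 1) * π c⁻¹) ^ (m + 1)
          = π c * (π g - 1) ^ m * (π c⁻¹ * π c) * (π g - 1) * π c⁻¹ := by rw [pow_succ, ih]; noncomm_ring
        _ = _ := by rw [hcc, mul_one, pow_succ]; noncomm_ring
  rw [e, hp, hm, mul_zero, zero_mul]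

variable (π) in
/-- The sum of the weight spaces of a string. -/
def lineSub (α m : M) : Submodule k W := ⨆ z : ℤ, Wt F π (m + z • α)

omit [IsAlgClosed k] [Module.Free ℤ M] [Module.Finite ℤ M] in
theorem Wt_le_lineSub (α m : M) (z : ℤ) : Wt F π (m + z • α) ≤ lineSub F π α m :=
  le_iSup (fun z : ℤ => Wt F π (m + z • α)) z

theorem exists_of_comp_lineSub (hπ : IsRegRep π) {α m : M} {v : W} (hv : v ∈ lineSub F π α m) {n : M}
    (hn : comp F hπ n v ≠ 0) : ∃ z : ℤ, n = m + z • α := by
  classical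
  induction hv using Submodule.iSup_induction' with
  | mem z x hx =>
    rw [comp_of_mem F hπ hx] at hn
    by_cases h : m + z • α = n
    · exact ⟨z, h.symm⟩
    · rw [if_neg h] at hn; exact absurd rfl hn
  | zero => simp at hn
  | add x y _ _ ihx ihy =>
    rw [map_add] at hn
    by_cases hx : comp F hπ n x = 0
    · exact ihy (by simpa [hx] using hn)
    · exact ihx hx

end One

variable {J : Type} {W : J → Type u} [∀ j, AddCommGroup (W j)] [∀ j, Module k (W j)]
variable (π : ∀ j, Pt k A k →* Module.End k (W j))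

/-- The group of points preserving all strings of weights. -/
def lineStable (α : M) : Subgroup (Pt k A k) where
  carrier := {g | (∀ j m, ∀ v ∈ lineSub F (π j) α m, π j g v ∈ lineSub F (π j) α m) ∧
    ∀ j m, ∀ v ∈ lineSub F (π j) α m, π j g⁻¹ v ∈ lineSub F (π j) α m}
  one_mem' := ⟨fun j m v hv => by simpa using hv, fun j m v hv => by simpa using hv⟩
  mul_mem' := fun {g h} hg hh => ⟨fun j m v hv => by
      rw [map_mul, Module.End.mul_apply]; exact hg.1 j m _ (hh.1 j m v hv), fun j m v hv => by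
      rw [mul_inv_rev, map_mul, Module.End.mul_apply]; exact hh.2 j m _ (hg.2 j m v hv)⟩
  inv_mem' := fun {g} hg => ⟨hg.2, fun j m v hv => by rw [inv_inv]; exact hg.1 j m v hv⟩

variable {π}

theorem rt_mem_lineStable (hπ : ∀ j, IsRegRep (π j)) {α : M} {i : ι} {z₀ : ℤ} (hi : F.root i = z₀ • α) (x : k) :
    F.rt i x ∈ lineStable F π α := by
  suffices h : ∀ x : k, ∀ j m, ∀ v ∈ lineSub F (π j) α m, π j (F.rt i x) v ∈ lineSub F (π j) α m by
    exact ⟨h x, by rw [rt_neg]; exact h (-x)⟩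
  intro x j m v hv
  refine (iSup_le fun z => ?_ : lineSub F (π j) α m ≤ (lineSub F (π j) α m).comap (π j (F.rt i x))) hv
  intro w hw
  obtain ⟨f, hf, -, hfn⟩ := root_expand F (hπ j) i hw
  rw [Submodule.mem_comap, hf x]
  refine Submodule.sum_mem _ fun n _ => Submodule.smul_mem _ _ (Wt_le_lineSub F α m (z + n * z₀) ?_)
  have h := hfn n
  rw [hi] at h
  rw [show m + (z + n * z₀) • α = m + z • α + n • z₀ • α by
    rw [add_smul, mul_smul, natCast_zsmul, add_assoc]]
  exact h

omit [IsAlgClosed k] [Module.Free ℤ M] [Module.Finite ℤ M] in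
theorem tor_mem_lineStable {α : M} (χ : Multiplicative M →* k) : F.T.tor χ ∈ lineStable F π α := by
  suffices h : ∀ χ : Multiplicative M →* k, ∀ j m, ∀ v ∈ lineSub F (π j) α m,
      π j (F.T.tor χ) v ∈ lineSub F (π j) α m by
    exact ⟨h χ, by rw [← tor_charInv]; exact h (charInv χ)⟩
  intro χ j m v hv
  refine (iSup_le fun z => ?_ : lineSub F (π j) α m ≤ (lineSub F (π j) α m).comap (π j (F.T.tor χ))) hv
  intro w hw
  rw [Submodule.mem_comap, hw χ]
  exact Submodule.smul_mem _ _ (Wt_le_lineSub F α m z hw)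

/-- A point normalising the torus, acting on the characters by `s`. -/
def NormS (s : M →+ M) (g : Pt k A k) : Prop :=
  ∀ χ : Multiplicative M →* k, F.T.tor χ * g = g * F.T.tor (χ.comp s.toMultiplicative)

omit [IsAlgClosed k] [Module.Free ℤ M] [Module.Finite ℤ M] in
theorem NormS.inv {s : M →+ M} (hs : ∀ m, s (s m) = m) {g : Pt k A k} (hg : NormS F s g) : NormS F s g⁻¹ := by
  intro χ
  have h := hg (χ.comp s.toMultiplicative)
  rw [show (χ.comp s.toMultiplicative).comp s.toMultiplicative = χ by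
    ext m; simp [hs]] at h
  calc F.T.tor χ * g⁻¹ = g⁻¹ * (g * F.T.tor χ) * g⁻¹ := by group
    _ = g⁻¹ * F.T.tor (χ.comp s.toMultiplicative) := by rw [← h]; group

omit [IsAlgClosed k] [Module.Free ℤ M] [Module.Finite ℤ M] in
theorem NormS.map_Wt {s : M →+ M} {g : Pt k A k} (hg : NormS F s g) (j : J) {m : M} {v : W j}
    (hv : v ∈ Wt F (π j) m) : π j g v ∈ Wt F (π j) (s m) := fun χ => by
  rw [← Module.End.mul_apply, ← map_mul, hg χ, map_mul, Module.End.mul_apply, hv, map_smul]
  simp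

omit [IsAlgClosed k] [Module.Free ℤ M] [Module.Finite ℤ M] in
theorem mem_lineStable_of_normS {s : M →+ M} (hs : ∀ m, s (s m) = m) {α : M}
    (hsα : s α = -α) (hline : ∀ m, ∃ z : ℤ, s m = m + z • α) {g : Pt k A k} (hg : NormS F s g) :
    g ∈ lineStable F π α := by
  suffices h : ∀ g, NormS F s g → ∀ j m, ∀ v ∈ lineSub F (π j) α m, π j g v ∈ lineSub F (π j) α m by
    exact ⟨h g hg, h g⁻¹ (hg.inv F hs)⟩
  intro g hg j m v hv
  refine (iSup_le fun z => ?_ : lineSub F (π j) α m ≤ (lineSub F (π j) α m).comap (π j g)) hv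
  intro w hw
  obtain ⟨z₁, hz₁⟩ := hline m
  refine Wt_le_lineSub F α m (z₁ - z) ?_
  have h := hg.map_Wt F j hw
  rwa [map_add, map_zsmul, hsα, hz₁, smul_neg, ← sub_eq_add_neg, add_sub_assoc, ← sub_smul] at h

variable [Fintype J] [∀ j, Module.Finite k (W j)]

omit [IsAlgClosed k] [Module.Free ℤ M] [Module.Finite ℤ M] [Fintype J] [∀ j, Module.Finite k (W j)] in
theorem good_comp {s : M →+ M} (hs : ∀ m, s (s m) = m) {n : Pt k A k} (hn : NormS F s n)
    (hroot : ∀ i, ∃ i', F.root i' = s (F.root i)) {lam : M →+ ℤ} (h : Good F π lam) :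
    Good F π (lam.comp s) := by
  have hw : ∀ m ∈ wts F π, s m ∈ wts F π := by
    rintro m ⟨j, hj⟩
    obtain ⟨v, hv, hv0⟩ := Submodule.exists_mem_ne_zero_of_ne_bot hj
    refine ⟨j, fun hb => hv0 ?_⟩
    have := hn.map_Wt F j hv
    rw [hb, Submodule.mem_bot] at this
    have e := congrArg (π j n⁻¹) this
    rwa [map_zero, ← Module.End.mul_apply, ← map_mul, inv_mul_cancel, map_one, Module.End.one_apply] at e
  refine ⟨fun i => ?_, fun a ha b hb hab => ?_⟩
  · obtain ⟨i', hi'⟩ := hroot i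
    rw [AddMonoidHom.comp_apply, ← hi']
    exact h.1 i'
  · have := h.2 (hw a ha) (hw b hb) hab
    rw [← hs a, this, hs]

omit [IsAlgClosed k] [Module.Free ℤ M] [Module.Finite ℤ M] [∀ j, Module.Finite k (W j)] [Fintype J] in
theorem NormS.eig {s : M →+ M} {g : Pt k A k} (hg : NormS F s g) {x : ∀ j, W j} {m : J → M}
    (hx : Eig F π x m) : Eig F π (fun j => π j g (x j)) (fun j => s (m j)) :=
  ⟨fun j h0 => hx.1 j (by
    have e := congrArg (π j g⁻¹) (show π j g (x j) = 0 from h0)
    rwa [map_zero, ← Module.End.mul_apply, ← map_mul, inv_mul_cancel, map_one, Module.End.one_apply] at e),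
    fun j => hg.map_Wt F j (hx.2 j)⟩

theorem ext_reflect [Fintype ι] [Algebra.Smooth k A] [IsDomain A] (hπ : ∀ j, IsRegRep (π j)) {p₀ : ∀ j, W j}
    (hcl : IsClosedOrbit π p₀) {s : M →+ M} (hs : ∀ m, s (s m) = m)
    (hroot : ∀ i, ∃ i', F.root i' = s (F.root i)) {g : Pt k A k} (hg : NormS F s g)
    {lam : M →+ ℤ} (hlam : Good F π lam) {x : ∀ j, W j} {m : J → M} (hx : Ext F π p₀ lam x m) :
    Ext F π p₀ (lam.comp s) (fun j => π j g (x j)) (fun j => s (m j)) := by
  refine ext_of_max F hπ p₀ (good_comp F hs hg hroot hlam) (cl_orb π hx.1 ⟨g, 1, fun j => by simp⟩)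
    (hg.eig F hx.2.1) fun z m' hz he => ?_
  have hsum : ∀ m : J → M, (lam.comp s) (wsum m) = lam (wsum fun j => s (m j)) := fun m => by
    simp [wsum, map_sum]
  rw [hsum, hsum]
  simp only [hs]
  exact (Ext.max F hπ hcl hlam hx (cl_orb π hz ⟨g⁻¹, 1, fun j => by simp⟩) ((hg.inv F hs).eig F he)).1

end Groth.Agent.RedRk29
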