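import Groth.Agent.RedRk29.CoverSimple
import Mathlib.RingTheory.Spectrum.Prime.Topology

/-!
# Generation of the points over a local ring by the torus and the simple root groups
-/

set_option autoImplicit false

universe u

open CategoryTheory CategoryTheory.Limits MonoidalCategory CartesianMonoidalCategory AlgebraicGeometry
open scoped MonObj GrpObj

noncomputable section

namespace Groth.Agent.RedRk29

open GrpSchLib Rank2Red38 RedSub30.RootPoly

variable {S : Scheme.{u}} {G : Over S} [GrpObj G]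

theorem isOpenImmersion_translate {Z : Over S} (c : Z ⟶ G) [IsOpenImmersion c.left] (w : 𝟙_ (Over S) ⟶ G) :
    IsOpenImmersion ((toUnit Z ≫ w) * c).left := by
  let L : G ⟶ G := (toUnit G ≫ w) * 𝟙 G
  let L' : G ⟶ G := (toUnit G ≫ w⁻¹) * 𝟙 G
  have hLL : ∀ w : 𝟙_ (Over S) ⟶ G, ((toUnit G ≫ w) * 𝟙 G) ≫ ((toUnit G ≫ w⁻¹) * 𝟙 G) = 𝟙 G := fun w => by
    rw [MonObj.comp_mul, ← Category.assoc, toUnit_unique (_ ≫ toUnit G) (toUnit G), Category.comp_id,
      GrpObj.comp_inv, inv_mul_cancel_left]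
  haveI : IsIso L := ⟨L', hLL _, by simpa [L, L'] using hLL w⁻¹⟩
  haveI : IsIso L.left := (inferInstance : IsIso ((Over.forget S).map L))
  have hW : (toUnit Z ≫ w) * c = c ≫ L := by
    rw [MonObj.comp_mul, ← Category.assoc, toUnit_unique (c ≫ toUnit G) (toUnit Z), Category.comp_id]
  rw [hW, Over.comp_left]
  infer_instance

variable (D : Red.SplitRed G)

theorem realisesReflections_inv {nr : D.idx → (𝟙_ (Over S) ⟶ G)} (hnr : RedSub.RealisesReflections D nr) :
    RedSub.RealisesReflections D fun a => (nr a)⁻¹ := fun a X t => by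
  have h := conj_torus D hnr a X (reflT D X a t)
  rw [reflT_reflT] at h
  rw [refl_torus, GrpObj.comp_inv]
  show _ * I D X t * _ = _
  rw [← h]; group

/-- Reflection sections that are Weyl elements of a dual rescaling on the simple roots. -/
theorem exists_weyl_sections (D : Red.Pinning G) :
    ∃ (k : D.idx → Γ(S, ⊤)ˣ) (nr : D.idx → (𝟙_ (Over S) ⟶ G)), RedSub.RealisesReflections D.toSplitRed nr ∧
      (∀ a ∈ D.base.support, IsDual (rescale D k).toSplitRed a) ∧
      ∀ a ∈ D.base.support, nr a = W (rescale D k).toSplitRed (𝟙_ (Over S)) a := by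
  classical
  obtain ⟨k, hk⟩ := exists_dual_rescale D
  obtain ⟨n₀, hn₀⟩ := exists_realisesReflections D.toSplitRed
  refine ⟨k, fun a => if a ∈ D.base.support then W (rescale D k).toSplitRed (𝟙_ (Over S)) a else n₀ a,
    fun a X t => ?_, hk, fun a ha => if_pos ha⟩
  by_cases ha : a ∈ D.base.support
  · simp only [if_pos ha]
    have e : toUnit X ≫ W (rescale D k).toSplitRed (𝟙_ (Over S)) a = W (rescale D k).toSplitRed X a := comp_W _ _
    rw [refl_torus, e]
    exact W_conj_torus (rescale D k).toSplitRed (hk a ha) t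
  · simp only [if_neg ha]
    exact hn₀ a X t

theorem U_rescale (D : Red.Pinning G) (k : D.idx → Γ(S, ⊤)ˣ) (X : Over S) (c : D.idx) (x : Γ(X.left, ⊤)) :
    U (rescale D k).toSplitRed X c x = U D.toSplitRed X c (glob X (k c : Γ(S, ⊤)) * x) := by
  show GaPts.ptOfFn x ≫ scaleHom (k c : Γ(S, ⊤)) ≫ D.u c = GaPts.ptOfFn _ ≫ D.u c
  rw [← Category.assoc]
  exact congrArg (· ≫ D.u c) (GaPts.gaFn_injective (by simp only [gaFn_scaleHom, GaPts.gaFn_ptOfFn]))

variable {H : Subgroup (𝟙_ (Over S) ⟶ G)} (D : Red.Pinning G)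
  (hH : ∀ a : D.idx, a ∈ D.base.support ∨ D.P.reflectionPerm a a ∈ D.base.support →
    ∀ x : 𝟙_ (Over S) ⟶ Red.Ga S, x ≫ D.u a ∈ H)

include hH in
theorem U_simple_mem {a : D.idx} (ha : a ∈ D.base.support ∨ D.P.reflectionPerm a a ∈ D.base.support)
    (x : Γ((𝟙_ (Over S)).left, ⊤)) : U D.toSplitRed (𝟙_ (Over S)) a x ∈ H :=
  hH a ha (GaPts.ptOfFn x)

include hH in
theorem U_rescale_mem (k : D.idx → Γ(S, ⊤)ˣ) {a : D.idx}
    (ha : a ∈ D.base.support ∨ D.P.reflectionPerm a a ∈ D.base.support) (x : Γ((𝟙_ (Over S)).left, ⊤)) :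
    U (rescale D k).toSplitRed (𝟙_ (Over S)) a x ∈ H := by
  rw [U_rescale]; exact U_simple_mem D hH ha _

include hH in
theorem W_mem (k : D.idx → Γ(S, ⊤)ˣ) {a : D.idx} (ha : a ∈ D.base.support) :
    W (rescale D k).toSplitRed (𝟙_ (Over S)) a ∈ H := by
  have hn : D.P.reflectionPerm a a ∈ D.base.support ∨
      D.P.reflectionPerm (D.P.reflectionPerm a a) (D.P.reflectionPerm a a) ∈ D.base.support :=
    Or.inr (by rw [neg_neg_idx]; exact ha)
  exact mul_mem (mul_mem (U_rescale_mem D hH k (Or.inl ha) 1) (inv_mem (U_rescale_mem D hH k hn 1)))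
    (U_rescale_mem D hH k (Or.inl ha) 1)

include hH in
/-- Every root subgroup lies in a subgroup containing the simple ones. -/
theorem U_mem [Nonempty S] (c : D.idx) (x : Γ((𝟙_ (Over S)).left, ⊤)) : U D.toSplitRed (𝟙_ (Over S)) c x ∈ H := by
  obtain ⟨k, nr, hnr, -, hW⟩ := exists_weyl_sections D
  obtain ⟨l, a, hl, ha, rfl⟩ := reach_simple D.toSplitRed D.base c
  induction l generalizing x with
  | nil => simpa using U_simple_mem D hH (Or.inl ha) x
  | cons d l ih =>
    set c := (List.map D.P.reflectionPerm (d :: l)).prod a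
    obtain ⟨κ, hκ⟩ := conj_root D.toSplitRed (realisesReflections_inv D.toSplitRed hnr) d c
    have hd : D.P.reflectionPerm d c = (List.map D.P.reflectionPerm l).prod a := by
      simp [c, D.P.reflectionPerm_self]
    have h := hκ (𝟙_ (Over S)) x
    rw [hd, show toUnit (𝟙_ (Over S)) = 𝟙 _ from toUnit_unique _ _, Category.id_comp, inv_inv] at h
    have hn : nr d ∈ H := hW d (hl d List.mem_cons_self) ▸ W_mem D hH k (hl d List.mem_cons_self)
    have e : U D.toSplitRed (𝟙_ (Over S)) c x =
        nr d * ((nr d)⁻¹ * U D.toSplitRed (𝟙_ (Over S)) c x * nr d) * (nr d)⁻¹ := by group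
    rw [e, h]
    exact mul_mem (mul_mem hn (ih _ (fun z hz => hl z (List.mem_cons_of_mem _ hz)))) (inv_mem hn)

end Groth.Agent.RedRk29

namespace Groth.Agent.RedRk29

open GrpSchLib Rank2Red38 RedSub30.RootPoly

section Local

variable {A : Type u} [CommRing A] [IsLocalRing A] {G : Over (Spec (CommRingCat.of A))} [GrpObj G] (D : Red.Pinning G)

/-- Over a local ring a subgroup containing the torus and the simple root groups is everything. -/
theorem mem_of_local (H : Subgroup (𝟙_ (Over (Spec (CommRingCat.of A))) ⟶ G)) (hT : ∀ t : 𝟙_ _ ⟶ D.T, t ≫ D.i ∈ H)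
    (hH : ∀ a : D.idx, a ∈ D.base.support ∨ D.P.reflectionPerm a a ∈ D.base.support →
      ∀ x : 𝟙_ _ ⟶ Red.Ga (Spec (CommRingCat.of A)), x ≫ D.u a ∈ H)
    (g : 𝟙_ (Over (Spec (CommRingCat.of A))) ⟶ G) : g ∈ H := by
  classical
  haveI : Nonempty (Spec (CommRingCat.of A)) := ⟨IsLocalRing.closedPoint A⟩
  let e (R : Set D.idx) : Fin (Set.toFinset R).card → D.idx := fun k => ((Set.toFinset R).equivFin.symm k : D.idx)
  have he : ∀ R, RedSub.Enumerates R (e R) := fun R => ⟨Subtype.val_injective.comp (Equiv.injective _), by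
    ext x
    simp only [Set.mem_range, e]
    exact ⟨fun ⟨k, hk⟩ => hk ▸ Set.mem_toFinset.mp ((Set.toFinset R).equivFin.symm k).2,
      fun hx => ⟨(Set.toFinset R).equivFin ⟨x, Set.mem_toFinset.mpr hx⟩, by simp⟩⟩⟩
  set eneg := e (RedSub.negRoots D.P D.base)
  set epos := e (RedSub.posRoots D.P D.base)
  let p0 : (𝟙_ (Over (Spec (CommRingCat.of A)))).left := IsLocalRing.closedPoint A
  obtain ⟨w, hw, hp⟩ := cover_simple (D := D.toSplitRed) (b := D.base) (he _) (he _)
    (fun _ => GaPts.ptOfFn 1) (fun a _ => by rw [GaPts.gaFn_ptOfFn]; exact isUnit_one) (g.left.base p0)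
  have hwH : w ∈ H := (Submonoid.closure_le.mpr (by
    rintro _ ⟨a, ha, rfl⟩
    exact hH a (Or.inl ha) _) : _ ≤ H.toSubmonoid) hw
  haveI := BigCell29.isOpenImmersion_cellMap D.toSplitRed D.base (he (RedSub.negRoots D.P D.base)) (he (RedSub.posRoots D.P D.base))
  haveI := isOpenImmersion_translate (RedSub.cellMap D.toSplitRed eneg epos) w
  set W := (toUnit _ ≫ w) * RedSub.cellMap D.toSplitRed eneg epos
  have hrange : Set.range g.left.base ⊆ Set.range W.left.base := by
    rintro _ ⟨q, rfl⟩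
    exact ((IsLocalRing.specializes_closedPoint q).map g.left.continuous).mem_open
      W.left.isOpenEmbedding.isOpen_range hp
  let y : 𝟙_ (Over (Spec (CommRingCat.of A))) ⟶ _ := Over.homMk (IsOpenImmersion.lift W.left g.left hrange)
    (by rw [← Over.w W, ← Category.assoc, IsOpenImmersion.lift_fac]; exact Over.w g)
  have hy : y ≫ W = g := Over.OverMorphism.ext (IsOpenImmersion.lift_fac _ _ _)
  rw [← hy, comp_monoid, show toUnit (𝟙_ (Over (Spec (CommRingCat.of A)))) = 𝟙 _ from toUnit_unique _ _, Category.id_comp]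
  have hword : ∀ {k : ℕ} (e : Fin k → D.idx) (z : 𝟙_ _ ⟶ RedSub.pow (Red.Ga (Spec (CommRingCat.of A))) k),
      z ≫ RedSub.prodMap (Red.Ga _) k (fun j => D.u (e j)) ∈ H := fun e z => by
    rw [comp_prodMap D.toSplitRed, wordPt]
    refine list_prod_mem fun v hv => ?_
    obtain ⟨j, rfl⟩ := List.mem_ofFn.mp hv
    exact U_mem D hH _ _
  refine mul_mem hwH ?_
  rw [RedSub.cellMap, MonObj.comp_mul, MonObj.comp_mul]
  simp only [← Category.assoc]
  exact mul_mem (hword _ _) (mul_mem (hT _) (hword _ _))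

end Local

section Coroot

variable {S : Scheme.{u}} {G : Over S} [GrpObj G] (D : Red.Pinning G)
variable {H : Subgroup (𝟙_ (Over S) ⟶ G)}
  (hH : ∀ a : D.idx, a ∈ D.base.support ∨ D.P.reflectionPerm a a ∈ D.base.support →
    ∀ x : 𝟙_ (Over S) ⟶ Red.Ga S, x ≫ D.u a ∈ H)

include hH in
/-- The values of simple coroots lie in a subgroup containing the simple root groups. -/
theorem av_mem {a : D.idx} (ha : a ∈ D.base.support) (v : Γ((𝟙_ (Over S)).left, ⊤)ˣ) :
    I D.toSplitRed (𝟙_ (Over S)) (av D.toSplitRed (𝟙_ (Over S)) a v) ∈ H := by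
  obtain ⟨k, nr, -, hk, -⟩ := exists_weyl_sections D
  have hn : D.P.reflectionPerm a a ∈ D.base.support ∨
      D.P.reflectionPerm (D.P.reflectionPerm a a) (D.P.reflectionPerm a a) ∈ D.base.support :=
    Or.inr (by rw [neg_neg_idx]; exact ha)
  have hw : ∀ z, (sys (rescale D k).toSplitRed (𝟙_ (Over S)) (hk a ha)).w z ∈ H := fun z =>
    mul_mem (mul_mem (U_rescale_mem D hH k (Or.inl ha) _) (U_rescale_mem D hH k hn _)) (U_rescale_mem D hH k (Or.inl ha) _)
  have h := (sys (rescale D k).toSplitRed (𝟙_ (Over S)) (hk a ha)).w_mul v 1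
  rw [mul_one] at h
  have e := eq_mul_inv_of_mul_eq h.symm
  exact e ▸ mul_mem (hw v) (inv_mem (hw 1))

include hH in
/-- If the coroots span the dual lattice the torus lies in a subgroup containing the simple root groups. -/
theorem torus_mem (hsc : Submodule.span ℤ (Set.range D.P.coroot) = ⊤) (t : 𝟙_ (Over S) ⟶ D.T) : t ≫ D.i ∈ H := by
  classical
  have hli : LinearIndependent ℤ (fun a : D.base.support => D.P.coroot a) := D.base.linearIndepOn_coroot
  have hsp : ⊤ ≤ Submodule.span ℤ (Set.range fun a : D.base.support => D.P.coroot a) := by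
    rw [← hsc, Submodule.span_le]
    rintro _ ⟨i, rfl⟩
    have h := D.base.coroot_mem_span_int i
    rw [Set.image_eq_range] at h
    exact h
  let ε : Module.Basis D.base.support ℤ (Module.Dual ℤ D.M) := Module.Basis.mk hli hsp
  let ω : Module.Basis D.base.support ℤ D.M := ε.dualBasis.map (Module.evalEquiv ℤ D.M).symm
  have hω : ∀ a b : D.base.support, D.P.coroot a (ω b) = if a = b then 1 else 0 := fun a b => by
    have h1 : D.P.coroot (a : D.idx) = ε a := (Module.Basis.mk_apply hli hsp a).symm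
    rw [h1, Module.Basis.map_apply, Module.apply_evalEquiv_symm_apply, Module.Basis.dualBasis_apply_self]
  set τ := t ≫ D.split.hom.hom.hom
  let v : D.base.support → Γ((𝟙_ (Over S)).left, ⊤)ˣ := fun a =>
    ⟨dsVal τ (ω a), dsVal τ (-ω a), by rw [← dsVal_add, add_neg_cancel, dsVal_zero],
      by rw [← dsVal_add, neg_add_cancel, dsVal_zero]⟩
  let L := (Finset.univ : Finset D.base.support).toList
  have ht : t = (L.map fun a : D.base.support => av D.toSplitRed (𝟙_ (Over S)) (a : D.idx) (v a)).prod := by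
    have hid : D.split.inv.hom.hom ≫ D.split.hom.hom.hom = 𝟙 _ := congrArg (fun k => k.hom.hom) D.split.inv_hom_id
    have hid' : D.split.hom.hom.hom ≫ D.split.inv.hom.hom = 𝟙 _ := congrArg (fun k => k.hom.hom) D.split.hom_inv_id
    refine (cancel_mono D.split.hom.hom.hom).mp (ds_ext fun m => ?_)
    haveI : IsMonHom D.split.hom.hom.hom := D.split.hom.hom.isMonHom_hom
    haveI : IsMonHom (Red.chi S m) := S5427.isMonHom_DSmap S _
    have hav : ∀ a : D.base.support, dsVal (av D.toSplitRed (𝟙_ (Over S)) (a : D.idx) (v a) ≫ D.split.hom.hom.hom) m =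
        ((v a ^ D.P.coroot (a : D.idx) m : (Γ((𝟙_ (Over S)).left, ⊤))ˣ) : Γ((𝟙_ (Over S)).left, ⊤)) := fun a => by
      show dsVal ((GmPts.ptOfUnit (v a) ≫ corootHom D.toSplitRed (a : D.idx)) ≫ D.split.hom.hom.hom) m = _
      simp only [corootHom, Category.assoc, hid, Category.comp_id]
      rw [dsVal_map, dsVal_gm, GmPts.unitOfPt_ptOfUnit]
      rfl
    have hprod : ∀ l : List D.base.support,
        dsVal ((l.map fun a : D.base.support => av D.toSplitRed (𝟙_ (Over S)) (a : D.idx) (v a)).prod ≫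
          D.split.hom.hom.hom) m = dsVal τ ((l.map fun a : D.base.support => D.P.coroot (a : D.idx) m • ω a).sum) := by
      intro l
      induction l with
      | nil =>
        rw [List.map_nil, List.prod_nil, List.map_nil, List.sum_nil, dsVal_zero, ← gmFn_chi]
        rw [Category.assoc]
        exact (congrArg Red.gmFn (MonObj.one_comp (D.split.hom.hom.hom ≫ Red.chi S m))).trans GmPts.gmFn_one
      | cons a l ih =>
        have hmul : ∀ p q : 𝟙_ (Over S) ⟶ D.T, (p * q) ≫ D.split.hom.hom.hom =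
            (p ≫ D.split.hom.hom.hom) * (q ≫ D.split.hom.hom.hom) := fun p q => MonObj.mul_comp _ _ _
        simp only [List.map_cons, List.prod_cons, List.sum_cons, hmul, dsVal_mul, dsVal_add, hav, ih]
        congr 1
        have h := dsVal_zsmul τ (v := v a) rfl 0 (D.P.coroot (a : D.idx) m)
        rw [zero_add, dsVal_zero, one_mul] at h
        exact h.symm
    rw [hprod, Finset.sum_map_toList]
    show dsVal τ m = _
    congr 1
    have h := ω.sum_repr m
    conv_lhs => rw [← h]
    refine Finset.sum_congr rfl fun a _ => ?_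
    congr 1
    conv_rhs => rw [← h]
    simp only [map_sum, map_smul, hω, smul_eq_mul, mul_ite, mul_one, mul_zero, Finset.sum_ite_eq, Finset.mem_univ,
      if_true]
  rw [ht]
  show I D.toSplitRed (𝟙_ (Over S)) _ ∈ H
  rw [map_list_prod]
  refine list_prod_mem fun z hz => ?_
  simp only [List.mem_map] at hz
  obtain ⟨_, ⟨a, -, rfl⟩, rfl⟩ := hz
  exact av_mem D hH a.2 _

end Coroot

end Groth.Agent.RedRk29
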