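import Groth.Agent.RedRk29.LocalGen
import Groth.Agent.S5509
import Groth.Agent.RedSub30.RootPoly

/-!
# The normaliser of the torus acts on it through the Weyl group
-/

set_option autoImplicit false

universe u

open CategoryTheory CategoryTheory.Limits MonoidalCategory CartesianMonoidalCategory AlgebraicGeometry
open scoped MonObj GrpObj

noncomputable section

namespace Groth.Agent.RedRk29

open BigCell29 GrpSchLib Rank2Red38

variable {S : Scheme.{u}} {G : Over S} [GrpObj G] (D : Red.SplitRed G)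

/-- The linear map of a word. -/
def wordMap (l : List D.idx) : D.M →+ D.M :=
  ((l.map fun a => D.P.reflection a).prod : D.M ≃ₗ[ℤ] D.M).toLinearMap.toAddMonoidHom

/-- The torus point moved by an endomorphism of the characters. -/
def actT {X : Over S} (φ : D.M →+ D.M) (t : X ⟶ D.T) : X ⟶ G :=
  t ≫ D.split.hom.hom.hom ≫ Red.DSmap S φ ≫ D.split.inv.hom.hom ≫ D.i

theorem comp_actT {X X' : Over S} (y : X' ⟶ X) (φ : D.M →+ D.M) (t : X ⟶ D.T) :
    y ≫ actT D φ t = actT D φ (y ≫ t) := by simp only [actT, Category.assoc]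

variable {D} {nr : D.idx → (𝟙_ (Over S) ⟶ G)} (hnr : RedSub.RealisesReflections D nr)

include hnr in
theorem conj_word (l : List D.idx) (X : Over S) (t : X ⟶ D.T) :
    (toUnit X ≫ (l.map nr).prod) * I D X t * (toUnit X ≫ (l.map nr).prod)⁻¹ = actT D (wordMap D l.reverse) t := by
  have hid : D.split.inv.hom.hom ≫ D.split.hom.hom.hom = 𝟙 _ := congrArg (fun k => k.hom.hom) D.split.inv_hom_id
  have hid' : D.split.hom.hom.hom ≫ D.split.inv.hom.hom = 𝟙 _ := congrArg (fun k => k.hom.hom) D.split.hom_inv_id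
  induction l generalizing t with
  | nil =>
    simp only [List.map_nil, List.prod_nil, MonObj.comp_one, inv_one, one_mul, mul_one, List.reverse_nil, actT]
    have e : t ≫ D.split.hom.hom.hom ≫ Red.DSmap S (wordMap D []) = t ≫ D.split.hom.hom.hom := by
      refine ds_ext fun m => ?_
      rw [← Category.assoc, dsVal_map]
      simp [wordMap]
    simp only [← Category.assoc] at e ⊢
    rw [e, Category.assoc t, hid', Category.comp_id]
    rfl
  | cons a l ih =>
    rw [List.map_cons, List.prod_cons, MonObj.comp_mul, mul_inv_rev]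
    set t' := t ≫ D.split.hom.hom.hom ≫ Red.DSmap S (wordMap D l.reverse) ≫ D.split.inv.hom.hom
    have h1 : (toUnit X ≫ (l.map nr).prod) * I D X t * (toUnit X ≫ (l.map nr).prod)⁻¹ = t' ≫ D.i := by
      rw [ih t]; simp only [actT, t', Category.assoc]
    have h2 := hnr a X t'
    rw [show (toUnit X ≫ nr a) * (toUnit X ≫ (l.map nr).prod) * I D X t *
        ((toUnit X ≫ (l.map nr).prod)⁻¹ * (toUnit X ≫ nr a)⁻¹) = (toUnit X ≫ nr a) *
        ((toUnit X ≫ (l.map nr).prod) * I D X t * (toUnit X ≫ (l.map nr).prod)⁻¹) * (toUnit X ≫ nr a)⁻¹ by group,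
      h1, h2]
    have e : t' ≫ D.split.hom.hom.hom ≫ Red.DSmap S (D.P.reflection a).toLinearMap.toAddMonoidHom =
        t ≫ D.split.hom.hom.hom ≫ Red.DSmap S (wordMap D (a :: l).reverse) := by
      refine ds_ext fun m => ?_
      rw [← Category.assoc, dsVal_map, ← Category.assoc t, dsVal_map]
      simp only [t', Category.assoc, hid, Category.comp_id]
      rw [← Category.assoc t, dsVal_map]
      congr 1
      simp [wordMap, List.reverse_cons]
    have := congrArg (· ≫ D.split.inv.hom.hom ≫ D.i) e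
    simpa only [actT, Category.assoc] using this

/-- The endomorphism of the characters is determined by its action on the torus over a nonempty test object. -/
theorem actT_inj {X' : Over S} [hne : Nonempty X'.left] {φ ψ : D.M →+ D.M}
    (h : ∀ (Y : Over S) (_ : Y ⟶ X') (t : Y ⟶ D.T), actT D φ t = actT D ψ t) : φ = ψ := by
  obtain ⟨u⟩ := hne
  let K : Type u := X'.left.residueField u
  let f : Spec (CommRingCat.of K) ⟶ S := X'.left.fromSpecResidueField u ≫ X'.hom
  let Y := tObj f (AddMonoidAlgebra K D.M)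
  let p : Y ⟶ X' := Over.homMk
    (Spec.map (CommRingCat.ofHom (algebraMap K (AddMonoidAlgebra K D.M))) ≫ X'.left.fromSpecResidueField u)
    (Category.assoc _ _ _)
  have h1 := h Y p (chPt f (univChar K D.M) ≫ D.split.inv.hom.hom)
  have hid : D.split.inv.hom.hom ≫ D.split.hom.hom.hom = 𝟙 _ := congrArg (fun k => k.hom.hom) D.split.inv_hom_id
  have hdef : ∀ φ : D.M →+ D.M, actT D φ (chPt f (univChar K D.M) ≫ D.split.inv.hom.hom) =
      torG D ((univChar K D.M).comp φ.toMultiplicative) := fun φ => by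
    simp only [actT, Category.assoc, reassoc_of% hid]
    rw [← Category.assoc, chPt_DSmap]
    rfl
  rw [hdef, hdef] at h1
  refine AddMonoidHom.ext fun m => ?_
  have h2 := DFunLike.congr_fun (torG_injective D h1) (Multiplicative.ofAdd m)
  simp only [MonoidHom.comp_apply, univChar, AddMonoidAlgebra.of_apply] at h2
  exact AddMonoidAlgebra.single_left_injective (M := D.M) (R := K) one_ne_zero h2

variable (D) in
theorem exists_base' [Nonempty S] : Nonempty D.P.Base := by
  classical
  haveI := isReduced (D := D)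
  obtain ⟨Δ, hΔ⟩ := RootData.exists_simple D.P
  exact ⟨AGFRoot.baseOfSimple Δ.toFinite.toFinset (by rw [Set.Finite.coe_toFinset]; exact hΔ)⟩

variable (D) in
/-- A section normalising the torus over a connected base acts through a word. -/
theorem exists_word_of_normalizing (X : Over S) [ConnectedSpace X.left] (g : X ⟶ G)
    (hg : ∀ (X' : Over S) (y : X' ⟶ X) (t : X' ⟶ D.T), ∃ t' : X' ⟶ D.T,
      (y ≫ g) * (t ≫ D.i) * (y ≫ g)⁻¹ = t' ≫ D.i) :
    ∃ l : List D.idx, ∀ (X' : Over S) (y : X' ⟶ X) (t : X' ⟶ D.T),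
      (y ≫ g) * (t ≫ D.i) * (y ≫ g)⁻¹ = actT D (wordMap D l) t := by
  classical
  obtain ⟨x0⟩ := (inferInstance : Nonempty X.left)
  haveI : Nonempty S := ⟨X.hom.base x0⟩
  obtain ⟨b⟩ := exists_base' D
  obtain ⟨nr, hnr⟩ := exists_realisesReflections D
  let e (R : Set D.idx) : Fin (Set.toFinset R).card → D.idx := fun k => ((Set.toFinset R).equivFin.symm k : D.idx)
  have he : ∀ R, RedSub.Enumerates R (e R) := fun R => ⟨Subtype.val_injective.comp (Equiv.injective _), by
    ext x
    simp only [Set.mem_range, e]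
    exact ⟨fun ⟨k, hk⟩ => hk ▸ Set.mem_toFinset.mp ((Set.toFinset R).equivFin.symm k).2,
      fun hx => ⟨(Set.toFinset R).equivFin ⟨x, Set.mem_toFinset.mpr hx⟩, by simp⟩⟩⟩
  set c := RedSub.cellMap D (e (RedSub.negRoots D.P b)) (e (RedSub.posRoots D.P b))
  haveI : IsOpenImmersion c.left :=
    BigCell29.isOpenImmersion_cellMap D b (he (RedSub.negRoots D.P b)) (he (RedSub.posRoots D.P b))
  -- locally the section is a word times a torus point
  have hloc : ∀ x : X.left, ∃ (l : List D.idx) (U : X.left.Opens), x ∈ U ∧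
      ∀ (X' : Over S) (y : X' ⟶ X), Set.range y.left.base ⊆ U → ∀ t : X' ⟶ D.T,
        (y ≫ g) * (t ≫ D.i) * (y ≫ g)⁻¹ = actT D (wordMap D l.reverse) t := by
    intro x
    obtain ⟨l, -, hl⟩ := cover_translates (he (RedSub.negRoots D.P b)) (he (RedSub.posRoots D.P b)) hnr (g.left.base x)
    haveI := isOpenImmersion_translate c (l.map nr).prod
    set W := (toUnit _ ≫ (l.map nr).prod) * c
    refine ⟨l, ⟨g.left.base ⁻¹' Set.range W.left.base, W.left.isOpenEmbedding.isOpen_range.preimage g.left.continuous⟩,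
      hl, fun X' y hy t => ?_⟩
    have hrange : Set.range (y ≫ g).left.base ⊆ Set.range W.left.base := by
      rintro _ ⟨q, rfl⟩
      exact hy ⟨q, rfl⟩
    let z : X' ⟶ _ := Over.homMk (IsOpenImmersion.lift W.left (y ≫ g).left hrange)
      (by rw [← Over.w W, ← Category.assoc, IsOpenImmersion.lift_fac]; exact Over.w (y ≫ g))
    have hz : z ≫ W = y ≫ g := Over.OverMorphism.ext (IsOpenImmersion.lift_fac _ _ _)
    rw [comp_monoid] at hz
    have hT : z ≫ c = (z ≫ snd _ _ ≫ fst _ _) ≫ D.i := by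
      refine Groth.Agent.S5509.result D b _ _ (he _) (he _) X' z fun X'' q t'' => ?_
      obtain ⟨t₁, ht₁⟩ := hg X'' (q ≫ y) t''
      obtain ⟨s, hs⟩ : ∃ s : X'' ⟶ D.T,
          (toUnit X'' ≫ (l.map nr).prod)⁻¹ * (t₁ ≫ D.i) * (toUnit X'' ≫ (l.map nr).prod) = s ≫ D.i := by
        have key : ∀ (l : List D.idx) (t : X'' ⟶ D.T), ∃ s : X'' ⟶ D.T,
            (toUnit X'' ≫ (l.map nr).prod)⁻¹ * (t ≫ D.i) * (toUnit X'' ≫ (l.map nr).prod) = s ≫ D.i := by
          intro l
          induction l with
          | nil => exact fun t => ⟨t, by simp [MonObj.comp_one]⟩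
          | cons a l ih =>
            intro t
            obtain ⟨s, hs⟩ := ih (reflT D X'' a t)
            refine ⟨s, ?_⟩
            have h := conj_torus D hnr a X'' (reflT D X'' a t)
            rw [reflT_reflT] at h
            rw [List.map_cons, List.prod_cons, MonObj.comp_mul, ← hs]
            show _ * I D X'' t * _ = _ * I D X'' (reflT D X'' a t) * _
            rw [← h]
            group
        exact key l t₁
      refine ⟨s, ?_⟩
      have e2 : (q ≫ y) ≫ g = (toUnit X'' ≫ (l.map nr).prod) * (q ≫ z ≫ c) := by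
        rw [Category.assoc, ← hz, MonObj.comp_mul, ← Category.assoc q (toUnit X'), toUnit_unique (q ≫ toUnit X') (toUnit X'')]
      rw [e2] at ht₁
      rw [← hs, ← ht₁]
      simp only [c]
      group
    rw [← hz, hT, ← conj_word hnr l X' t]
    set t₀ := z ≫ snd _ _ ≫ fst _ _
    show (toUnit X' ≫ (l.map nr).prod) * I D X' t₀ * I D X' t * ((toUnit X' ≫ (l.map nr).prod) * I D X' t₀)⁻¹ = _
    rw [mul_inv_rev]
    calc (toUnit X' ≫ (l.map nr).prod) * I D X' t₀ * I D X' t * ((I D X' t₀)⁻¹ * (toUnit X' ≫ (l.map nr).prod)⁻¹)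
        = (toUnit X' ≫ (l.map nr).prod) * I D X' (t₀ * t * t₀⁻¹) * (toUnit X' ≫ (l.map nr).prod)⁻¹ := by
          rw [map_mul, map_mul, map_inv]; group
      _ = _ := by rw [torus_comm D t₀ t, mul_inv_cancel_right]
  choose L U hxU hU using hloc
  -- overlapping pieces have the same map
  have hover : ∀ x x' z : X.left, z ∈ U x → z ∈ U x' → wordMap D (L x).reverse = wordMap D (L x').reverse := by
    intro x x' z hz hz'
    let X' : Over S := Over.mk ((U x ⊓ U x').ι ≫ X.hom)
    let y : X' ⟶ X := Over.homMk (U x ⊓ U x').ι rfl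
    haveI : Nonempty X'.left := ⟨⟨z, hz, hz'⟩⟩
    refine actT_inj (X' := X') fun Y p t => ?_
    have hsub : Set.range (p ≫ y).left.base ⊆ U x ∩ U x' := by
      rintro _ ⟨q, rfl⟩
      exact (p.left.base q).2
    rw [← hU x Y (p ≫ y) (hsub.trans Set.inter_subset_left) t, hU x' Y (p ≫ y) (hsub.trans Set.inter_subset_right) t]
  have hall : ∀ x, wordMap D (L x).reverse = wordMap D (L x0).reverse := by
    let A : Set X.left := {z | wordMap D (L z).reverse = wordMap D (L x0).reverse}
    have hA : ∀ z z', z' ∈ U z → (z' ∈ A ↔ z ∈ A) := fun z z' h => by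
      have := hover z z' z' h (hxU z')
      simp only [A, Set.mem_setOf_eq, this]
    have hopen : IsOpen A := isOpen_iff_forall_mem_open.mpr fun z hz =>
      ⟨U z, fun z' h => (hA z z' h).mpr hz, (U z).2, hxU z⟩
    have hclosed : IsClosed A := isOpen_compl_iff.mp (isOpen_iff_forall_mem_open.mpr fun z hz =>
      ⟨U z, fun z' h h' => hz ((hA z z' h).mp h'), (U z).2, hxU z⟩)
    have : A = Set.univ := (IsClopen.eq_univ ⟨hclosed, hopen⟩ ⟨x0, show wordMap D (L x0).reverse = _ from rfl⟩)
    exact fun x => (Set.eq_univ_iff_forall.mp this x : _)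
  refine ⟨(L x0).reverse, fun X' y t => ?_⟩
  let V : X'.left → X'.left.Opens := fun q => y.left ⁻¹ᵁ U (y.left.base q)
  refine RedSub30.RootPoly.hom_ext_cover (fun q => Over.mk ((V q).ι ≫ X'.hom)) (fun q => Over.homMk (V q).ι rfl)
    (fun q => inferInstanceAs (IsOpenImmersion (V q).ι)) (fun q => ⟨q, ⟨q, hxU (y.left.base q)⟩, rfl⟩) fun q => ?_
  set a : Over.mk ((V q).ι ≫ X'.hom) ⟶ X' := Over.homMk (V q).ι rfl
  have hsub : Set.range (a ≫ y).left.base ⊆ U (y.left.base q) := by
    rintro _ ⟨w, rfl⟩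
    exact w.2
  have h := hU (y.left.base q) _ (a ≫ y) hsub (a ≫ t)
  rw [hall] at h
  rw [comp_actT, ← h, MonObj.comp_mul, MonObj.comp_mul, GrpObj.comp_inv]
  simp only [Category.assoc]

end Groth.Agent.RedRk29
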