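import Groth.Agent.RedRk29.Reps

/-!
# Positive root groups raise weights
-/

set_option autoImplicit false

universe u

open TensorProduct WithConv

namespace Groth.Agent.RedRk29

open BigCell29

variable {k : Type u} [Field k] [IsAlgClosed k] {A : Type u} [CommRing A] [HopfAlgebra k A]
  {W : Type u} [AddCommGroup W] [Module k W] {M ι : Type} [AddCommGroup M] [Module.Free ℤ M] [Module.Finite ℤ M]
  (F : Frame k A M ι) (π : Pt k A k →* Module.End k W) (lam : M →+ ℤ)

/-- The weight spaces of level at least `d`. -/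
def Hi (d : ℤ) : Submodule k W := ⨆ (m : M) (_ : d ≤ lam m), Wt F π m

/-- The group generated by the positive root groups. -/
noncomputable def posRt : Subgroup (Pt k A k) :=
  Subgroup.closure {g | ∃ (i : ι) (x : k), 0 < lam (F.root i) ∧ g = F.rt i x}

omit [IsAlgClosed k] [Module.Free ℤ M] [Module.Finite ℤ M] in
theorem rt_mem_posRt {i : ι} (hi : 0 < lam (F.root i)) (x : k) : F.rt i x ∈ posRt F lam :=
  Subgroup.subset_closure ⟨i, x, hi, rfl⟩

omit [IsAlgClosed k] [Module.Free ℤ M] [Module.Finite ℤ M] in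
theorem prodPt_mem_posRt {n : ℕ} {e : Fin n → ι} (he : ∀ j, 0 < lam (F.root (e j))) (x : Fin n → k) :
    F.prodPt e x ∈ posRt F lam := by
  refine Subgroup.list_prod_mem _ fun g hg => ?_
  obtain ⟨j, rfl⟩ := List.mem_ofFn.mp hg
  exact rt_mem_posRt F lam (he j) _

omit [IsAlgClosed k] [Module.Free ℤ M] [Module.Finite ℤ M] in
theorem Wt_le_Hi {m : M} {d : ℤ} (h : d ≤ lam m) : Wt F π m ≤ Hi F π lam d :=
  le_iSup₂ (f := fun (m : M) (_ : d ≤ lam m) => Wt F π m) m h

omit [IsAlgClosed k] [Module.Free ℤ M] [Module.Finite ℤ M] in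
theorem Hi_antitone : Antitone (Hi F π lam) := fun _ _ hab =>
  iSup₂_le fun _ hm => Wt_le_Hi F π lam (hab.trans hm)

variable {π} (hπ : IsRegRep π)

include hπ in
theorem comp_Hi [DecidableEq M] {d : ℤ} {v : W} (hv : v ∈ Hi F π lam d) {m : M} (hm : lam m < d) :
    comp F hπ m v = 0 := by
  suffices Hi F π lam d ≤ LinearMap.ker (comp F hπ m) from this hv
  refine iSup₂_le fun n hn x hx => ?_
  rw [LinearMap.mem_ker, comp_of_mem F hπ hx, if_neg]
  rintro rfl
  omega

include hπ in
theorem mem_Hi_of_comp {d : ℤ} {v : W} (h : ∀ m, lam m < d → wt F hπ v m = 0) : v ∈ Hi F π lam d := by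
  rw [← sum_wt F hπ v]
  refine Submodule.sum_mem _ fun m hm => ?_
  by_cases hd : d ≤ lam m
  · exact Wt_le_Hi F π lam hd (wt_mem F hπ v m)
  · exact absurd (h m (lt_of_not_ge hd)) (Finsupp.mem_support_iff.mp hm)

include hπ in
/-- Positive root groups move a vector by higher levels only. -/
theorem sub_mem_Hi {g : Pt k A k} (hg : g ∈ posRt F lam) {d : ℤ} {v : W} (hv : v ∈ Hi F π lam d) :
    π g v - v ∈ Hi F π lam (d + 1) := by
  revert d v
  have hrt : ∀ (i : ι) (x : k), 0 < lam (F.root i) → ∀ (d : ℤ) (v : W), v ∈ Hi F π lam d →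
      π (F.rt i x) v - v ∈ Hi F π lam (d + 1) := by
    intro i x hi d v hv
    suffices Hi F π lam d ≤ (Hi F π lam (d + 1)).comap (π (F.rt i x) - 1) from this hv
    refine iSup₂_le fun m hm w hw => ?_
    obtain ⟨f, hf, hf0, hfw⟩ := root_expand F hπ i hw
    show π (F.rt i x) w - w ∈ Hi F π lam (d + 1)
    rw [hf x, ← hf0, Finsupp.sum]
    by_cases h0 : (0 : ℕ) ∈ f.support
    · rw [← Finset.add_sum_erase _ _ h0, pow_zero, one_smul, add_sub_cancel_left]
      refine Submodule.sum_mem _ fun n hn => Submodule.smul_mem _ _ (Wt_le_Hi F π lam ?_ (hfw n))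
      have hn0 : 1 ≤ (n : ℤ) := by exact_mod_cast Nat.one_le_iff_ne_zero.mpr (Finset.mem_erase.mp hn).1
      rw [map_add, map_nsmul, nsmul_eq_mul]
      nlinarith
    · rw [Finsupp.notMem_support_iff.mp h0, sub_zero]
      refine Submodule.sum_mem _ fun n hn => Submodule.smul_mem _ _ (Wt_le_Hi F π lam ?_ (hfw n))
      have hn0 : 1 ≤ (n : ℤ) := by exact_mod_cast Nat.one_le_iff_ne_zero.mpr (fun h => h0 (h ▸ hn))
      rw [map_add, map_nsmul, nsmul_eq_mul]
      nlinarith
  induction hg using Subgroup.closure_induction'' with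
  | mem g hg => obtain ⟨i, x, hi, rfl⟩ := hg; exact fun {d v} => hrt i x hi d v
  | inv_mem g hg =>
    obtain ⟨i, x, hi, rfl⟩ := hg
    have e : (F.rt i x)⁻¹ = F.rt i (-x) := (eq_inv_of_mul_eq_one_right (by
      show linePt (F.φ i) x * linePt (F.φ i) (-x) = 1
      rw [← F.rt_add, add_neg_cancel]; exact F.rt_zero i)).symm
    rw [e]
    exact fun {d v} => hrt i (-x) hi d v
  | one => intro d v _; simp
  | mul a b _ _ ha hb =>
    intro d v hv
    have h1 := hb hv
    have h2 : π b v ∈ Hi F π lam d := by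
      simpa using Submodule.add_mem _ (Hi_antitone F π lam (by omega) h1) hv
    rw [map_mul, Module.End.mul_apply, ← sub_add_sub_cancel (π a (π b v)) (π b v) v]
    exact Submodule.add_mem _ (ha h2) h1

variable [Module.Finite k W]

include hπ in
/-- The levels of the weights are bounded. -/
theorem exists_level_bound : ∃ N : ℕ, ∀ m : M, Wt F π m ≠ ⊥ → (lam m).natAbs ≤ N := by
  classical
  exact ⟨(finite_weights F hπ).toFinset.sup fun m => (lam m).natAbs, fun m hm =>
    Finset.le_sup (f := fun m => (lam m).natAbs) ((finite_weights F hπ).mem_toFinset.mpr hm)⟩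

include hπ in
/-- Positive root groups act by unipotent endomorphisms. -/
theorem isNilpotent_sub_one {g : Pt k A k} (hg : g ∈ posRt F lam) : IsNilpotent (π g - 1) := by
  obtain ⟨N, hN⟩ := exists_level_bound F lam hπ
  refine ⟨2 * N + 1, LinearMap.ext fun v => ?_⟩
  have hiter : ∀ (j : ℕ) (d : ℤ), ∀ w ∈ Hi F π lam d, ((π g - 1) ^ j) w ∈ Hi F π lam (d + j) := fun j => by
    induction j with
    | zero => intro d w hw; simpa using hw
    | succ j ih =>
      intro d w hw
      rw [pow_succ', Module.End.mul_apply, Nat.cast_succ, ← add_assoc]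
      exact sub_mem_Hi F lam hπ hg (ih d w hw)
  have hbot : v ∈ Hi F π lam (-(N : ℤ)) := by
    refine mem_Hi_of_comp F lam hπ fun m hm => by_contra fun h => ?_
    have := hN m fun hb => h ((Submodule.eq_bot_iff _).mp hb _ (wt_mem F hπ v m))
    omega
  have htop : Hi F π lam (-(N : ℤ) + ((2 * N + 1 : ℕ) : ℤ)) = ⊥ := by
    refine eq_bot_iff.mpr (iSup₂_le fun m hm => ?_)
    by_contra h
    have := hN m fun hb => h (hb ▸ le_rfl)
    omega
  have := hiter (2 * N + 1) _ v hbot
  rw [htop, Submodule.mem_bot] at this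
  exact this

end Groth.Agent.RedRk29
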