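import Groth.Agent.RedRk29.Reduced
import Groth.Agent.RedRk29.Centr
import Groth.Agent.RedRk29.ConjRoot
import Mathlib.RingTheory.Ideal.GoingUp

/-!
# The big cell of a rank one subgroup contains a reflection times the opposite root group
-/

set_option autoImplicit false

universe u

open TensorProduct WithConv
open scoped AddMonoidAlgebra

namespace Groth.Agent.RedRk29

open BigCell29

theorem cstPt_self {R : Type u} [CommRing R] {A : Type u} [CommRing A] [HopfAlgebra R A] (g : Pt R A R) :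
    cstPt R g = g := by
  rw [cstPt, Subsingleton.elim (Algebra.ofId R R) (AlgHom.id R R), mapPt_id]

variable {M ι J : Type} [AddCommGroup M] [Module.Free ℤ M] [Module.Finite ℤ M] [Fintype ι] [Fintype J]
variable {k : Type u} [Field k] [IsAlgClosed k] {A : Type u} [CommRing A] [HopfAlgebra k A]
variable {W : J → Type u} [∀ j, AddCommGroup (W j)] [∀ j, Module k (W j)] [∀ j, Module.Finite k (W j)]
variable (F : Frame k A M ι) [Algebra.Smooth k A] [IsDomain A] (d : Refl F)

omit [IsAlgClosed k] [Module.Free ℤ M] [Module.Finite ℤ M] [Fintype ι] [Algebra.Smooth k A] [IsDomain A] in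
theorem Refl.normSk : NormS F d.s d.n := fun χ => by
  have := d.normS k χ
  rwa [cstPt_self] at this

omit [IsAlgClosed k] [Module.Free ℤ M] [Module.Finite ℤ M] [Fintype ι] [Algebra.Smooth k A] [IsDomain A] in
theorem Refl.lam_s (lam : M →+ ℤ) : (lam.comp d.s) (F.root d.a) = -lam (F.root d.a) := by
  rw [AddMonoidHom.comp_apply, d.s_a, map_neg]

omit [IsAlgClosed k] [Module.Free ℤ M] [Module.Finite ℤ M] [Fintype ι] [Algebra.Smooth k A] [IsDomain A] in
theorem Refl.lam_root_a' (lam : M →+ ℤ) : lam (F.root d.a') = -lam (F.root d.a) := by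
  rw [d.root_a', map_neg]

section InZ

omit [Fintype ι] [Algebra.Smooth k A] [IsDomain A] in
theorem inZ_mul {μ : M →+ ℤ} {g h : Pt k A k} (hg : (F.cochar μ).InZ g) (hh : (F.cochar μ).InZ h) :
    (F.cochar μ).InZ (g * h) := by
  rw [inZ_iff_comm] at *
  intro s
  rw [← mul_assoc, hg s, mul_assoc, hh s, mul_assoc]

omit [Fintype ι] [Algebra.Smooth k A] [IsDomain A] in
theorem inZ_inv {μ : M →+ ℤ} {g : Pt k A k} (hg : (F.cochar μ).InZ g) : (F.cochar μ).InZ g⁻¹ := by
  rw [inZ_iff_comm] at *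
  intro s
  calc F.T.tor (cchar μ s) * g⁻¹ = g⁻¹ * (g * F.T.tor (cchar μ s)) * g⁻¹ := by group
    _ = g⁻¹ * F.T.tor (cchar μ s) := by rw [← hg s]; group

omit [Fintype ι] [Algebra.Smooth k A] [IsDomain A] in
theorem inZ_rt {μ : M →+ ℤ} {i : ι} (hi : μ (F.root i) = 0) (x : k) : (F.cochar μ).InZ (F.rt i x) := by
  rw [inZ_iff_comm]
  intro s
  rw [← mul_inv_eq_iff_eq_mul, F.conj_rt, cchar_apply, hi, zpow_zero, Units.val_one, one_mul]

omit [Fintype ι] [Algebra.Smooth k A] [IsDomain A] in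
theorem inZ_tor {μ : M →+ ℤ} (χ : Multiplicative M →* k) : (F.cochar μ).InZ (F.T.tor χ) := by
  rw [inZ_iff_comm]
  intro s
  rw [← map_mul, ← map_mul, mul_comm]

omit [Fintype ι] [Algebra.Smooth k A] [IsDomain A] in
theorem inZ_of_normS {μ : M →+ ℤ} {s : M →+ M} (hμ : ∀ m, μ (s m) = μ m) {g : Pt k A k} (hg : NormS F s g) :
    (F.cochar μ).InZ g := by
  rw [inZ_iff_comm]
  intro t
  rw [hg]
  congr 2
  ext m
  simp [cchar, hμ]

/-- A functional vanishing exactly on the root and its opposite, invariant under the reflection. -/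
theorem Refl.exists_mu : ∃ μ : M →+ ℤ, (∀ m, μ (d.s m) = μ m) ∧
    (∀ i, μ (F.root i) = 0 → i = d.a ∨ i = d.a') ∧ μ (F.root d.a) = 0 ∧ μ (F.root d.a') = 0 := by
  obtain ⟨l, hl, -⟩ := exists_perturb (0 : M →+ ℤ)
    (Set.finite_range fun i => F.root i + d.s (F.root i))
  have hs : ∀ m, (l + l.comp d.s) (d.s m) = (l + l.comp d.s) m := fun m => by
    simp [d.s_s, add_comm]
  have ha : (l + l.comp d.s) (F.root d.a) = 0 := by simp [d.s_a]
  refine ⟨l + l.comp d.s, hs, fun i hi => ?_, ha, by rw [d.root_a', map_neg, ha, neg_zero]⟩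
  by_contra hcon
  refine hl _ ⟨i, rfl⟩ (fun h0 => hcon ?_) (by simpa using hi)
  obtain ⟨z, hz⟩ := d.s_line (F.root i)
  refine d.reduced i 2 (-z) (by norm_num) ?_
  rw [neg_smul, eq_neg_iff_add_eq_zero, ← h0]
  show (2 : ℤ) • F.root i + z • F.root d.a = F.root i + d.s (F.root i)
  rw [hz, two_zsmul, add_assoc]

/-- On a dense part, the fixed subgroup of `μ` consists of the rank one cell. -/
theorem Refl.exists_cell_inZ {lam μ : M →+ ℤ} (hlam : ∀ i, lam (F.root i) ≠ 0) (hpos : 0 < lam (F.root d.a))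
    (hμ : ∀ i, μ (F.root i) = 0 → i = d.a ∨ i = d.a') :
    ∃ c : A, Coalgebra.counit (R := k) c ≠ 0 ∧ ∀ g : Pt k A k, (F.cochar μ).InZ g → g.ofConv c ≠ 0 →
      ∃ (z : k) (χ : Multiplicative M →* k) (b : k), g = F.rt d.a' z * F.T.tor χ * F.rt d.a b := by
  classical
  obtain ⟨n, m, eneg, epos, h⟩ := exists_signEnum F lam hlam
  obtain ⟨c, hc, hcell⟩ := exists_cell_fn F lam h
  refine ⟨c, hc, fun g hg hgc => ?_⟩
  obtain ⟨y, χ, x, rfl⟩ := hcell g hgc
  obtain ⟨hy, hx⟩ := coord_eq_zero_of_inZ F h hg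
  obtain ⟨j, hj⟩ := h.neg_range d.a' (by rw [d.lam_root_a']; omega)
  obtain ⟨l, hl⟩ := h.pos_range d.a hpos
  refine ⟨y j, χ, x l, ?_⟩
  rw [prodPt_single eneg y j fun i hi => ?_, hj, prodPt_single epos x l fun i hi => ?_, hl]
  · refine hx i fun h0 => ?_
    rcases hμ _ h0 with h1 | h1
    · exact hi (h.pos_inj (h1.trans hl.symm))
    · have := h.pos i
      rw [h1, d.lam_root_a'] at this
      omega
  · refine hy i fun h0 => ?_
    rcases hμ _ h0 with h1 | h1
    · have := h.neg i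
      rw [h1] at this
      omega
    · exact hi (h.neg_inj (h1.trans hj.symm))

/-- Two elements of a fixed subgroup off a hypersurface with given quotient. -/
theorem exists_two_dense_inZ {μ : M →+ ℤ} {c : A} (hc : Coalgebra.counit (R := k) c ≠ 0) {g : Pt k A k}
    (hg : (F.cochar μ).InZ g) :
    ∃ g₁ : Pt k A k, (F.cochar μ).InZ g₁ ∧ g₁.ofConv c ≠ 0 ∧ (g₁ * g).ofConv c ≠ 0 := by
  obtain ⟨b, hb⟩ := exists_mul_right g c
  by_contra hcon
  push Not at hcon
  have := vanish_inZ F hc (a := b) (fun g₁ h1 h2 => by rw [← hb]; exact hcon g₁ h1 h2) (inZ_inv F hg)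
  rw [← hb, inv_mul_cancel] at this
  exact hc (by simpa using this)

end InZ

variable {π : ∀ j, Pt k A k →* Module.End k (W j)} (hπ : ∀ j, IsRegRep (π j))
variable {V : Type u} [AddCommGroup V] [Module k V] [Module.Finite k V] {ρ : Pt k A k →* Module.End k V}
variable (hρ : IsRegRep ρ) (hgen : Generates ρ) (hne : ∀ i, F.root i ≠ 0)
variable {p₀ : ∀ j, W j} (hcl : IsClosedOrbit π p₀) (htri : ∀ q ∈ Cl π p₀, Nondeg q → HasTri π ρ q)

include hπ hρ hgen hne hcl htri in
/-- On the string of an extremal point lie only it and its reflection. -/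
theorem Refl.classify {lam : M →+ ℤ} (hlam : Good F π lam) {x : ∀ j, W j} {m : J → M} (hx : Ext F π p₀ lam x m)
    (hpos : 0 < lam (F.root d.a)) {y : ∀ j, W j} {my : J → M} (hy : y ∈ Cl π p₀) (hey : Eig F π y my)
    (hline : ∀ j, ∃ z : ℤ, my j = m j + z • F.root d.a) :
    (Prop' (k := k) x y ∧ my = m) ∨
      (Prop' (k := k) (fun j => π j d.n (x j)) y ∧ my = fun j => d.s (m j)) := by
  obtain ⟨lam', hlam', hy'⟩ := exists_ext_of_eig F π hρ hgen hπ hne hcl htri hy hey
  rcases lt_trichotomy (lam' (F.root d.a)) 0 with h | h | h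
  · refine Or.inr (eq_of_same_sign F hπ hcl (good_comp F d.s_s d.normSk d.s_root hlam) hlam'
      (ext_reflect F hπ hcl d.s_s d.s_root d.normSk hlam hx) hy' (α := F.root d.a) ?_ fun j => ?_)
    · rw [d.lam_s F]
      exact mul_pos_of_neg_of_neg (by omega) h
    · obtain ⟨z, hz⟩ := hline j
      obtain ⟨z₁, hz₁⟩ := d.s_line (m j)
      exact ⟨z - z₁, by rw [hz, hz₁, sub_smul]; abel⟩
  · exact absurd h (hlam'.1 d.a)
  · exact Or.inl (eq_of_same_sign F hπ hcl hlam hlam' hx hy' (mul_pos hpos h) hline)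

include hπ hρ hgen hne hcl htri in
/-- An element of the opposite root group moving an extremal point meets the reflected weight. -/
theorem Refl.comp_ne_zero [DecidableEq M] {lam : M →+ ℤ} (hlam : Good F π lam) {x : ∀ j, W j} {m : J → M}
    (hx : Ext F π p₀ lam x m) (hpos : 0 < lam (F.root d.a)) {y : k}
    (hy : ¬ ∀ j, π j (F.rt d.a' y) (x j) = x j) (j : J) :
    comp F (hπ j) (d.s (m j)) (π j (F.rt d.a' y) (x j)) ≠ 0 := by
  set lam' := lam.comp d.s with hlam'def
  have hg' : Good F π lam' := good_comp F d.s_s d.normSk d.s_root hlam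
  have hneg : 0 < lam' (F.root d.a') := by rw [d.lam_root_a', hlam'def, d.lam_s F]; omega
  have hL : F.rt d.a' y ∈ lineStable F π (F.root d.a) :=
    rt_mem_lineStable F hπ (z₀ := -1) (by rw [d.root_a', neg_one_smul]) _
  have hn : Nondeg (fun j => π j (F.rt d.a' y) (x j)) := fun j h0 => hx.2.1.1 j (by
    have e := congrArg (π j (F.rt d.a' y)⁻¹) (show π j (F.rt d.a' y) (x j) = 0 from h0)
    rwa [map_zero, ← Module.End.mul_apply, ← map_mul, inv_mul_cancel, map_one, Module.End.one_apply] at e)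
  have hc : (fun j => π j (F.rt d.a' y) (x j)) ∈ Cl π p₀ :=
    cl_orb π hx.1 ⟨F.rt d.a' y, 1, fun j => by simp⟩
  obtain ⟨mt, hmt⟩ := exists_isTop F hπ lam' hn
  have hline : ∀ j, ∃ z : ℤ, mt j = m j + z • F.root d.a := fun j => by
    refine exists_of_comp_lineSub F (hπ j) (hL.1 j (m j) (x j) ?_) (hmt j).1
    simpa using Wt_le_lineSub F (F.root d.a) (m j) 0 (by simpa using hx.2.1.2 j)
  rcases d.classify F hπ hρ hgen hne hcl htri hlam hx hpos (top_mem F hπ lam' hc hmt hg'.2)
      (top_eig F hπ lam' hmt) hline with ⟨-, he⟩ | ⟨-, he⟩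
  · exfalso
    refine hy fun j => sub_eq_zero.mp ?_
    have hd : x j ∈ Hi F (π j) lam' (lam' (m j)) := Wt_le_Hi F (π j) lam' le_rfl (hx.2.1.2 j)
    have hup := sub_mem_Hi F lam' (hπ j) (rt_mem_posRt F lam' hneg y) hd
    rw [← sum_wt F (hπ j) (π j (F.rt d.a' y) (x j) - x j)]
    refine Finset.sum_eq_zero fun n hn' => ?_
    rw [Finsupp.mem_support_iff] at hn'
    exfalso
    by_cases hlt : lam' n < lam' (m j) + 1
    · exact hn' (comp_Hi F lam' (hπ j) hup hlt)
    · refine hn' ?_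
      rw [← comp_apply, map_sub, comp_of_mem F (hπ j) (hx.2.1.2 j), if_neg (fun h => hlt (by rw [h]; omega)),
        sub_zero, comp_apply]
      by_contra h0
      have := (hmt j).2 n h0
      rw [he] at this
      omega
  · have := (hmt j).1
    rw [he] at this
    exact this

omit [Module.Free ℤ M] [Module.Finite ℤ M] [IsAlgClosed k] [Fintype J] [∀ j, Module.Finite k (W j)] [Fintype ι]
  [Algebra.Smooth k A] [IsDomain A] in
theorem nondeg_act {x : ∀ j, W j} (hx : Nondeg x) (g : Pt k A k) : Nondeg fun j => π j g (x j) := fun j h0 =>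
  hx j (by
    have e := congrArg (π j g⁻¹) (show π j g (x j) = 0 from h0)
    rwa [map_zero, ← Module.End.mul_apply, ← map_mul, inv_mul_cancel, map_one, Module.End.one_apply] at e)

include hπ in
/-- The opposite root group moves a point not fixed by the reflection. -/
theorem Refl.not_fix {x : ∀ j, W j} {m : J → M} {lam : M →+ ℤ} (hlam : ∀ i, lam (F.root i) ≠ 0)
    (hpos : 0 < lam (F.root d.a)) (he : Eig F π x m) (hfix : ∀ g ∈ posRt F lam, ∀ j, π j g (x j) = x j)
    {μ : M →+ ℤ} (hμs : ∀ m, μ (d.s m) = μ m) (hμ : ∀ i, μ (F.root i) = 0 → i = d.a ∨ i = d.a')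
    (hnm : ∃ j, d.s (m j) ≠ m j) {y : k} (hy : y ≠ 0) : ¬ ∀ j, π j (F.rt d.a' y) (x j) = x j := by
  classical
  intro h
  have hall : ∀ z j, π j (F.rt d.a' z) (x j) = x j := by
    intro z j
    by_cases hz : z = 0
    · rw [hz, F.rt_zero, map_one, Module.End.one_apply]
    obtain ⟨χ, hχ⟩ := exists_char_eq (show F.root d.a' ≠ 0 from fun h0 => hlam d.a' (by rw [h0, map_zero]))
      (Units.mk0 (z * y⁻¹) (mul_ne_zero hz (inv_ne_zero hy)))
    have e : F.T.tor χ * F.rt d.a' y * F.T.tor (charInv χ) = F.rt d.a' z := by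
      rw [tor_charInv, F.conj_rt, hχ, Units.val_mk0, inv_mul_cancel_right₀ hy]
    rw [← e, map_mul, map_mul, Module.End.mul_apply, Module.End.mul_apply, he.2 j, map_smul, h j, ← he.2 j,
      ← Module.End.mul_apply, ← map_mul, ← map_mul, mul_comm, charInv_mul_self, map_one, map_one,
      Module.End.one_apply]
  obtain ⟨c, hc, hcell⟩ := d.exists_cell_inZ F hlam hpos hμ
  obtain ⟨j, hj⟩ := hnm
  have hn : ∀ φ : W j →ₗ[k] k, φ (x j) = 0 → φ (π j d.n (x j)) = 0 := by
    intro φ hφ
    obtain ⟨a, ha⟩ := (hπ j).exists_coef (x j) φ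
    rw [ha]
    refine vanish_inZ F hc (fun g hg hgc => ?_) (inZ_of_normS F hμs d.normSk)
    obtain ⟨z, χ, b, rfl⟩ := hcell g hg hgc
    rw [← ha, map_mul, map_mul, Module.End.mul_apply, Module.End.mul_apply,
      hfix _ (rt_mem_posRt F lam hpos b) j, he.2 j, map_smul, hall, map_smul, hφ, smul_zero]
  have hspan : π j d.n (x j) ∈ k ∙ x j := by
    by_contra hns
    obtain ⟨φ, hφ1, hφ2⟩ := Submodule.exists_dual_map_eq_bot_of_notMem hns inferInstance
    refine hφ1 (hn φ ?_)
    have : φ (x j) ∈ (k ∙ x j).map φ := Submodule.mem_map_of_mem (Submodule.mem_span_singleton_self _)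
    rwa [hφ2, Submodule.mem_bot] at this
  obtain ⟨r, hr⟩ := Submodule.mem_span_singleton.mp hspan
  refine hj (eq_of_mem_Wt F (hπ j) (d.normSk.map_Wt F j (he.2 j)) ?_ ((d.normSk.eig F he).1 j))
  rw [← hr]
  exact Submodule.smul_mem _ _ (he.2 j)

include hπ in
/-- An element of the fixed subgroup not killing the extremal weight moves it along the curve. -/
theorem Refl.exists_curve_pt [DecidableEq M] {x : ∀ j, W j} {m : J → M} {lam : M →+ ℤ}
    (hlam : ∀ i, lam (F.root i) ≠ 0) (hpos : 0 < lam (F.root d.a)) (he : Eig F π x m)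
    (hfix : ∀ g ∈ posRt F lam, ∀ j, π j g (x j) = x j)
    {μ : M →+ ℤ} (hμ : ∀ i, μ (F.root i) = 0 → i = d.a ∨ i = d.a')
    (hmov : ¬ ∀ j, π j (F.rt d.a' 1) (x j) = x j) {g : Pt k A k} (hg : (F.cochar μ).InZ g)
    (hden : ∀ j, comp F (hπ j) (m j) (π j g (x j)) ≠ 0) :
    ∃ (y : k) (c : J → k), ∀ j, π j g (x j) = c j • π j (F.rt d.a' y) (x j) := by
  classical
  choose f hf using fun j => exists_root_poly F (hπ j) d.a' (x j)
  choose φ hφ using fun j => Module.Projective.exists_dual_eq_one k (he.1 j)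
  let den : J → Pt k A k → k := fun j g => φ j (comp F (hπ j) (m j) (π j g (x j)))
  choose dA hdA using fun j => (hπ j).exists_coef (x j) ((φ j).comp (comp F (hπ j) (m j)))
  choose nA hnA using fun i : CoordIdx k W => (hπ i.1).exists_coef (x i.1)
    ((Finsupp.lapply i.2).comp (Module.finBasis k (W i.1)).repr.toLinearMap)
  let z : Pt k A k → CoordIdx k W → k := fun g i => g.ofConv (nA i) / g.ofConv (dA i.1)
  let P : CoordIdx k W → Polynomial k := fun i => ∑ n ∈ (f i.1).support,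
    Polynomial.C ((Module.finBasis k (W i.1)).repr (f i.1 n) i.2) * Polynomial.X ^ n
  have hP : ∀ i y, (P i).eval y = (Module.finBasis k (W i.1)).repr (π i.1 (F.rt d.a' y) (x i.1)) i.2 := by
    intro i y
    rw [hf i.1 y, Finsupp.sum, map_sum, Finsupp.coe_finsetSum, Finset.sum_apply]
    simp only [P, Polynomial.eval_finsetSum]
    refine Finset.sum_congr rfl fun n _ => ?_
    rw [map_smul, Finsupp.smul_apply, smul_eq_mul, Polynomial.eval_mul, Polynomial.eval_C, Polynomial.eval_pow,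
      Polynomial.eval_X, mul_comm]
  let e : MvPolynomial (CoordIdx k W) k →ₐ[k] Polynomial k := MvPolynomial.aeval P
  let D : A := ∏ j, dA j
  have hD : ∀ g, g.ofConv D = ∏ j, den j g := fun g => by
    rw [map_prod]; exact Finset.prod_congr rfl fun j _ => (hdA j g).symm
  have hhom : ∀ Φ : MvPolynomial (CoordIdx k W) k, ∃ (N : ℕ) (a : A), ∀ g : Pt k A k, g.ofConv D ≠ 0 →
      g.ofConv a = g.ofConv D ^ N * MvPolynomial.aeval (z g) Φ := by
    intro Φ
    induction Φ using MvPolynomial.induction_on with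
    | C r => exact ⟨0, algebraMap k A r, fun g _ => by simp⟩
    | add Φ Ψ h1 h2 =>
      obtain ⟨N, a, ha⟩ := h1
      obtain ⟨N', a', ha'⟩ := h2
      exact ⟨N + N', a * D ^ N' + D ^ N * a', fun g hg => by
        simp only [map_add, map_mul, map_pow, ha g hg, ha' g hg]; ring⟩
    | mul_X Φ i h1 =>
      obtain ⟨N, a, ha⟩ := h1
      refine ⟨N + 1, a * (nA i * ∏ j ∈ Finset.univ.erase i.1, dA j), fun g hg => ?_⟩
      have h0 : g.ofConv (dA i.1) ≠ 0 := by
        intro h0
        rw [map_prod] at hg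
        exact hg (Finset.prod_eq_zero (Finset.mem_univ _) h0)
      rw [map_mul, map_mul, ha g hg, map_prod, map_mul, MvPolynomial.aeval_X, pow_succ]
      simp only [z, D, map_prod]
      rw [← Finset.mul_prod_erase _ _ (Finset.mem_univ i.1)]
      field_simp
  obtain ⟨c, hc, hcell⟩ := d.exists_cell_inZ F hlam hpos hμ
  have hcurve : ∀ (y : k) j, den j (F.rt d.a' y) = 1 := fun y j => by
    have hv := sub_mem_Hi F (-lam) (hπ j) (rt_mem_posRt F (-lam) (i := d.a')
      (by simp only [AddMonoidHom.neg_apply, d.lam_root_a']; omega) y)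
      (Wt_le_Hi F (π j) (-lam) (le_refl ((-lam) (m j))) (he.2 j))
    have h6 := comp_Hi F (-lam) (hπ j) hv (m := m j) (by omega)
    rw [map_sub, comp_of_mem F (hπ j) (he.2 j), if_pos rfl, sub_eq_zero] at h6
    simp only [den, h6, hφ]
  have hgD : g.ofConv D ≠ 0 := by
    rw [hD, Finset.prod_ne_zero_iff]
    intro j _
    -- the dual vector detects the component, which lies on the line of `x j`
    have hmem : ∀ ψ : W j →ₗ[k] k, ψ (x j) = 0 → ψ (comp F (hπ j) (m j) (π j g (x j))) = 0 := by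
      intro ψ hψ
      obtain ⟨a, ha⟩ := (hπ j).exists_coef (x j) (ψ.comp (comp F (hπ j) (m j)))
      rw [show ψ (comp F (hπ j) (m j) (π j g (x j))) = g.ofConv a from ha g]
      refine vanish_inZ F hc (fun g' hg' hgc => ?_) hg
      obtain ⟨y, χ, b, rfl⟩ := hcell g' hg' hgc
      rw [← ha, map_mul, map_mul, Module.End.mul_apply, Module.End.mul_apply,
        hfix _ (rt_mem_posRt F lam hpos b) j, he.2 j, map_smul, map_smul, LinearMap.comp_apply]
      have hv := sub_mem_Hi F (-lam) (hπ j) (rt_mem_posRt F (-lam) (i := d.a')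
        (by simp only [AddMonoidHom.neg_apply, d.lam_root_a']; omega) y)
        (Wt_le_Hi F (π j) (-lam) (le_refl ((-lam) (m j))) (he.2 j))
      have h6 := comp_Hi F (-lam) (hπ j) hv (m := m j) (by omega)
      rw [map_sub, comp_of_mem F (hπ j) (he.2 j), if_pos rfl, sub_eq_zero] at h6
      rw [h6, hψ, smul_zero]
    have hspan : comp F (hπ j) (m j) (π j g (x j)) ∈ k ∙ x j := by
      by_contra hns
      obtain ⟨ψ, hψ1, hψ2⟩ := Submodule.exists_dual_map_eq_bot_of_notMem hns inferInstance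
      refine hψ1 (hmem ψ ?_)
      have : ψ (x j) ∈ (k ∙ x j).map ψ := Submodule.mem_map_of_mem (Submodule.mem_span_singleton_self _)
      rwa [hψ2, Submodule.mem_bot] at this
    obtain ⟨r, hr⟩ := Submodule.mem_span_singleton.mp hspan
    have hr0 : r ≠ 0 := fun h => hden j (by rw [← hr, h, zero_smul])
    show φ j (comp F (hπ j) (m j) (π j g (x j))) ≠ 0
    rw [← hr, map_smul, hφ, smul_eq_mul, mul_one]
    exact hr0
  have hker : ∀ Φ, e Φ = 0 → MvPolynomial.aeval (z g) Φ = 0 := by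
    intro Φ hΦ
    obtain ⟨N, a, ha⟩ := hhom Φ
    have hcD : Coalgebra.counit (R := k) (c * D) ≠ 0 := by
      have e1 : (1 : Pt k A k).ofConv D ≠ 0 := by
        rw [hD, ← F.rt_zero (B := k) d.a', Finset.prod_ne_zero_iff]
        intro j _
        rw [hcurve]
        exact one_ne_zero
      rw [Bialgebra.counit_mul]
      exact mul_ne_zero hc (by simpa using e1)
    have h0 : g.ofConv a = 0 := vanish_inZ F hcD (fun g' hg' hgc => by
      rw [map_mul, mul_ne_zero_iff] at hgc
      obtain ⟨y, χ, b, rfl⟩ := hcell g' hg' hgc.1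
      rw [ha _ hgc.2]
      refine mul_eq_zero_of_right _ ?_
      have hz : z (F.rt d.a' y * F.T.tor χ * F.rt d.a b) = fun i => (P i).eval y := funext fun i => by
        have hx : ∀ j, π j (F.rt d.a' y * F.T.tor χ * F.rt d.a b) (x j) =
            χ (Multiplicative.ofAdd (m j)) • π j (F.rt d.a' y) (x j) := fun j => by
          rw [map_mul, map_mul, Module.End.mul_apply, Module.End.mul_apply,
            hfix _ (rt_mem_posRt F lam hpos b) j, he.2 j, map_smul]
        have hχ : χ (Multiplicative.ofAdd (m i.1)) ≠ 0 := ((Group.isUnit _).map χ).ne_zero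
        have h1 : φ i.1 (comp F (hπ i.1) (m i.1) (π i.1 (F.rt d.a' y) (x i.1))) = 1 := hcurve y i.1
        simp only [z, ← hnA, ← hdA, LinearMap.comp_apply, hx, map_smul, h1, hP, LinearEquiv.coe_coe,
          Finsupp.lapply_apply, Finsupp.smul_apply, smul_eq_mul, mul_one]
        field_simp
      rw [hz]
      have : MvPolynomial.aeval (fun i => (P i).eval y) Φ = (e Φ).eval y := by
        rw [← Polynomial.coe_aeval_eq_eval, ← AlgHom.comp_apply, MvPolynomial.comp_aeval]
      rw [this, hΦ, Polynomial.eval_zero]) hg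
    rw [ha g hgD] at h0
    exact (mul_eq_zero.mp h0).resolve_left (pow_ne_zero _ hgD)
  obtain ⟨i₀, hi₀⟩ : ∃ i, 0 < (P i).natDegree := by
    by_contra hcon
    push Not at hcon
    refine hmov fun j => (Module.finBasis k (W j)).repr.injective (Finsupp.ext fun l => ?_)
    rw [← hP ⟨j, l⟩ 1, Polynomial.eq_C_of_natDegree_eq_zero (Nat.le_zero.mp (hcon ⟨j, l⟩)), Polynomial.eval_C]
    rw [Polynomial.coeff_zero_eq_eval_zero, hP ⟨j, l⟩ 0, F.rt_zero, map_one, Module.End.one_apply]
  letI : Algebra (MvPolynomial (CoordIdx k W) k) (Polynomial k) := e.toRingHom.toAlgebra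
  haveI : IsScalarTower k (MvPolynomial (CoordIdx k W) k) (Polynomial k) :=
    IsScalarTower.of_algebraMap_eq fun r => (e.commutes r).symm
  haveI : Algebra.IsIntegral (MvPolynomial (CoordIdx k W) k) (Polynomial k) := by
    have hX : IsIntegral (MvPolynomial (CoordIdx k W) k) (Polynomial.X : Polynomial k) := by
      set p := P i₀ * Polynomial.C (P i₀).leadingCoeff⁻¹
      have hp0 : P i₀ ≠ 0 := fun h => by simp [h] at hi₀
      have hm : p.Monic := Polynomial.monic_mul_leadingCoeff_inv hp0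
      have hd : 0 < p.natDegree := by
        rwa [Polynomial.natDegree_mul_leadingCoeff_inv _ hp0]
      refine ⟨p.map (algebraMap k _) - Polynomial.C (MvPolynomial.X i₀ * MvPolynomial.C (P i₀).leadingCoeff⁻¹),
        (hm.map _).sub_of_left (lt_of_le_of_lt Polynomial.degree_C_le ?_), ?_⟩
      · rw [Polynomial.degree_map_eq_of_injective (FaithfulSMul.algebraMap_injective k _),
          ← Polynomial.natDegree_pos_iff_degree_pos]
        exact hd
      · rw [Polynomial.eval₂_sub, Polynomial.eval₂_map, ← IsScalarTower.algebraMap_eq, Polynomial.eval₂_C,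
          RingHom.algebraMap_toAlgebra]
        show Polynomial.eval₂ Polynomial.C Polynomial.X p - e _ = 0
        rw [Polynomial.eval₂_C_X]
        simp [e, p]
    refine ⟨fun q => ?_⟩
    induction q using Polynomial.induction_on' with
    | add p q hp hq => exact hp.add hq
    | monomial n r =>
      rw [← Polynomial.C_mul_X_pow_eq_monomial]
      refine IsIntegral.mul ?_ (hX.pow n)
      rw [show Polynomial.C r = algebraMap (MvPolynomial (CoordIdx k W) k) (Polynomial k) (MvPolynomial.C r) from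
        (e.commutes r).symm]
      exact isIntegral_algebraMap
  let Pm : Ideal (MvPolynomial (CoordIdx k W) k) := RingHom.ker (MvPolynomial.aeval (z g)).toRingHom
  haveI : Pm.IsMaximal := RingHom.ker_isMaximal_of_surjective _ fun r => ⟨MvPolynomial.C r, by simp⟩
  obtain ⟨Q, hQ, hQc⟩ := Ideal.exists_ideal_over_maximal_of_isIntegral (S := Polynomial k) Pm
    (fun Φ hΦ => hker Φ hΦ)
  haveI := hQ
  obtain ⟨q, hq⟩ := (IsPrincipalIdealRing.principal Q).principal
  have hq0 : q ≠ 0 := by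
    intro h0
    have hbot : Q = ⊥ := by rw [hq, h0]; simp
    exact Ring.ne_bot_of_isMaximal_of_not_isField hQ (Polynomial.not_isField k) hbot
  obtain ⟨y, hy⟩ := IsAlgClosed.exists_root q (by
    intro hdeg
    have hu : IsUnit q := Polynomial.isUnit_iff_degree_eq_zero.mpr hdeg
    exact hQ.ne_top (by rw [hq]; exact Ideal.span_singleton_eq_top.mpr hu))
  have hzy : ∀ i, (P i).eval y = z g i := by
    intro i
    have hmem : MvPolynomial.X i - MvPolynomial.C (z g i) ∈ Pm := by simp [Pm]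
    rw [← hQc, Ideal.mem_comap, RingHom.algebraMap_toAlgebra] at hmem
    rw [hq, Ideal.submodule_span_eq, Ideal.mem_span_singleton] at hmem
    obtain ⟨w, hw⟩ := hmem
    have h1 := congrArg (Polynomial.eval y) hw
    simpa [e, hy.eq_zero, sub_eq_zero] using h1
  refine ⟨y, fun j => den j g, fun j => (Module.finBasis k (W j)).repr.injective (Finsupp.ext fun l => ?_)⟩
  have hd0 : den j g ≠ 0 := fun h => hgD (by rw [hD]; exact Finset.prod_eq_zero (Finset.mem_univ j) h)
  have h2 : (Module.finBasis k (W j)).repr (π j g (x j)) l = g.ofConv (nA ⟨j, l⟩) := hnA ⟨j, l⟩ g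
  have h3 : den j g = g.ofConv (dA j) := hdA j g
  rw [map_smul, Finsupp.smul_apply, ← hP ⟨j, l⟩ y, hzy, h2]
  show _ = den j g * z g ⟨j, l⟩
  rw [h3]
  simp only [z]
  field_simp [h3 ▸ hd0]

include hπ in
/-- The stabiliser of a moved extremal point in the fixed subgroup is the rank one Borel subgroup. -/
theorem Refl.exists_stab {x : ∀ j, W j} {m : J → M} {lam : M →+ ℤ} (hlam : ∀ i, lam (F.root i) ≠ 0)
    (hpos : 0 < lam (F.root d.a)) (he : Eig F π x m) (hfix : ∀ g ∈ posRt F lam, ∀ j, π j g (x j) = x j)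
    {μ : M →+ ℤ} (hμ : ∀ i, μ (F.root i) = 0 → i = d.a ∨ i = d.a')
    (hmov : ∀ y ≠ 0, ¬ ∀ j, π j (F.rt d.a' y) (x j) = x j) {q : Pt k A k} (hq : (F.cochar μ).InZ q)
    (hqx : ∀ j, ∃ c : k, π j q (x j) = c • x j) :
    ∃ (χ : Multiplicative M →* k) (b : k), q = F.T.tor χ * F.rt d.a b := by
  obtain ⟨c, hc, hcell⟩ := d.exists_cell_inZ F hlam hpos hμ
  obtain ⟨g₁, h1, h2, h3⟩ := exists_two_dense_inZ F hc hq
  obtain ⟨z₁, χ₁, b₁, e1⟩ := hcell g₁ h1 h2
  obtain ⟨z₂, χ₂, b₂, e2⟩ := hcell _ (inZ_mul F h1 hq) h3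
  have hz : z₂ = z₁ := by
    by_contra hne'
    refine hmov (z₂ - z₁) (sub_ne_zero.mpr hne') fun j => ?_
    obtain ⟨r, hr⟩ := hqx j
    have hl : ∀ (χ : Multiplicative M →* k) z b, π j (F.rt d.a' z * F.T.tor χ * F.rt d.a b) (x j) =
        χ (Multiplicative.ofAdd (m j)) • π j (F.rt d.a' z) (x j) := fun χ z b => by
      rw [map_mul, map_mul, Module.End.mul_apply, Module.End.mul_apply,
        hfix _ (rt_mem_posRt F lam hpos b) j, he.2 j, map_smul]
    have e3 : χ₂ (Multiplicative.ofAdd (m j)) • π j (F.rt d.a' z₂) (x j) =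
        (r * χ₁ (Multiplicative.ofAdd (m j))) • π j (F.rt d.a' z₁) (x j) := by
      rw [← hl χ₂ z₂ b₂, ← e2, map_mul, Module.End.mul_apply, hr, map_smul, e1, hl, smul_smul]
    have e4 := congrArg (π j (F.rt d.a' z₁)⁻¹) e3
    have hsub : (F.rt d.a' z₁)⁻¹ * F.rt d.a' z₂ = F.rt d.a' (z₂ - z₁) := by
      rw [rt_neg, ← rt_add' F, neg_add_eq_sub]
    rw [map_smul, map_smul, ← Module.End.mul_apply, ← Module.End.mul_apply, ← map_mul, ← map_mul, hsub,
      inv_mul_cancel, map_one, Module.End.one_apply] at e4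
    refine fix_of_line (isNilpotent_sub_one F (-lam) (hπ j) (rt_mem_posRt F (-lam) (i := d.a')
      (by simp only [AddMonoidHom.neg_apply, d.lam_root_a']; omega) _)) (he.1 j)
      (c := (χ₂ (Multiplicative.ofAdd (m j)))⁻¹ * (r * χ₁ (Multiplicative.ofAdd (m j)))) ?_
    rw [← smul_smul, ← e4, inv_smul_smul₀ ((Group.isUnit _).map χ₂).ne_zero]
  subst hz
  obtain ⟨χ₀, hχ₀⟩ : ∃ χ₀, χ₀ = charInv χ₁ * χ₂ := ⟨_, rfl⟩
  refine ⟨χ₀, charInv χ₀ (Multiplicative.ofAdd (F.root d.a)) * (-b₁) + b₂, ?_⟩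
  have hq' : q = F.rt d.a (-b₁) * F.T.tor χ₀ * F.rt d.a b₂ := by
    rw [hχ₀, map_mul, tor_charInv, ← rt_neg]
    calc q = g₁⁻¹ * (g₁ * q) := by group
      _ = _ := by rw [e2, e1]; group
  rw [hq', rt_add']
  have := F.conj_rt d.a (charInv χ₀) (-b₁)
  rw [tor_charInv, inv_inv] at this
  rw [← this]
  group

include d in
/-- The reflecting point times a nontrivial element of the opposite root group is in the rank one cell. -/
theorem Refl.exists_cell_normS (hne : ∀ i, F.root i ≠ 0) (hred : NoUnipotentNormal k A) {y : k} (hy : y ≠ 0) :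
    ∃ (ν : k) (χ : Multiplicative M →* k) (b : k), d.n * F.rt d.a' y = F.rt d.a' ν * F.T.tor χ * F.rt d.a b := by
  classical
  obtain ⟨V, _, _, _, ρ, p, hρ, hgen, hcl₀, htri₀⟩ := exists_base (k := k) (A := A)
  have hπ₀ : ∀ i, IsRegRep (flagRep ρ i) := isRegRep_flagRep hρ
  obtain ⟨q₀, hcl, h0⟩ := exists_double hπ₀ F hcl₀ hne
  have hπ := isRegRep_π2 (p₀ := p) hπ₀
  have htri := hasTri_double htri₀ h0
  have hlin : ∃ lam x m, Good F (π2 (flagRep ρ) p) lam ∧ Ext F (π2 (flagRep ρ) p) q₀ lam x m ∧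
      0 < lam (F.root d.a) ∧ ∃ j, d.s (m j) ≠ m j := by
    by_contra hcon
    push Not at hcon
    refine one_ne_zero (rt_injective F d.a' ((eq_one_of_fix_orbit hred hρ hgen hcl₀ htri₀ (isCurve_rt F d.a')
      (fun z => isNilpotent_sub_one F (-d.lam) hρ (rt_mem_posRt F (-d.lam)
        (by simp only [AddMonoidHom.neg_apply, d.lam_root_a']; have := d.lam_pos; omega) z))
      (fun z hz hzn z' j => fix_orbit F hπ₀ hρ hgen hne hcl₀ htri₀ hcl h0 (isCurve_rt F d.a')
        (fun e me he hee z s => ?_) hz hzn z' j) 1).trans (F.rt_zero d.a').symm))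
    obtain ⟨lam, hlam, hext⟩ := exists_ext_of_eig F _ hρ hgen hπ hne hcl htri he hee
    rcases lt_trichotomy (lam (F.root d.a)) 0 with h | h | h
    · exact hext.2.2 _ (rt_mem_posRt F lam (by rw [d.lam_root_a']; omega) z) s
    · exact absurd h (hlam.1 d.a)
    · have hsm : (fun s => d.s (me s)) = me := funext (hcon lam e me hlam hext h)
      have hre := ext_reflect F hπ hcl d.s_s d.s_root d.normSk hlam hext
      rw [hsm] at hre
      have hmax := (Ext.max F hπ hcl hlam hext hre.1 hre.2.1).2 le_rfl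
      obtain ⟨⟨c, hc⟩, -⟩ := hmax
      have := hre.2.2 (F.rt d.a' z) (rt_mem_posRt F _ (by rw [d.lam_root_a', d.lam_s F]; omega) z) s
      rw [(hc s).2, map_smul] at this
      exact smul_right_injective _ (hc s).1 this
  obtain ⟨lam, x, m, hlam, hx, hpos, hnm⟩ := hlin
  obtain ⟨μ, hμs, hμ, hμa, hμa'⟩ := d.exists_mu F
  have hmov : ∀ y ≠ 0, ¬ ∀ j, π2 (flagRep ρ) p j (F.rt d.a' y) (x j) = x j := fun y hy =>
    d.not_fix F hπ hlam.1 hpos hx.2.1 hx.2.2 hμs hμ hnm hy
  set g := d.n * F.rt d.a' y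
  have hg : (F.cochar μ).InZ g := inZ_mul F (inZ_of_normS F hμs d.normSk) (inZ_rt F hμa' y)
  have hden : ∀ j, comp F (hπ j) (m j) (π2 (flagRep ρ) p j g (x j)) ≠ 0 := by
    intro j
    set w := π2 (flagRep ρ) p j (F.rt d.a' y) (x j)
    have hw := d.comp_ne_zero F hπ hρ hgen hne hcl htri hlam hx hpos (hmov y hy) j
    rw [map_mul, Module.End.mul_apply]
    show comp F (hπ j) (m j) (π2 (flagRep ρ) p j d.n w) ≠ 0
    conv_lhs => rw [← sum_wt F (hπ j) w, Finsupp.sum, map_sum, map_sum]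
    rw [Finset.sum_eq_single (d.s (m j))]
    · rw [comp_of_mem F (hπ j) (d.normSk.map_Wt F j (wt_mem F (hπ j) w _)), if_pos (d.s_s _)]
      intro h0
      refine hw ?_
      rw [comp_apply]
      have e := congrArg (π2 (flagRep ρ) p j d.n⁻¹) h0
      rwa [map_zero, ← Module.End.mul_apply, ← map_mul, inv_mul_cancel, map_one, Module.End.one_apply] at e
    · intro t _ ht
      rw [comp_of_mem F (hπ j) (d.normSk.map_Wt F j (wt_mem F (hπ j) w t)), if_neg]
      intro hst
      exact ht (by rw [← hst, d.s_s])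
    · intro h
      rw [Finsupp.notMem_support_iff.mp h, map_zero, map_zero]
  obtain ⟨ν, cc, hcurve⟩ := d.exists_curve_pt F hπ hlam.1 hpos hx.2.1 hx.2.2 hμ (hmov 1 one_ne_zero) hg hden
  obtain ⟨χ, b, hb⟩ := d.exists_stab F hπ hlam.1 hpos hx.2.1 hx.2.2 hμ hmov
    (inZ_mul F (inZ_rt F hμa' (-ν)) hg) fun j => ⟨cc j, by
      rw [map_mul, Module.End.mul_apply, hcurve, map_smul, ← Module.End.mul_apply, ← map_mul, ← rt_add',
        neg_add_cancel, F.rt_zero, map_one, Module.End.one_apply]⟩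
  refine ⟨ν, χ, b, ?_⟩
  rw [mul_assoc, ← hb, ← mul_assoc, ← rt_add', add_neg_cancel, F.rt_zero, one_mul]

end Groth.Agent.RedRk29
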