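import Groth.Agent.RedRk29.RankOneRing
import Groth.Agent.RedRk29.RankOne

/-!
# The dual pair relation over a ring
-/

set_option autoImplicit false

universe u

open TensorProduct WithConv Finsupp
open scoped AddMonoidAlgebra

namespace Groth.Agent.RedRk29

open BigCell29

variable {R : Type u} [CommRing R] {A : Type u} [CommRing A] [HopfAlgebra R A]
  {B : Type u} [CommRing B] [Algebra R B] {M ι : Type} [AddCommGroup M] [Fintype ι]
  {F : Frame R A M ι} (d : Refl F) {cor : M →+ ℤ}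

/-- The relation between two opposite root groups with scalar `c`. -/
def Refl.DualRel (cor : M →+ ℤ) (c : R) : Prop :=
  ∀ (B : Type u) [CommRing B] [Algebra R B] (x y : B) (v : Bˣ), (v : B) = 1 + algebraMap R B c * x * y →
    F.rt d.a x * F.rt d.a' y = F.rt d.a' (y * ↑v⁻¹) * F.T.tor (zchar cor v) * F.rt d.a (x * ↑v⁻¹)

theorem mul_one_add_C_mul_X_eq_zero {a : B} {q : Polynomial B}
    (h : q * (1 + Polynomial.C a * Polynomial.X) = 0) : q = 0 := by
  have h' : ∀ n, q.coeff n = 0 := by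
    intro n
    induction n with
    | zero => simpa using congrArg (fun P : Polynomial B => P.coeff 0) h
    | succ n ih =>
      have := congrArg (fun P : Polynomial B => P.coeff (n + 1)) h
      simp only [mul_add, mul_one, ← mul_assoc, Polynomial.coeff_add, Polynomial.coeff_mul_X,
        Polynomial.coeff_mul_C, ih, zero_mul, add_zero, Polynomial.coeff_zero] at this
      exact this
  exact Polynomial.ext fun n => by rw [h' n, Polynomial.coeff_zero]

variable (hcor : ∀ m, d.s m = m - cor m • F.root d.a) (hα : cor (F.root d.a) = 2)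

theorem snd_C_eps (c : R) : TrivSqZeroExt.snd (algebraMap R (DualNumber R) c * DualNumber.eps) = c := by
  rw [TrivSqZeroExt.snd_mul, DualNumber.fst_eps, DualNumber.snd_eps]
  simp [TrivSqZeroExt.algebraMap_eq_inl]

/-- The scalar of a dual pair is unique. -/
theorem Refl.dualRel_unique {c c' : R} (h : d.DualRel cor c) (h' : d.DualRel cor c') : c = c' := by
  let B := DualNumber R
  have hv : ∀ c : R, ∃ v : Bˣ, (v : B) = 1 + algebraMap R B c * DualNumber.eps * 1 ∧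
      (↑v⁻¹ : B) = 1 - algebraMap R B c * DualNumber.eps := fun c =>
    ⟨⟨1 + algebraMap R B c * DualNumber.eps, 1 - algebraMap R B c * DualNumber.eps,
      by linear_combination (-(algebraMap R B c) ^ 2) * DualNumber.eps_mul_eps (R := R),
      by linear_combination (-(algebraMap R B c) ^ 2) * DualNumber.eps_mul_eps (R := R)⟩, (by rw [mul_one]), rfl⟩
  obtain ⟨v, h1, h2⟩ := hv c
  obtain ⟨v', h1', h2'⟩ := hv c'
  obtain ⟨e, -, -⟩ := d.cell_unique ((h B DualNumber.eps 1 v h1).symm.trans (h' B DualNumber.eps 1 v' h1'))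
  rw [one_mul, one_mul, h2, h2'] at e
  have e' := congrArg TrivSqZeroExt.snd (sub_right_injective e)
  rwa [snd_C_eps, snd_C_eps] at e'

include hcor hα in
/-- The dual pair relation holds with some unit scalar. -/
theorem Refl.exists_dualRel {ν ν' : Rˣ} {χ₀ χ₀' : Multiplicative M →* R} {b b' : R} (hb : d.Base ν χ₀ b)
    (hb' : d.invN.Base ν' χ₀' b') {κ : Rˣ} (hκ : ∀ (B : Type u) [CommRing B] [Algebra R B] (y : B),
      cstPt B d.n * F.rt d.a' y * (cstPt B d.n)⁻¹ = F.rt d.a (algebraMap R B κ * y)) :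
    ∃ c : Rˣ, d.DualRel cor c := by
  refine ⟨(κ * ν')⁻¹, ?_⟩
  set c : Rˣ := (κ * ν')⁻¹ with hc
  have h := fun (B : Type u) [CommRing B] [Algebra R B] (x : B) (y v : Bˣ)
      (hv : (v : B) = 1 + algebraMap R B c * x * y) => d.formula_unit hcor hα hb hb' hκ hc x y v hv
  have he : b' * (c : R) = 1 := by
    let B := DualNumber R
    set ε : B := DualNumber.eps
    have hε : ε * ε = 0 := DualNumber.eps_mul_eps
    let C : B := algebraMap R B c
    let E : B := algebraMap R B (b' * c)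
    let v : Bˣ := ⟨1 + C * ε, 1 - C * ε, by linear_combination (-C ^ 2) * hε, by linear_combination (-C ^ 2) * hε⟩
    let v' : Bˣ := ⟨1 + C * E * ε, 1 - C * E * ε, by linear_combination (-(C * E) ^ 2) * hε,
      by linear_combination (-(C * E) ^ 2) * hε⟩
    have hvi : (↑v⁻¹ : B) = 1 - C * ε := rfl
    have hv'i : (↑v'⁻¹ : B) = 1 - C * E * ε := rfl
    have h1 := h B ε 1 v (by show 1 + C * ε = _; rw [Units.val_one, mul_one])
    rw [Units.val_one, one_mul] at h1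
    have h1' := congrArg (fun g => g⁻¹) h1
    have hTi : (F.T.tor (zchar cor v))⁻¹ = F.T.tor (zchar cor v⁻¹) :=
      inv_eq_of_mul_eq_one_right (by rw [← map_mul, ← zchar_mul, mul_inv_cancel, zchar_one, map_one])
    simp only [mul_inv_rev, rt_invR, hTi] at h1'
    have e1 : F.rt d.a (-(E * ε * ↑v⁻¹)) * F.T.tor (zchar cor v⁻¹) =
        F.T.tor (zchar cor v⁻¹) * F.rt d.a (-(E * ε)) := by
      rw [d.tor_rt hα]
      congr 2
      rw [hvi]
      linear_combination (-(C * E) + C ^ 2 * E * ε) * hε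
    have h2 := h B (-(E * ε)) (-v⁻¹) v' (by
      show 1 + C * E * ε = _
      rw [Units.val_neg, hvi]
      linear_combination (C ^ 2 * E) * hε)
    have e2 : F.T.tor (zchar cor v⁻¹) * F.rt d.a' (((-v⁻¹ : Bˣ) : B) * ↑v'⁻¹) =
        F.rt d.a' ((v : B) ^ 2 * (((-v⁻¹ : Bˣ) : B) * ↑v'⁻¹)) * F.T.tor (zchar cor v⁻¹) := by
      rw [d.rt_tor hα, ← mul_assoc (((v⁻¹ : Bˣ) : B) ^ 2), ← mul_pow, Units.inv_mul, one_pow, one_mul]
    have h3 : F.rt d.a' (-1 : B) * F.T.tor 1 * F.rt d.a (-ε) =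
        F.rt d.a' ((v : B) ^ 2 * (((-v⁻¹ : Bˣ) : B) * ↑v'⁻¹)) * F.T.tor (zchar cor v⁻¹ * zchar cor v') *
          F.rt d.a (E * -(E * ε) * ↑v'⁻¹) := by
      rw [map_one, mul_one, h1', show -(↑v⁻¹ : B) = ((-v⁻¹ : Bˣ) : B) from (Units.val_neg _).symm,
        ← mul_assoc, e1, mul_assoc, h2, ← mul_assoc, ← mul_assoc, e2, map_mul F.T.tor]
      simp only [mul_assoc]
      rfl
    obtain ⟨e, -, -⟩ := d.cell_unique h3
    rw [Units.val_neg, hvi, hv'i] at e
    have e' : C * E * ε = C * ε := by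
      have : (v : B) = 1 + C * ε := rfl
      rw [this] at e
      linear_combination (-1 : B) * e +
        (-(C ^ 2 * E) - C ^ 2 + C ^ 3 * E * ε - C ^ 3 * ε + C ^ 4 * E * ε ^ 2) * hε
    have := congrArg TrivSqZeroExt.snd e'
    simp only [C, E, ε, ← map_mul] at this
    rw [snd_C_eps, snd_C_eps] at this
    have h4 : (c : R) * (b' * c) = c := this
    exact c.isUnit.mul_eq_left.mp h4
  have h' : ∀ (B : Type u) [CommRing B] [Algebra R B] (x : B) (y v : Bˣ),
      (v : B) = 1 + algebraMap R B c * x * y →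
      F.rt d.a x * F.rt d.a' (y : B) = F.rt d.a' ((y : B) * ↑v⁻¹) * F.T.tor (zchar cor v) *
        F.rt d.a (x * ↑v⁻¹) := fun B _ _ x y v hv => by
    have := h B x y v hv
    rwa [he, map_one, one_mul] at this
  intro B _ _ x y v hv
  classical
  set a := algebraMap R B c * x
  let p : Polynomial B :=
    Polynomial.X * (Polynomial.C y - Polynomial.X) * (1 + Polynomial.C a * Polynomial.X)
  have hp : p ∈ nonZeroDivisors (Polynomial B) := by
    refine mem_nonZeroDivisors_iff_right.mpr fun q hq => ?_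
    have hq1 : q * (Polynomial.X * (Polynomial.C y - Polynomial.X)) = 0 :=
      mul_one_add_C_mul_X_eq_zero (by rw [mul_assoc]; exact hq)
    have hm : Polynomial.Monic (Polynomial.X * (Polynomial.X - Polynomial.C y) : Polynomial B) :=
      Polynomial.monic_X.mul (Polynomial.monic_X_sub_C y)
    refine (hm.mul_left_eq_zero_iff).mp ?_
    rw [← neg_sub (Polynomial.C y), mul_neg, mul_neg, hq1, neg_zero]
  let B' := Localization.Away p
  let g₀ : Polynomial B →ₐ[R] B' := IsScalarTower.toAlgHom R (Polynomial B) B'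
  let g : B →ₐ[R] B' := g₀.comp (IsScalarTower.toAlgHom R B (Polynomial B))
  have hg : Function.Injective g := (IsLocalization.injective B' (Submonoid.powers_le.mpr hp)).comp
    Polynomial.C_injective
  have hpu : IsUnit (g₀ p) := IsLocalization.map_units B' (⟨p, Submonoid.mem_powers p⟩ : Submonoid.powers p)
  simp only [p, map_mul, IsUnit.mul_iff] at hpu
  obtain ⟨⟨⟨t, ht⟩, ⟨s, hs⟩⟩, ⟨v₁, hv₁⟩⟩ := hpu
  have hs' : (s : B') = g y - t := by rw [hs, ht, map_sub]; rfl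
  have hv₁' : (v₁ : B') = 1 + algebraMap R B' c * g x * t := by
    rw [hv₁, ht, map_add, map_one, map_mul]
    show 1 + g₀ (Polynomial.C a) * _ = _
    rw [show g₀ (Polynomial.C a) = g a from rfl, map_mul, g.commutes]
  let V : B'ˣ := Units.map (g : B →* B') v
  have hV : (V : B') = 1 + algebraMap R B' c * g x * g y := by
    show g v = _
    rw [hv, map_add, map_one, map_mul, map_mul, g.commutes]
  let v₂ : B'ˣ := V * v₁⁻¹
  have e3 : (v₁ : B') * ↑v₁⁻¹ = 1 := v₁.mul_inv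
  have hv₂ : (v₂ : B') = 1 + algebraMap R B' c * (g x * ↑v₁⁻¹) * s := by
    rw [Units.val_mul, hV, hs']
    linear_combination e3 - (↑v₁⁻¹ : B') * hv₁'
  refine mapPt_injective hg ?_
  rw [map_mul, map_mul, map_mul, F.mapPt_rt, F.mapPt_rt, F.mapPt_rt, F.mapPt_rt, F.T.mapPt_tor, comp_zchar,
    map_mul, map_mul]
  have hvi : g ↑v⁻¹ = ((V⁻¹ : B'ˣ) : B') := rfl
  rw [hvi, show g y = (t : B') + s by rw [hs']; ring, rt_addR, ← mul_assoc, h' B' (g x) t v₁ hv₁',
    mul_assoc (F.rt d.a' ((t : B') * ↑v₁⁻¹) * F.T.tor (zchar cor v₁)), h' B' _ s v₂ hv₂]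
  set T₁ := F.T.tor (zchar cor v₁)
  have e4 : T₁ * F.rt d.a' ((s : B') * ↑v₂⁻¹) = F.rt d.a' ((↑v₁⁻¹ : B') ^ 2 * ((s : B') * ↑v₂⁻¹)) * T₁ := by
    rw [d.rt_tor hα, ← mul_assoc ((v₁ : B') ^ 2), ← mul_pow, Units.mul_inv, one_pow, one_mul]
  have hV' : V = v₁ * v₂ := by show V = v₁ * (V * v₁⁻¹); rw [mul_comm V, mul_inv_cancel_left]
  have hVi : ((V⁻¹ : B'ˣ) : B') = ↑v₁⁻¹ * ↑v₂⁻¹ := by rw [hV', ← Units.val_mul, ← mul_inv]
  have e5 : (t : B') * ↑v₁⁻¹ + (↑v₁⁻¹ : B') ^ 2 * ((s : B') * ↑v₂⁻¹) = ((t : B') + s) * ↑V⁻¹ := by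
    rw [hVi]
    have e6 : (v₂ : B') * ↑v₂⁻¹ = 1 := v₂.mul_inv
    linear_combination (-(t : B') * ↑v₁⁻¹) * e6 + ((t : B') * ↑v₁⁻¹ * ↑v₂⁻¹) * hv₂ +
      ((s : B') * ↑v₁⁻¹ * ↑v₂⁻¹) * e3 - ((↑v₁⁻¹ : B') ^ 2 * s * ↑v₂⁻¹) * hv₁'
  calc F.rt d.a' ((t : B') * ↑v₁⁻¹) * T₁ *
        (F.rt d.a' ((s : B') * ↑v₂⁻¹) * F.T.tor (zchar cor v₂) * F.rt d.a (g x * ↑v₁⁻¹ * ↑v₂⁻¹))
      = F.rt d.a' ((t : B') * ↑v₁⁻¹) * (T₁ * F.rt d.a' ((s : B') * ↑v₂⁻¹)) * F.T.tor (zchar cor v₂) *
          F.rt d.a (g x * ↑v₁⁻¹ * ↑v₂⁻¹) := by simp only [mul_assoc]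
    _ = _ := by
      rw [e4, show zchar cor V = zchar cor v₁ * zchar cor v₂ by rw [← zchar_mul, hV'], ← e5, rt_addR, map_mul,
        show g x * ↑V⁻¹ = g x * ↑v₁⁻¹ * ↑v₂⁻¹ by rw [hVi, mul_assoc]]
      simp only [T₁, mul_assoc]

end Groth.Agent.RedRk29
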