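import Groth.Agent.RedRk29.Core

/-!
# No root of a reductive group has a root as its double
-/

set_option autoImplicit false

universe u

open TensorProduct WithConv
open scoped AddMonoidAlgebra

namespace Groth.Agent.RedRk29

open BigCell29

variable {M ι J : Type} [AddCommGroup M] [Module.Free ℤ M] [Module.Finite ℤ M] [Fintype ι] [Fintype J]
variable {k : Type u} [Field k] [IsAlgClosed k] {A : Type u} [CommRing A] [HopfAlgebra k A]
variable {W : J → Type u} [∀ j, AddCommGroup (W j)] [∀ j, Module k (W j)] [∀ j, Module.Finite k (W j)]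
variable (F : Frame k A M ι) [Algebra.Smooth k A] [IsDomain A] (d : DoubleRoot F)

omit [IsAlgClosed k] [Module.Free ℤ M] [Module.Finite ℤ M] [Fintype ι] [Algebra.Smooth k A] [IsDomain A] in
theorem isCurve_rt (i : ι) : IsCurve (F.rt i : k → Pt k A k) :=
  ⟨F.rt_zero i, F.rt_add k i, fun a => ⟨F.φ i a, fun y => by
    simp [PreFrame.rt, linePt_apply, Polynomial.coe_aeval_eq_eval]⟩⟩

omit [Module.Free ℤ M] [Module.Finite ℤ M] [Fintype ι] [IsAlgClosed k] [Algebra.Smooth k A] [IsDomain A] in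
theorem DoubleRoot.ne_one [Infinite k] {y₁ y₂ : k} (hy : y₁ ≠ 0) :
    ∃ s : k, d.U F (s * y₁) (s ^ 2 * y₂) ≠ 1 := by
  by_contra h
  push Not at h
  obtain ⟨a, ha⟩ := F.φ_surj d.a' Polynomial.X
  have e : ∀ s : k, s * y₁ = (F.φ d.b' a).eval (-(s ^ 2 * y₂)) := by
    intro s
    have h1 : F.rt d.a' (s * y₁) = F.rt d.b' (-(s ^ 2 * y₂)) := by
      rw [← rt_neg]
      exact eq_inv_of_mul_eq_one_left (h s)
    have := DFunLike.congr_fun (congrArg WithConv.ofConv h1) a
    simpa [PreFrame.rt, linePt_apply, ha, Polynomial.coe_aeval_eq_eval] using this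
  let P : Polynomial k := (F.φ d.b' a).comp (Polynomial.C (-y₂) * Polynomial.X ^ 2)
  have hP : P = Polynomial.C y₁ * Polynomial.X := Polynomial.funext fun s => by
    simp only [P, Polynomial.eval_comp, Polynomial.eval_mul, Polynomial.eval_C, Polynomial.eval_pow,
      Polynomial.eval_X]
    rw [mul_comm y₁ s, e s]
    ring_nf
  have hd := congrArg Polynomial.natDegree hP
  rw [Polynomial.natDegree_C_mul_X _ hy] at hd
  simp only [P, Polynomial.natDegree_comp] at hd
  by_cases h2 : y₂ = 0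
  · subst h2
    simp at hd
  · rw [Polynomial.natDegree_C_mul_X_pow _ _ (neg_ne_zero.mpr h2)] at hd
    omega

variable {π : ∀ j, Pt k A k →* Module.End k (W j)} (hπ : ∀ j, IsRegRep (π j))
variable {V : Type u} [AddCommGroup V] [Module k V] [Module.Finite k V] {ρ : Pt k A k →* Module.End k V}
variable (hρ : IsRegRep ρ) (hgen : Generates ρ) (hne : ∀ i, F.root i ≠ 0)
variable {p₀ : ∀ j, W j} (hcl : IsClosedOrbit π p₀) (htri : ∀ q ∈ Cl π p₀, Nondeg q → HasTri π ρ q)

include d hπ hρ hgen hne hcl htri in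
/-- A doubled root gives a nontrivial unipotent one-parameter subgroup fixing all torus fixed points. -/
theorem exists_curve_fix : ∃ u : k → Pt k A k, IsCurve u ∧ (∃ y, u y ≠ 1) ∧
    (∀ y, IsNilpotent (ρ (u y) - 1)) ∧
      ∀ e me, e ∈ Cl π p₀ → Eig F π e me → ∀ y j, π j (u y) (e j) = e j := by
  classical
  obtain ⟨lamn, hlamn, hlamneg⟩ : ∃ lam : M →+ ℤ, (∀ i, lam (F.root i) ≠ 0) ∧ lam (F.root d.a) < 0 := by
    obtain ⟨lam, hlam, -, -⟩ := exists_good F hπ hne 0 (D := ∅) Set.finite_empty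
    rcases lt_trichotomy (lam (F.root d.a)) 0 with h | h | h
    · exact ⟨lam, hlam.1, h⟩
    · exact absurd h (hlam.1 d.a)
    · exact ⟨-lam, fun i => by simpa using hlam.1 i, by simpa using h⟩
  by_cases hpos : ∃ lam x m, Good F π lam ∧ Ext F π p₀ lam x m ∧ 0 < lam (F.root d.a)
  swap
  · refine ⟨F.rt d.a', isCurve_rt F d.a', ⟨1, fun h => ?_⟩, fun y => ?_, fun e me he hee y j => ?_⟩
    · exact one_ne_zero (rt_injective F d.a' (h.trans (F.rt_zero d.a').symm))
    · exact isNilpotent_sub_one F lamn hρ (rt_mem_posRt F lamn (by rw [d.lam_a' F]; omega) y)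
    · obtain ⟨lam, hlam, hext⟩ := exists_ext_of_eig F π hρ hgen hπ hne hcl htri he hee
      refine hext.2.2 _ (rt_mem_posRt F lam ?_ y) j
      rcases lt_trichotomy (lam (F.root d.a)) 0 with h | h | h
      · rw [d.lam_a' F]; omega
      · exact absurd h (hlam.1 d.a)
      · exact absurd ⟨lam, e, me, hlam, hext, h⟩ hpos
  obtain ⟨lam, x, m, hlam, hx, hla⟩ := hpos
  obtain ⟨y₁, y₂, hy, hfix⟩ := exists_fix F d hπ hρ hgen hne hcl htri hlam hx hla
  let Fx : Subgroup (Pt k A k) :=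
    { carrier := {g | ∀ e me, e ∈ Cl π p₀ → Eig F π e me → ∀ j, π j g (e j) = e j}
      one_mem' := fun e me _ _ j => by simp
      mul_mem' := fun {g h} hg hh e me he hee j => by
        rw [map_mul, Module.End.mul_apply, hh e me he hee j, hg e me he hee j]
      inv_mem' := fun {g} hg e me he hee j => by
        conv_lhs => rw [← hg e me he hee j]
        rw [← Module.End.mul_apply, ← map_mul, inv_mul_cancel, map_one, Module.End.one_apply] }
  have hconj : ∀ (χ : Multiplicative M →* k) g, g ∈ Fx → F.T.tor χ * g * (F.T.tor χ)⁻¹ ∈ Fx := by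
    intro χ g hg e me he hee j
    have e1 : π j (F.T.tor χ)⁻¹ (e j) = charInv χ (Multiplicative.ofAdd (me j)) • e j := by
      rw [← tor_charInv]; exact hee.2 j _
    rw [map_mul, map_mul, Module.End.mul_apply, Module.End.mul_apply, e1, map_smul (π j g), hg e me he hee j,
      ← e1, ← Module.End.mul_apply, ← map_mul, mul_inv_cancel, map_one, Module.End.one_apply]
  have hU : d.U F y₁ y₂ ∈ Fx := by
    intro e me he hee j
    obtain ⟨lam', hlam', hext⟩ := exists_ext_of_eig F π hρ hgen hπ hne hcl htri he hee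
    rcases lt_trichotomy (lam' (F.root d.a)) 0 with h | h | h
    · exact hext.2.2 _ (d.U_mem_posRt F h y₁ y₂) j
    · exact absurd h (hlam'.1 d.a)
    · exact fix_propagate F d hπ hρ hgen hne hcl htri hlam hlam' hx hext hla h hfix j
  have hcnj : ∀ (χ : Multiplicative M →* k) (i : ι) (z : k),
      F.T.tor χ * F.rt i z * (F.T.tor χ)⁻¹ = F.rt i (χ (Multiplicative.ofAdd (F.root i)) * z) := fun χ i z => by
    rw [mul_inv_eq_iff_eq_mul]; exact F.conj k i χ z
  have hne2 : F.root d.b' ≠ 0 := hne _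
  have single : ∀ c : k, c ≠ 0 → F.rt d.b' c ∈ Fx → ∀ z, F.rt d.b' z ∈ Fx := by
    intro c hc hmem z
    by_cases hz : z = 0
    · rw [hz, F.rt_zero]; exact one_mem _
    obtain ⟨χ, hχ⟩ := exists_char_eq hne2 (Units.mk0 (z * c⁻¹) (mul_ne_zero hz (inv_ne_zero hc)))
    have := hconj χ _ hmem
    rw [hcnj, hχ, Units.val_mk0, inv_mul_cancel_right₀ hc] at this
    exact this
  have hsingle : (∀ z, F.rt d.b' z ∈ Fx) → ∃ u : k → Pt k A k, IsCurve u ∧ (∃ y, u y ≠ 1) ∧
      (∀ y, IsNilpotent (ρ (u y) - 1)) ∧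
        ∀ e me, e ∈ Cl π p₀ → Eig F π e me → ∀ y j, π j (u y) (e j) = e j := fun h =>
    ⟨F.rt d.b', isCurve_rt F d.b', ⟨1, fun h => one_ne_zero (rt_injective F d.b' (h.trans (F.rt_zero d.b').symm))⟩,
      fun y => isNilpotent_sub_one F lamn hρ (rt_mem_posRt F lamn (by rw [d.lam_b' F]; omega) y),
      fun e me he hee y j => h y e me he hee j⟩
  by_cases hy1 : y₁ = 0
  · subst hy1
    refine hsingle (single y₂ (hy.resolve_left (· rfl)) ?_)
    simpa [DoubleRoot.U, F.rt_zero] using hU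
  let g : k → Pt k A k := fun s => d.U F (s * y₁) (s ^ 2 * y₂)
  have hg : ∀ s, g s ∈ Fx := by
    intro s
    by_cases hs : s = 0
    · simp [g, hs, DoubleRoot.U, F.rt_zero, one_mem]
    obtain ⟨χ, hχ⟩ := exists_char_eq (hne d.a') (Units.mk0 s hs)
    have h2 : χ (Multiplicative.ofAdd (F.root d.b')) = s ^ 2 := by
      rw [show F.root d.b' = (2 : ℕ) • F.root d.a' by
        rw [d.root_b', d.root_a', smul_neg, ← natCast_zsmul]; rfl, ofAdd_nsmul, map_pow, hχ, Units.val_mk0]
    have := hconj χ _ hU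
    have e : F.T.tor χ * d.U F y₁ y₂ * (F.T.tor χ)⁻¹ =
        (F.T.tor χ * F.rt d.a' y₁ * (F.T.tor χ)⁻¹) * (F.T.tor χ * F.rt d.b' y₂ * (F.T.tor χ)⁻¹) := by
      simp only [DoubleRoot.U]; group
    rw [e, hcnj, hcnj, hχ, h2, Units.val_mk0] at this
    exact this
  have hcomm : ∀ p q : k, F.rt d.a' p * F.rt d.b' q = F.rt d.b' q * F.rt d.a' p :=
    rt_commute F lamn hlamn (by rw [d.lam_a' F]; omega) (by rw [d.lam_b' F]; omega) d.no_mix
  have hprod : ∀ s t, g s * g t = g (s + t) * F.rt d.b' (-(2 * s * t * y₂)) := by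
    intro s t
    have e1 : F.rt d.a' ((s + t) * y₁) = F.rt d.a' (s * y₁) * F.rt d.a' (t * y₁) := by
      rw [← rt_add' F, add_mul]
    have e2 : F.rt d.b' ((s + t) ^ 2 * y₂) * F.rt d.b' (-(2 * s * t * y₂)) =
        F.rt d.b' (s ^ 2 * y₂) * F.rt d.b' (t ^ 2 * y₂) := by
      rw [← rt_add' F, ← rt_add' F]; congr 1; ring
    show F.rt d.a' (s * y₁) * F.rt d.b' (s ^ 2 * y₂) * (F.rt d.a' (t * y₁) * F.rt d.b' (t ^ 2 * y₂)) =
      F.rt d.a' ((s + t) * y₁) * F.rt d.b' ((s + t) ^ 2 * y₂) * F.rt d.b' (-(2 * s * t * y₂))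
    rw [mul_assoc (F.rt d.a' ((s + t) * y₁)), e2, e1]
    simp only [mul_assoc]
    rw [← mul_assoc (F.rt d.b' (s ^ 2 * y₂)) (F.rt d.a' (t * y₁)), ← hcomm, mul_assoc]
  by_cases h2 : (2 : k) * y₂ = 0
  · obtain ⟨s₀, hs₀⟩ := d.ne_one F (y₂ := y₂) hy1
    refine ⟨g, ⟨by simp [g, DoubleRoot.U, F.rt_zero], fun s t => ?_, fun a => ?_⟩, ⟨s₀, hs₀⟩,
      fun s => isNilpotent_sub_one F lamn hρ (d.U_mem_posRt F hlamneg _ _), fun e me he hee s j => hg s e me he hee j⟩
    · rw [hprod, show 2 * s * t * y₂ = 2 * y₂ * (s * t) by ring, h2, zero_mul, neg_zero, F.rt_zero, mul_one]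
    · suffices ∀ t : A ⊗[k] A, ∃ P : Polynomial k, ∀ s : k, Algebra.TensorProduct.lift
          (F.rt d.a' (s * y₁)).ofConv (F.rt d.b' (s ^ 2 * y₂)).ofConv (fun _ _ => Commute.all _ _) t = P.eval s by
        obtain ⟨P, hP⟩ := this (Coalgebra.comul (R := k) a)
        exact ⟨P, fun s => by rw [← hP s]; exact AlgHom.convMul_apply _ _ a⟩
      intro t
      induction t using TensorProduct.induction_on with
      | zero => exact ⟨0, fun s => by simp⟩
      | tmul b b' =>
        exact ⟨(F.φ d.a' b).comp (Polynomial.C y₁ * Polynomial.X) *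
          (F.φ d.b' b').comp (Polynomial.C y₂ * Polynomial.X ^ 2), fun s => by
          simp only [Algebra.TensorProduct.lift_tmul, PreFrame.rt, linePt_apply, Polynomial.coe_aeval_eq_eval,
            Polynomial.eval_mul, Polynomial.eval_comp, Polynomial.eval_C, Polynomial.eval_X, Polynomial.eval_pow,
            mul_comm s y₁, mul_comm (s ^ 2) y₂]⟩
      | add p q hp hq =>
        obtain ⟨P, hP⟩ := hp
        obtain ⟨P', hP'⟩ := hq
        exact ⟨P + P', fun s => by simp [hP, hP']⟩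
  · refine hsingle (single (-(2 * y₂)) (neg_ne_zero.mpr h2) ?_)
    have h := hprod 1 1
    rw [show (2 : k) * 1 * 1 * y₂ = 2 * y₂ by ring] at h
    rw [show F.rt d.b' (-(2 * y₂)) = (g (1 + 1))⁻¹ * (g 1 * g 1) by rw [h]; group]
    exact mul_mem (inv_mem (hg _)) (mul_mem (hg _) (hg _))

include d hne in
omit [Fintype J] in
/-- No root has a root as its double when no irreducible normal subgroup acts unipotently. -/
theorem false_of_doubleRoot (hred : NoUnipotentNormal k A) : False := by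
  obtain ⟨V, _, _, _, ρ, p, hρ, hgen, hcl, htri⟩ := exists_base (k := k) (A := A)
  have hπ : ∀ i, IsRegRep (flagRep ρ i) := isRegRep_flagRep hρ
  obtain ⟨q₀, h2, h0⟩ := exists_double hπ F hcl hne
  obtain ⟨u, hu, ⟨y, hy⟩, hnil, hfix⟩ := exists_curve_fix F d (isRegRep_π2 hπ) hρ hgen hne h2
    (hasTri_double htri h0)
  exact hy (eq_one_of_fix_orbit hred hρ hgen hcl htri hu hnil
    (fun z hz hzn y j => fix_orbit F hπ hρ hgen hne hcl htri h2 h0 hu hfix hz hzn y j) y)

end Groth.Agent.RedRk29
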