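import Groth.Agent.RedRk29.BorelClosed
import Mathlib.Algebra.MonoidAlgebra.NoZeroDivisors
import Mathlib.Algebra.Group.UniqueProds.Basic

/-!
# The standard Borel subgroup is smooth with connected fibres
-/

set_option autoImplicit false
set_option linter.style.haveILetI false

universe u

open CategoryTheory CategoryTheory.Limits MonoidalCategory CartesianMonoidalCategory AlgebraicGeometry

noncomputable section

namespace Groth.Agent.RedRk29

open BigCell29 GrpSchLib.AffineHopf DSPtsLib

theorem formallySmooth_groupAlgebra (R : Type u) [CommRing R] (M : Type) [AddCommGroup M] [Module.Free ℤ M] :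
    Algebra.FormallySmooth R (MonoidAlgebra R (Multiplicative M)) := by
  classical
  refine Algebra.FormallySmooth.of_comp_surjective fun B _ _ I hI f => ?_
  let b := Module.Free.chooseBasis ℤ M
  let q := Ideal.Quotient.mk I
  have hunit : ∀ x : B, IsUnit (q x) → IsUnit x := fun x hx => by
    obtain ⟨c, hc⟩ := hx.exists_right_inv
    obtain ⟨c', rfl⟩ := Ideal.Quotient.mk_surjective c
    have hmem : x * c' - 1 ∈ I := Ideal.Quotient.eq.mp (show q (x * c') = q 1 by rw [map_mul, hc, map_one])
    have hnil : IsNilpotent (x * c' - 1) := ⟨2, by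
      have := Ideal.pow_mem_pow hmem 2
      rwa [hI, Ideal.mem_bot] at this⟩
    refine isUnit_of_mul_isUnit_left (y := c') ?_
    simpa using hnil.isUnit_add_one
  let χ : Multiplicative M →* (B ⧸ I)ˣ := ((f : MonoidAlgebra R (Multiplicative M) →* B ⧸ I).comp
    (MonoidAlgebra.of R (Multiplicative M))).toHomUnits
  have hlift : ∀ i, ∃ v : Bˣ, q (v : B) = (χ (Multiplicative.ofAdd (b i)) : B ⧸ I) := fun i => by
    obtain ⟨x, hx⟩ := Ideal.Quotient.mk_surjective (χ (Multiplicative.ofAdd (b i)) : B ⧸ I)
    exact ⟨(hunit x (by rw [show q x = _ from hx]; exact Units.isUnit _)).unit, hx⟩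
  choose v hv using hlift
  let ψ : M →+ Additive Bˣ := (b.constr ℤ fun i => Additive.ofMul (v i)).toAddMonoidHom
  let g : MonoidAlgebra R (Multiplicative M) →ₐ[R] B :=
    MonoidAlgebra.lift R B (Multiplicative M) ((Units.coeHom B).comp (AddMonoidHom.toMultiplicativeLeft ψ))
  refine ⟨g, (MonoidAlgebra.lift R (B ⧸ I) (Multiplicative M)).symm.injective (MonoidHom.ext fun x => ?_)⟩
  have e : (Units.map (q : B →* B ⧸ I)).toAdditive.comp ψ = (AddMonoidHom.toMultiplicativeLeft.symm χ : M →+ Additive (B ⧸ I)ˣ) := by
    refine AddMonoidHom.toIntLinearMap_injective (b.ext fun i => ?_)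
    simp only [AddMonoidHom.coe_toIntLinearMap, AddMonoidHom.comp_apply]
    apply Additive.toMul.injective
    refine Units.ext ?_
    show q ((ψ (b i)).toMul : Bˣ) = _
    rw [show ψ (b i) = Additive.ofMul (v i) from b.constr_basis ℤ _ i]
    exact hv i
  have h := congrArg (fun w : Additive (B ⧸ I)ˣ => (w.toMul : B ⧸ I)) (DFunLike.congr_fun e x.toAdd)
  simpa [g, χ, q] using h

theorem smooth_diag (R : Type u) [CommRing R] (M : Type) [AddCommGroup M] [Module.Free ℤ M] [Module.Finite ℤ M] :
    Smooth (Red.diag R M).hom := by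
  haveI := formallySmooth_groupAlgebra R M
  haveI : Algebra.FinitePresentation R (MonoidAlgebra R (Multiplicative M)) :=
    @Algebra.FinitePresentation.equiv R _ _ _ _ _ _ _ (finitePresentation_addMonoidAlgebra R M)
      (AddMonoidAlgebra.toMultiplicativeAlgEquiv R R M)
  show Smooth (Spec.map (CommRingCat.ofHom (algebraMap R (MonoidAlgebra R (Multiplicative M)))))
  rw [HasRingHomProperty.Spec_iff (P := @Smooth)]
  exact RingHom.smooth_algebraMap.mpr ⟨inferInstance, inferInstance⟩

variable {S : Scheme.{u}} {G : Over S} [GrpObj G] (D : Red.SplitRed G)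

theorem smooth_DS (M : Type) [AddCommGroup M] [Module.Free ℤ M] [Module.Finite ℤ M] : Smooth (Red.DS S M).hom :=
  MorphismProperty.pullback_snd _ _ (smooth_diag (ULift.{u} ℤ) M)

theorem smooth_torus : Smooth D.T.hom := by
  haveI := smooth_DS (S := S) D.M
  haveI : IsIso D.split.hom.hom.hom := ((Grp.forget _).mapIso D.split).isIso_hom
  haveI : IsIso D.split.hom.hom.hom.left := inferInstanceAs (IsIso ((Over.forget _).map D.split.hom.hom.hom))
  rw [← Over.w D.split.hom.hom.hom]
  infer_instance

theorem smooth_borelObj (m : ℕ) : Smooth (D.T ⊗ RedSub.pow (Red.Ga S) m).hom := by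
  haveI := smooth_torus D
  haveI := RedSub30.RootPoly.smooth_pow (S := S) m
  rw [Over.tensorObj_hom]
  infer_instance

/-- The fibres of the parametrisation space are connected. -/
theorem connected_bc_borelObj {K : Type u} [Field K] (f : Spec (CommRingCat.of K) ⟶ S) (m : ℕ) :
    ConnectedSpace (Red.bc f (D.T ⊗ RedSub.pow (Red.Ga S) m)).left := by
  classical
  let C := MonoidAlgebra (MvPolynomial (Fin m) K) (Multiplicative D.M)
  let χ : Multiplicative D.M →* C := MonoidAlgebra.of _ _
  let x : Fin m → C := fun i => algebraMap (MvPolynomial (Fin m) K) C (MvPolynomial.X i)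
  let hi : IsIso D.split.inv.hom.hom := ((Grp.forget _).mapIso D.split.symm).isIso_hom
  haveI : IsAffineHom (D.T ⊗ RedSub.pow (Red.Ga S) m).hom := by
    haveI := isAffineHom_DS (S := S) D.M
    haveI := isAffineHom_pow (S := S) m
    haveI : IsIso D.split.hom.hom.hom := ((Grp.forget _).mapIso D.split).isIso_hom
    haveI : IsIso D.split.hom.hom.hom.left := inferInstanceAs (IsIso ((Over.forget _).map D.split.hom.hom.hom))
    haveI : IsAffineHom D.T.hom := by rw [← Over.w D.split.hom.hom.hom]; infer_instance
    exact isAffineHom_tensor _ _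
  haveI : IsAffineHom (pullback.snd (D.T ⊗ RedSub.pow (Red.Ga S) m).hom f) :=
    MorphismProperty.pullback_snd _ _ inferInstance
  haveI : IsAffine (Red.bc f (D.T ⊗ RedSub.pow (Red.Ga S) m)).left := isAffine_of_isAffineHom (pullback.snd _ f)
  obtain ⟨c, -, hc⟩ := isIso_of_points (X := D.T ⊗ RedSub.pow (Red.Ga S) m) f (C := C)
    (lift (chPt f χ ≫ D.split.inv.hom.hom) (powPt f x)) fun B _ _ => by
      have e1 : ∀ φ : C →ₐ[K] B, tMap f φ ≫ lift (chPt f χ ≫ D.split.inv.hom.hom) (powPt f x) =
          lift (chPt f (φ.toRingHom.toMonoidHom.comp χ) ≫ D.split.inv.hom.hom) (powPt f (φ ∘ x)) := fun φ => by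
        rw [comp_lift, powPt_map, ← Category.assoc, chPt_map]
      refine ⟨fun φ ψ h => ?_, fun p => ?_⟩
      · simp only [e1] at h
        have h1 := congrArg (· ≫ fst _ _) h
        have h2 := congrArg (· ≫ snd _ _) h
        simp only [lift_fst, lift_snd] at h1 h2
        have h3 := (powPt_bijective m).injective h2
        have h4 := (chPt_bijective f).injective ((cancel_mono _).mp h1)
        refine AlgHom.coe_ringHom_injective (MonoidAlgebra.ringHom_ext (fun r => ?_) fun a => ?_)
        · show φ (algebraMap (MvPolynomial (Fin m) K) C r) = ψ (algebraMap (MvPolynomial (Fin m) K) C r)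
          refine RingHom.congr_fun (MvPolynomial.ringHom_ext (f := (φ : C →+* B).comp (algebraMap _ C))
            (g := (ψ : C →+* B).comp (algebraMap _ C)) (fun k => ?_) fun i => congrFun h3 i) r
          exact (φ.commutes k).trans (ψ.commutes k).symm
        · exact DFunLike.congr_fun h4 a
      · obtain ⟨y, hy⟩ := (powPt_bijective m).surjective (p ≫ snd _ _)
        obtain ⟨μ, hμ⟩ := (chPt_bijective f).surjective ((p ≫ fst _ _) ≫ inv D.split.inv.hom.hom)
        letI : Algebra (MvPolynomial (Fin m) K) B := (MvPolynomial.aeval y).toRingHom.toAlgebra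
        haveI : IsScalarTower K (MvPolynomial (Fin m) K) B :=
          IsScalarTower.of_algebraMap_eq fun k => ((MvPolynomial.aeval y).commutes k).symm
        refine ⟨(MonoidAlgebra.lift (MvPolynomial (Fin m) K) B (Multiplicative D.M) μ).restrictScalars K, ?_⟩
        simp only [e1]
        apply CartesianMonoidalCategory.hom_ext
        · rw [lift_fst, show p ≫ fst _ _ = ((p ≫ fst _ _) ≫ inv D.split.inv.hom.hom) ≫ D.split.inv.hom.hom by simp,
            ← hμ]
          congr 2
          refine MonoidHom.ext fun a => ?_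
          exact MonoidAlgebra.lift_of _ _
        · rw [lift_snd, ← hy]
          congr 1
          funext i
          simp only [Function.comp_apply, x, AlgHom.restrictScalars_apply, AlgHom.commutes]
          exact MvPolynomial.aeval_X y i
  haveI := hc
  haveI : IsIso c.left := inferInstanceAs (IsIso ((Over.forget _).map c))
  haveI : TwoUniqueSums D.M :=
    TwoUniqueSums.of_injective_addHom (Module.Free.chooseBasis ℤ D.M).repr.toLinearMap.toAddMonoidHom.toAddHom
      (Module.Free.chooseBasis ℤ D.M).repr.injective inferInstance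
  haveI : IsDomain C := NoZeroDivisors.to_isDomain _
  haveI : ConnectedSpace ↥(sp K C).left :=
    inferInstanceAs (ConnectedSpace (PrimeSpectrum C))
  exact (asIso c.left).hom.homeomorph.surjective.connectedSpace (asIso c.left).hom.homeomorph.continuous

end Groth.Agent.RedRk29
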