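import Groth.Agent.RedSub30.TypeRCell
import Groth.Agent.RedSub30.CellGenerate
import Groth.Agent.BigCell29.CellOne
import Groth.Agent.Rank2Red38.Commute
import Groth.Agent.RedRk29.BruhatField

/-!
# Inclusion of subgroups of type (R) is inclusion of root sets
-/

set_option autoImplicit false
set_option linter.style.haveILetI false

universe u

open CategoryTheory CategoryTheory.Limits MonoidalCategory CartesianMonoidalCategory AlgebraicGeometry
open scoped MonObj GrpObj

noncomputable section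

namespace Groth.Agent.RedRk29

/-- A morphism factors through a monomorphism if it does so after a faithfully flat base change of finite
presentation. -/
theorem exists_factor_mono_of_fppf {X Y Z P : Scheme.{u}} (a : Z ⟶ Y) [Mono a] (g : X ⟶ Y) (p : P ⟶ X)
    [Surjective p] [Flat p] [LocallyOfFinitePresentation p] (l : P ⟶ Z) (hl : l ≫ a = p ≫ g) :
    ∃ g' : X ⟶ Z, g' ≫ a = g := by
  let c := pullback.fst g a
  let c' := pullback.fst p c
  let σ : P ⟶ pullback p c := pullback.lift (𝟙 P) (pullback.lift p l hl.symm)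
    (by rw [Category.id_comp]; exact (pullback.lift_fst _ _ _).symm)
  have hσ : σ ≫ c' = 𝟙 P := pullback.lift_fst _ _ _
  have hiso : IsIso c' := ⟨σ, (cancel_mono c').mp (by rw [Category.assoc, hσ, Category.comp_id, Category.id_comp]), hσ⟩
  haveI : IsIso c := MorphismProperty.of_pullback_fst_of_descendsAlong
    (P := MorphismProperty.isomorphisms Scheme.{u}) (Q := @Surjective ⊓ @Flat ⊓ @LocallyOfFinitePresentation)
    (f := p) ⟨⟨inferInstance, inferInstance⟩, inferInstance⟩ hiso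
  exact ⟨inv c ≫ pullback.snd g a, by rw [Category.assoc, ← pullback.condition, IsIso.inv_hom_id_assoc]⟩

open BigCell29 RedSub30

variable {S : Scheme.{u}} {G H H'' : Over S} [GrpObj G] [GrpObj H] [GrpObj H''] (D : Red.SplitRed G) (h : H ⟶ G)
  [IsMonHom h] [IsImmersion h.left] [QuasiCompact h.left] [Smooth H.hom] (t : D.T ⟶ H) (ht : t ≫ h = D.i)
  {R' : Set D.idx} (hR' : ∀ a : D.idx, (∃ v : Red.Ga S ⟶ H, v ≫ h = D.u a) ↔ a ∈ R')
  (h'' : H'' ⟶ G) [IsMonHom h''] [IsImmersion h''.left] [QuasiCompact h''.left] [Smooth H''.hom]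
  (t'' : D.T ⟶ H'') (ht'' : t'' ≫ h'' = D.i)
  {R'' : Set D.idx} (hR'' : ∀ a : D.idx, (∃ v : Red.Ga S ⟶ H'', v ≫ h'' = D.u a) ↔ a ∈ R'') [ConnectedSpace S]

include t ht hR' t'' ht'' hR'' in
theorem exists_factor_of_roots_subset (hconn : RedSub.HasConnectedFibres H) (hsub : R' ⊆ R'') :
    ∃ j : H ⟶ H'', j ≫ h'' = h := by
  classical
  obtain ⟨ν, hν⟩ := Rank2Red38.exists_generic (D := D)
  let lam : D.M →+ ℤ := ν.toAddMonoidHom
  obtain ⟨p, eneg, hneg⟩ := exists_enumerates D (R' ∩ {i | 0 < (-lam) (D.P.root i)})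
  obtain ⟨q, epos, hpos⟩ := exists_enumerates D (R' ∩ {i | 0 < lam (D.P.root i)})
  have hnm : ∀ j, eneg j ∈ R' := fun j => ((Set.ext_iff.mp hneg.2 _).mp (Set.mem_range_self j)).1
  have hpm : ∀ j, epos j ∈ R' := fun j => ((Set.ext_iff.mp hpos.2 _).mp (Set.mem_range_self j)).1
  obtain ⟨c, hc⟩ := exists_cell_factor D h t ht hR' hnm hpm
  obtain ⟨c'', hc''⟩ := exists_cell_factor D h'' t'' ht'' hR'' (fun j => hsub (hnm j)) fun j => hsub (hpm j)
  haveI := isOpenImmersion_cell D h t ht hR' (lam := lam) hν hneg hpos c hc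
  haveI : Mono h := (Over.forget S).mono_of_mono_map (f := h) (inferInstanceAs (Mono h.left))
  have hone : Set.range η[H].left ⊆ Set.range c.left := by
    obtain ⟨e1, he1⟩ := exists_one_cellMap D eneg epos
    have e2 : e1 ≫ c = η[H] := by
      rw [← cancel_mono h, Category.assoc, hc, he1, IsMonHom.one_hom, MonObj.one_eq_one]
    rw [← e2, Over.comp_left]
    rintro _ ⟨a, rfl⟩
    exact ⟨e1.left a, rfl⟩
  haveI := surjective_mul_open c hconn hone
  haveI := flat_mul_open c
  haveI := locallyOfFinitePresentation_mul_open c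
  have e : ((c'' ⊗ₘ c'') ≫ μ[H'']) ≫ h'' = ((c ⊗ₘ c) ≫ μ[H]) ≫ h := by
    rw [Category.assoc, Category.assoc, IsMonHom.mul_hom h, IsMonHom.mul_hom h'', ← Category.assoc (c ⊗ₘ c),
      ← Category.assoc (c'' ⊗ₘ c''), tensorHom_comp_tensorHom, tensorHom_comp_tensorHom, hc, hc'']
  obtain ⟨j, hj⟩ := exists_factor_mono_of_fppf h''.left h.left ((c ⊗ₘ c) ≫ μ[H]).left ((c'' ⊗ₘ c'') ≫ μ[H'']).left
    (congrArg CommaMorphism.left e)
  exact ⟨Over.homMk j (by rw [← Over.w h'', reassoc_of% hj, Over.w h]), Over.OverMorphism.ext hj⟩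

end Groth.Agent.RedRk29
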