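import Groth.Agent.RedRk29.BorelClosed
import Groth.Agent.RedSub30.TypeRMain

/-!
# Points of a subgroup of type (R) among products of root groups over an algebraically closed field
-/

set_option autoImplicit false
set_option linter.style.haveILetI false

universe u

open CategoryTheory CategoryTheory.Limits MonoidalCategory CartesianMonoidalCategory AlgebraicGeometry
open scoped MonObj GrpObj

noncomputable section

namespace Groth.Agent.RedRk29

open BigCell29 GrpSchLib GrpSchLib.AffineHopf Rank2Red38 RedSub30 RedSub30.RootPoly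

variable {S : Scheme.{u}} {G : Over S} [GrpObj G] (D : Red.SplitRed G)

/-- Some torus point over an algebraically closed field has no root value one. -/
theorem exists_torus_rootVal_ne_one {L : Type u} [Field L] [IsAlgClosed L] (f : Spec (CommRingCat.of L) ⟶ S) :
    ∃ t : tObj f L ⟶ D.T, ∀ c, (rootVal D (tObj f L) c t : Γ((tObj f L).left, ⊤)) ≠ 1 := by
  obtain ⟨mu, hmu⟩ : ∃ mu : D.M →+ ℤ, ∀ c, mu (D.P.root c) ≠ 0 := by
    obtain ⟨ν, hν⟩ := Rank2Red38.exists_generic D
    exact ⟨ν.toAddMonoidHom, hν⟩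
  obtain ⟨s₀, hs₀⟩ := exists_unit_pow_ne_one (k := L) (Set.finite_range fun i => -mu (D.P.root i))
  let χ := cchar (k := L) mu s₀⁻¹
  refine ⟨chPt f χ ≫ D.split.inv.hom.hom, fun c hc => ?_⟩
  have hid : D.split.inv.hom.hom ≫ D.split.hom.hom.hom = 𝟙 _ := congrArg (fun k => k.hom.hom) D.split.inv_hom_id
  rw [rootVal_apply] at hc
  simp only [Category.assoc, hid, Category.comp_id] at hc
  rw [← gmFn_chi, gmFn_chPt_chi] at hc
  have h1 := congrArg (tVal f L) hc
  rw [RingEquiv.apply_symm_apply, map_one] at h1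
  refine hs₀ (-mu (D.P.root c)) ⟨c, rfl⟩ (neg_ne_zero.mpr (hmu c)) ?_
  rw [zpow_neg, ← inv_zpow]
  exact h1

theorem rootProd_congr_list {X : Over S} {lam : Module.Dual ℤ D.M} {l l' : List D.idx} (hl' : IsPosClosed D lam l')
    (h : ∀ c ∈ l, c ∈ l') {g : X ⟶ G} (hg : InProd D X l g) : InProd D X l' g := by
  obtain ⟨z, rfl⟩ := hg
  have h' := hl'.list_inProd (l.map fun c => (c, z c)) (by simpa using h)
  simpa [rootProd, List.map_map, Function.comp_def] using h'

theorem inProd_comp {X X' : Over S} (q : X' ⟶ X) {l : List D.idx} {g : X ⟶ G} (hg : InProd D X l g) :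
    InProd D X' l (q ≫ g) := by
  obtain ⟨z, rfl⟩ := hg
  exact ⟨_, comp_rootProd D q l z⟩

/-- The positive roots for a form as a closed list, those in a given set last. -/
theorem exists_split_list (lam : D.M →+ ℤ) (R' : Set D.idx) : ∃ l₁ l₂ : List D.idx,
    IsPosClosed D lam.toIntLinearMap (l₁ ++ l₂) ∧ (∀ c, c ∈ l₁ ↔ 0 < lam (D.P.root c) ∧ c ∉ R') ∧
      ∀ c, c ∈ l₂ ↔ 0 < lam (D.P.root c) ∧ c ∈ R' := by
  classical
  haveI := Fintype.ofFinite D.idx
  let l₁ := (Finset.univ.filter fun c : D.idx => 0 < lam (D.P.root c) ∧ c ∉ R').toList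
  let l₂ := (Finset.univ.filter fun c : D.idx => 0 < lam (D.P.root c) ∧ c ∈ R').toList
  have h₁ : ∀ c, c ∈ l₁ ↔ 0 < lam (D.P.root c) ∧ c ∉ R' := by simp [l₁]
  have h₂ : ∀ c, c ∈ l₂ ↔ 0 < lam (D.P.root c) ∧ c ∈ R' := by simp [l₂]
  have hm : ∀ c, c ∈ l₁ ++ l₂ ↔ 0 < lam (D.P.root c) := fun c => by
    rw [List.mem_append, h₁, h₂]; tauto
  refine ⟨l₁, l₂, ⟨?_, fun c hc => (hm c).mp hc, fun a c d ha hc hd => (hm d).mpr ?_⟩, h₁, h₂⟩
  · exact List.nodup_append.mpr ⟨Finset.nodup_toList _, Finset.nodup_toList _, fun x hx y hy hxy =>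
      ((h₁ x).mp hx).2 (hxy ▸ ((h₂ y).mp hy).2)⟩
  · rw [← hd, map_add]
    exact add_pos ((hm a).mp ha) ((hm c).mp hc)

variable {H : Over S} [GrpObj H] (h : H ⟶ G) [IsMonHom h] [IsImmersion h.left] [QuasiCompact h.left] [Smooth H.hom]
  (t : D.T ⟶ H) (ht : t ≫ h = D.i)
  {R' : Set D.idx} (hR' : ∀ a : D.idx, (∃ v : Red.Ga S ⟶ H, v ≫ h = D.u a) ↔ a ∈ R') [ConnectedSpace S]

omit [IsImmersion h.left] [QuasiCompact h.left] [Smooth H.hom] [ConnectedSpace S] in
include hR' in
theorem U_mem_range {X : Over S} {c : D.idx} (hc : c ∈ R') (x : Γ(X.left, ⊤)) :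
    U D X c x ∈ (RankOne.postHom h X).range := by
  obtain ⟨v, hv⟩ := (hR' c).mpr hc
  exact ⟨(GaPts.ptOfFn x : X ⟶ Red.Ga S) ≫ v, by show (_ ≫ v) ≫ h = _; rw [Category.assoc, hv]; rfl⟩

omit [IsImmersion h.left] [QuasiCompact h.left] [Smooth H.hom] [ConnectedSpace S] in
include ht in
theorem I_mem_range {X : Over S} (s : X ⟶ D.T) : I D X s ∈ (RankOne.postHom h X).range :=
  ⟨s ≫ t, by show (s ≫ t) ≫ h = s ≫ D.i; rw [Category.assoc, ht]⟩

variable {R : Type u} [CommRing R] (f : Spec (CommRingCat.of R) ⟶ S) [IsOpenImmersion f]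
  (L : Type u) [Field L] [IsAlgClosed L] [Algebra R L]

include t ht hR' in
/-- A root group having a non-trivial point in the subgroup lies in it. -/
theorem mem_of_U_mem {a : D.idx}
    {x : Γ((tObj (Spec.map (CommRingCat.ofHom (algebraMap R L)) ≫ f) L).left, ⊤)} (hx : x ≠ 0)
    (hmem : U D _ a x ∈ (RankOne.postHom h (tObj (Spec.map (CommRingCat.ofHom (algebraMap R L)) ≫ f) L)).range) :
    a ∈ R' := by
  by_contra ha
  haveI : IsAffineHom G.hom := D.reductive.1
  obtain ⟨A, _, _, ⟨Md⟩⟩ := exists_model f G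
  obtain ⟨e⟩ := exists_self_test f L
  obtain ⟨z, hz⟩ := hmem
  have hz' : InSub h Md ((Md.frame D).rt a (tVal f L (e.inv.left.appTop x))) := by
    refine ⟨e.inv ≫ z, ?_⟩
    rw [Category.assoc, show z ≫ h = U D _ a x from hz, comp_U, Md.pt_rt, U_tObj]
  have h0 := eq_zero_of_notMem D h t ht hR' Md ha hz'
  have h1 : e.inv.left.appTop x = 0 := (tVal f L).injective (h0.trans (map_zero _).symm)
  refine hx ?_
  have h2 : x = e.hom.left.appTop (e.inv.left.appTop x) := by
    rw [← CommRingCat.comp_apply, ← Scheme.Hom.comp_appTop, ← Over.comp_left, e.hom_inv_id]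
    simp
  rw [h2, h1, map_zero]

include t ht hR' in
/-- Attracted points of the subgroup are products over its attracted roots. -/
theorem inProd_of_mem (lam : D.M →+ ℤ) {l₁ l₂ : List D.idx} (hl : IsPosClosed D lam.toIntLinearMap (l₁ ++ l₂))
    (h₂ : ∀ c, c ∈ l₂ ↔ 0 < lam (D.P.root c) ∧ c ∈ R')
    {g : tObj (Spec.map (CommRingCat.ofHom (algebraMap R L)) ≫ f) L ⟶ G}
    (hmem : g ∈ (RankOne.postHom h _).range) (hg : InProd D _ (l₁ ++ l₂) g) : InProd D _ l₂ g := by
  classical
  haveI : IsAffineHom G.hom := D.reductive.1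
  obtain ⟨A, _, _, ⟨Md⟩⟩ := exists_model f G
  obtain ⟨e⟩ := exists_self_test f L
  set F := Md.frame D
  set N := l₁ ++ l₂
  obtain ⟨y, hy⟩ := hmem
  obtain ⟨z, hz⟩ := inProd_comp D e.inv hg
  let g₀ : Pt R A L := F.prodPt N.get fun j => tVal f L (z (N.get j))
  have hg₀ : Md.pt g₀ = e.inv ≫ g := (pt_prodPt (f := f) D Md N z).trans hz.symm
  have hU : (F.cochar lam).InU g₀ := F.prodPt_inU lam _ (fun j => hl.pos _ (List.get_mem N j)) _
  have hW : g₀ ∈ (subPts h Md).mem L := ⟨e.inv ≫ y, by rw [hg₀, Category.assoc]; exact congrArg _ hy⟩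
  have hnd : l₂.Nodup := (List.nodup_append.mp hl.nodup).2.1
  have he : RedSub.Enumerates (R' ∩ {i | 0 < lam (D.P.root i)}) l₂.get := by
    refine ⟨List.nodup_iff_injective_get.mp hnd, Set.ext fun c => ?_⟩
    rw [Set.range_list_get, Set.mem_ofPred_eq, h₂]
    exact and_comm
  obtain ⟨_, _, hsplit⟩ := exists_rootSplit D h t ht hR' Md lam he
  obtain ⟨x, hx⟩ := hsplit.exists_coords (tStable_subPts D h t ht Md) hW hU
  let w : D.idx → Γ((tObj f L).left, ⊤) := Function.extend l₂.get (fun j => (tVal f L).symm (x j)) 0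
  have hw : x = fun j => tVal f L (w (l₂.get j)) := funext fun j => by
    simp only [w, (List.nodup_iff_injective_get.mp hnd).extend_apply, RingEquiv.apply_symm_apply]
  have h1 : InProd D _ l₂ (e.inv ≫ g) := ⟨w, by rw [← pt_prodPt (f := f) D Md l₂ w, ← hw, hx, hg₀]⟩
  have h2 := inProd_comp D e.hom h1
  rwa [← Category.assoc, e.hom_inv_id, Category.id_comp] at h2

include t ht hR' in
/-- An attracted point whose commutators with the torus lie in the subgroup lies in the subgroup. -/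
theorem mem_of_torus_comm (lam : D.M →+ ℤ) {l : List D.idx}
    (hl : ∀ c ∈ l, 0 < lam (D.P.root c))
    {u : tObj (Spec.map (CommRingCat.ofHom (algebraMap R L)) ≫ f) L ⟶ G} (hu : InProd D _ l u)
    (hcomm : ∀ s, (I D _ s)⁻¹ * u⁻¹ * I D _ s * u ∈ (RankOne.postHom h _).range) :
    u ∈ (RankOne.postHom h _).range := by
  classical
  set X := tObj (Spec.map (CommRingCat.ofHom (algebraMap R L)) ≫ f) L
  set HX := (RankOne.postHom h X).range
  obtain ⟨l₁, l₂, hN, h₁, h₂⟩ := exists_split_list D lam R'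
  obtain ⟨z, rfl⟩ := rootProd_congr_list D hN (fun c hc => by
    rw [List.mem_append, h₁, h₂]
    have := hl c hc
    tauto) hu
  set w := rootProd D X l₁ z
  set v := rootProd D X l₂ z
  have hwv : rootProd D X (l₁ ++ l₂) z = w * v := by
    simp only [w, v, rootProd, List.map_append, List.prod_append]
  have hv : v ∈ HX := list_prod_mem fun y hy => by
    obtain ⟨c, hc, rfl⟩ := List.mem_map.mp hy
    exact U_mem_range D h hR' ((h₂ c).mp hc).2 _
  obtain ⟨s, hs⟩ : ∃ s : X ⟶ D.T, ∀ c, (rootVal D X c s : Γ(X.left, ⊤)) ≠ 1 := exists_torus_rootVal_ne_one D (Spec.map (CommRingCat.ofHom (algebraMap R L)) ≫ f)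
  have hsI : I D X s ∈ HX := I_mem_range D h t ht s
  have hsw : (I D X s)⁻¹ * w⁻¹ * I D X s * w ∈ HX := by
    have h0 := hcomm s
    rw [hwv, mul_inv_rev] at h0
    change (I D X s)⁻¹ * (v⁻¹ * w⁻¹) * I D X s * (w * v) ∈ HX at h0
    have h3 := mul_mem (mul_mem (mul_mem (mul_mem (inv_mem hsI) hv) hsI) h0) (inv_mem hv)
    convert h3 using 1
    group
  have hwN : InProd D X (l₁ ++ l₂) w := rootProd_congr_list D hN (fun c hc => List.mem_append_left _ hc) ⟨z, rfl⟩
  have hN1 : InProd D X (l₁ ++ l₂) ((I D X s)⁻¹ * w⁻¹ * I D X s * w) := by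
    have h4 := hN.conj_torus s⁻¹ (hN.inv hwN)
    rw [map_inv, inv_inv] at h4
    exact hN.mul h4 hwN
  obtain ⟨y, hy⟩ := inProd_of_mem D h t ht hR' f L lam hN h₂ hsw hN1
  obtain ⟨y', hy'⟩ : InProd D X l₂ (I D X s * rootProd D X l₂ y * (I D X s)⁻¹) := by
    refine ⟨fun c => rootVal D X c s * y c, ?_⟩
    show MulAut.conj (I D X s) _ = _
    rw [rootProd, map_list_prod, List.map_map, rootProd]
    congr 1
    exact List.map_congr_left fun c _ => conj_U D c s (y c)
  -- the two ways to write the conjugate of the remaining part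
  let z₁ : D.idx → Γ(X.left, ⊤) := fun c => if c ∈ l₁ then rootVal D X c s * z c else 0
  let z₂ : D.idx → Γ(X.left, ⊤) := fun c => if c ∈ l₁ then z c else y' c
  have hdis : ∀ c, c ∈ l₁ → c ∉ l₂ := fun c hc hc' => ((h₁ c).mp hc).2 ((h₂ c).mp hc').2
  have e1 : rootProd D X (l₁ ++ l₂) z₁ = I D X s * w * (I D X s)⁻¹ := by
    rw [rootProd, List.map_append, List.prod_append,
      List.map_congr_left (l := l₂) (g := fun _ => (1 : X ⟶ G)) fun c hc => by
        rw [show z₁ c = 0 from if_neg fun h1 => hdis c h1 hc, (U_oneParam D c).zero],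
      List.prod_eq_one (l := l₂.map fun _ => (1 : X ⟶ G)) (by simp), mul_one]
    show _ = MulAut.conj (I D X s) w
    rw [show w = rootProd D X l₁ z from rfl, rootProd, map_list_prod, List.map_map]
    congr 1
    refine List.map_congr_left fun c hc => ?_
    rw [show z₁ c = rootVal D X c s * z c from if_pos hc]
    exact (conj_U D c s (z c)).symm
  have e2 : rootProd D X (l₁ ++ l₂) z₂ = w * (I D X s * rootProd D X l₂ y * (I D X s)⁻¹) := by
    rw [hy', rootProd, List.map_append, List.prod_append]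
    congr 1
    · show _ = rootProd D X l₁ z
      rw [rootProd]
      congr 1
      exact List.map_congr_left fun c hc => by rw [show z₂ c = z c from if_pos hc]
    · rw [rootProd]
      congr 1
      exact List.map_congr_left fun c hc => by rw [show z₂ c = y' c from if_neg fun h1 => hdis c h1 hc]
  have e3 : rootProd D X (l₁ ++ l₂) z₁ = rootProd D X (l₁ ++ l₂) z₂ := by
    rw [e1, e2, ← hy]
    have ew : w * ((I D X s) * ((I D X s)⁻¹ * w⁻¹ * I D X s * w) * (I D X s)⁻¹) = I D X s * w * (I D X s)⁻¹ := by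
      group
    exact ew.symm
  have hw1 : w = 1 := List.prod_eq_one fun q hq => by
    obtain ⟨c, hc, rfl⟩ := List.mem_map.mp hq
    have h5 := inj_global D lam.toIntLinearMap (l₁ ++ l₂) hN.nodup hN.pos X z₁ z₂ e3 c (List.mem_append_left _ hc)
    simp only [z₁, z₂, if_pos hc] at h5
    have h6 : z c = 0 := by_contra fun h0 => hs c
      ((show IsUnit (z c) by
        have h7 : IsUnit (tVal (Spec.map (CommRingCat.ofHom (algebraMap R L)) ≫ f) L (z c)) :=
          Ne.isUnit ((map_ne_zero_iff _ (RingEquiv.injective _)).mpr h0)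
        simpa using h7.map (tVal (Spec.map (CommRingCat.ofHom (algebraMap R L)) ≫ f) L).symm).mul_eq_right.mp h5)
    rw [h6, (U_oneParam D c).zero]
  rw [hwv, hw1, one_mul]
  exact hv

end Groth.Agent.RedRk29
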