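import Groth.Agent.RedRk29.ClosedOrbit
import Groth.Agent.RedRk29.TypeRPoints
import Groth.Agent.RedRk29.SmoothBorel
import Groth.Agent.RedRk29.CoverGroup

/-!
# A subgroup of type (R) without opposite roots has positive roots for some base
-/

set_option autoImplicit false
set_option linter.style.haveILetI false

universe u

open CategoryTheory CategoryTheory.Limits MonoidalCategory CartesianMonoidalCategory AlgebraicGeometry
open scoped MonObj GrpObj Polynomial

noncomputable section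

namespace Groth.Agent.RedRk29

open BigCell29 GrpSchLib GrpSchLib.AffineHopf Rank2Red38 RedSub30 RedSub30.RootPoly

theorem BNData.nl_T_image {H J : Type*} [Group H] (B : BNData H J) {l : List J} (hl : ∀ a ∈ l, B.simple a) {t : H}
    (ht : t ∈ B.T) : B.nl l * t * (B.nl l)⁻¹ ∈ B.T := by
  induction l with
  | nil => simpa [BNData.nl] using ht
  | cons a l ih =>
    have h := B.n_T a (hl a List.mem_cons_self) _ (ih fun x hx => hl x (List.mem_cons_of_mem _ hx))
    simpa [BNData.nl, mul_assoc] using h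

variable {S : Scheme.{u}} {G : Over S} [GrpObj G] (D : Red.SplitRed G)

/-- A simple word moves a system of positive roots to a system of positive roots. -/
theorem exists_base_wordPerm [Nonempty S] (b : D.P.Base) (l : List D.idx) :
    ∃ b' : D.P.Base, ∀ c ∈ RedSub.posRoots D.P b, RedSub.wordPerm D.P l c ∈ RedSub.posRoots D.P b' := by
  classical
  haveI := isReduced (D := D)
  let Δ : Finset D.idx := b.support.image (RedSub.wordPerm D.P l)
  have hΔ : RootData.Simple D.P (Δ : Set D.idx) := by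
    have h := (simple_base D b).smul (RootData.word D.P l)
    have e : (fun c : D.idx => RootData.word D.P l • c) '' (b.support : Set D.idx) = (Δ : Set D.idx) := by
      rw [Finset.coe_image]
      exact Set.image_congr fun c _ => word_smul l c
    rwa [e] at h
  refine ⟨AGFRoot.baseOfSimple Δ hΔ, fun c hc => ?_⟩
  change D.P.root c ∈ AddSubmonoid.closure (D.P.root '' (b.support : Set D.idx)) at hc
  show D.P.root _ ∈ AddSubmonoid.closure (D.P.root '' (Δ : Set D.idx))
  rw [root_wordPerm]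
  have h1 : wordMap D l (D.P.root c) ∈
      AddSubmonoid.map (wordMap D l) (AddSubmonoid.closure (D.P.root '' (b.support : Set D.idx))) :=
    AddSubmonoid.mem_map_of_mem _ hc
  rw [AddMonoidHom.map_mclosure] at h1
  refine AddSubmonoid.closure_mono ?_ h1
  rintro _ ⟨_, ⟨a, ha, rfl⟩, rfl⟩
  exact ⟨_, Finset.mem_coe.mpr (Finset.mem_image_of_mem _ (Finset.mem_coe.mp ha)), root_wordPerm D l a⟩

theorem U_ne_one {lam : Module.Dual ℤ D.M} {c : D.idx} (hc : 0 < lam (D.P.root c)) {X : Over S}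
    {x : Γ(X.left, ⊤)} (hx : x ≠ 0) : U D X c x ≠ 1 := fun he => hx <| by
  refine inj_global D lam [c] (List.nodup_singleton c) (by simpa using hc) X (fun _ => x) (fun _ => 0) ?_ c
    List.mem_cons_self
  simp only [rootProd, List.map_cons, List.map_nil, List.prod_cons, List.prod_nil, mul_one, he,
    (U_oneParam D c).zero]

section Lines

variable {L : Type u} [Field L] (g : Spec (CommRingCat.of L) ⟶ S) {O : Set (tObj g L ⟶ G)} (hO : IsLineClosed g O)

include hO in
/-- A line-closed set contains the limit of a weighted product of root elements. -/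
theorem mem_of_wordPt_line {k : ℕ} (e : Fin k → D.idx) (wt : Fin k → ℕ) (hwt : ∀ j, 0 < wt j)
    (z : Fin k → Γ((tObj g L).left, ⊤)) (N : 𝟙_ (Over S) ⟶ G)
    (h : ∀ y : L, y ≠ 0 → (wordPt D (tObj g L) e fun j => (tVal g L).symm (y ^ wt j) * z j) * (toUnit _ ≫ N) ∈ O) :
    (toUnit _ ≫ N : tObj g L ⟶ G) ∈ O := by
  let ln : tObj g L[X] ⟶ G := wordPt D (tObj g L[X]) e
      (fun j => (tVal g L[X]).symm (Polynomial.C (tVal g L (z j)) * Polynomial.X ^ wt j)) * (toUnit _ ≫ N)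
  have hev : ∀ y : L, tMap g (Polynomial.aeval (R := L) y) ≫ ln =
      (wordPt D (tObj g L) e fun j => (tVal g L).symm (y ^ wt j) * z j) * (toUnit _ ≫ N) := fun y => by
    rw [MonObj.comp_mul, comp_wordPt, ← Category.assoc,
      toUnit_unique (tMap g (Polynomial.aeval (R := L) y) ≫ toUnit _) (toUnit _)]
    congr 2
    funext j
    refine (tVal g L).injective ?_
    rw [tVal_map, RingEquiv.apply_symm_apply, map_mul (tVal g L), RingEquiv.apply_symm_apply, map_mul, map_pow,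
      Polynomial.aeval_C, Polynomial.aeval_X, mul_comm]
    rfl
  have h0 := hO ln fun y hy => (hev y).symm ▸ h y hy
  rw [hev] at h0
  have e0 : (wordPt D (tObj g L) e fun j => (tVal g L).symm ((0 : L) ^ wt j) * z j) = 1 := by
    rw [show (fun j => (tVal g L).symm ((0 : L) ^ wt j) * z j) = fun _ => 0 from funext fun j => by
      rw [zero_pow (hwt j).ne', map_zero, zero_mul]]
    exact (isWeighted_wordPt D e).zero _
  rwa [e0, one_mul] at h0

include hO in
/-- A line-closed set contains the limit of a root line between two fixed points. -/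
theorem mem_of_root_line (N M : 𝟙_ (Over S) ⟶ G) (d : D.idx)
    (h : ∀ y : L, y ≠ 0 →
      (toUnit _ ≫ N : tObj g L ⟶ G) * U D (tObj g L) d ((tVal g L).symm y) * (toUnit _ ≫ M) ∈ O) :
    (toUnit _ ≫ N : tObj g L ⟶ G) * (toUnit _ ≫ M) ∈ O := by
  let ln : tObj g L[X] ⟶ G :=
    (toUnit _ ≫ N) * U D (tObj g L[X]) d ((tVal g L[X]).symm Polynomial.X) * (toUnit _ ≫ M)
  have hev : ∀ y : L, tMap g (Polynomial.aeval (R := L) y) ≫ ln =
      (toUnit _ ≫ N : tObj g L ⟶ G) * U D (tObj g L) d ((tVal g L).symm y) * (toUnit _ ≫ M) := fun y => by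
    have et : tMap g (Polynomial.aeval (R := L) y) ≫ toUnit _ = toUnit _ := toUnit_unique _ _
    rw [MonObj.comp_mul, MonObj.comp_mul, ← Category.assoc, et, ← Category.assoc, et, comp_U]
    congr 3
    refine (tVal g L).injective ?_
    rw [tVal_map, RingEquiv.apply_symm_apply, RingEquiv.apply_symm_apply, Polynomial.aeval_X]
  have h0 := hO ln fun y hy => (hev y).symm ▸ h y hy
  rw [hev, map_zero, (U_oneParam D d).zero, mul_one] at h0
  exact h0

/-- The weighted product is a torus conjugate. -/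
theorem conj_cchar_wordPt (lam : D.M →+ ℤ) {k : ℕ} (e : Fin k → D.idx) (hpos : ∀ j, 0 < lam (D.P.root (e j)))
    (z : Fin k → Γ((tObj g L).left, ⊤)) {y : L} (hy : y ≠ 0) :
    ∃ w, I D (tObj g L) w * wordPt D (tObj g L) e z * (I D (tObj g L) w)⁻¹ =
      wordPt D (tObj g L) e fun j => (tVal g L).symm (y ^ (lam (D.P.root (e j))).toNat) * z j := by
  refine ⟨chPt g (cchar (k := L) lam (Units.mk0 y hy)) ≫ D.split.inv.hom.hom, ?_⟩
  rw [(isWeighted_wordPt D e).equiv]
  refine congrArg _ (funext fun j => ?_)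
  rw [rootVal_chPt]
  congr 2
  show ((Units.mk0 y hy ^ lam (D.P.root (e j)) : Lˣ) : L) = _
  rw [Units.val_zpow_eq_zpow_val, Units.val_mk0, ← zpow_natCast, Int.toNat_of_nonneg (hpos j).le]

end Lines

variable {H : Over S} [GrpObj H] (h : H ⟶ G) [IsMonHom h] [IsImmersion h.left] [QuasiCompact h.left] [Smooth H.hom]
  [QuasiCompact H.hom] (t : D.T ⟶ H) (ht : t ≫ h = D.i)
  {R' : Set D.idx} (hR' : ∀ a : D.idx, (∃ v : Red.Ga S ⟶ H, v ≫ h = D.u a) ↔ a ∈ R') [ConnectedSpace S]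

include t ht hR' in
theorem exists_base_of_asymm_field (hasym : ∀ a ∈ R', D.P.reflectionPerm a a ∉ R')
    {R : Type u} [CommRing R] (f : Spec (CommRingCat.of R) ⟶ S) [IsOpenImmersion f]
    (L : Type u) [Field L] [IsAlgClosed L] [Algebra R L] :
    ∃ b : D.P.Base, R' ⊆ RedSub.posRoots D.P b := by
  classical
  obtain ⟨b⟩ := exists_base' D
  obtain ⟨nr, hnr⟩ := exists_realisesReflections D
  obtain ⟨n, eneg, hneg⟩ := exists_enumerates D (RedSub.negRoots D.P b)
  obtain ⟨mp, epos, hpos⟩ := exists_enumerates D (RedSub.posRoots D.P b)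
  obtain ⟨lam, hlam, hl⟩ := exists_posClosed hpos
  have hlpos : ∀ k, 0 < lam (D.P.root (epos k)) := fun k => (hlam.1 _).mp (hpos.2.subset ⟨k, rfl⟩)
  let f' : Spec (CommRingCat.of L) ⟶ S := Spec.map (CommRingCat.ofHom (algebraMap R L)) ≫ f
  let X := tObj f' L
  obtain ⟨hfield, hZ, hgen⟩ := field_pts hnr hneg hpos f'
  let B := bnData D hnr X b hfield hZ
  set HX := (RankOne.postHom h X).range
  set Bo := borelSub X hpos
  have hTH : B.T ≤ HX := by rintro _ ⟨w, rfl⟩; exact I_mem_range D h t ht w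
  have hTB : B.T ≤ Bo := torus_le_borelSub hpos
  have hBle : B.B ≤ Bo := by
    rintro _ ⟨u, hu, w, hw, rfl⟩
    exact mul_mem ((iSup₂_le fun c hc => rootSub_le_borelSub hpos hc :
      (⨆ (c : D.idx) (_ : c ∈ RedSub.posRoots D.P b), rootSub D X c) ≤ Bo) hu) (hTB hw)
  -- a closed double coset
  haveI : Smooth G.hom := D.reductive.2.1
  haveI : IsAffineHom G.hom := D.reductive.1
  haveI : Smooth (D.T ⊗ RedSub.pow (Red.Ga S) mp).hom := smooth_borelObj D mp
  haveI : IsAffineHom (RedSub.pow (Red.Ga S) mp).hom := isAffineHom_pow mp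
  haveI : IsAffineHom D.T.hom := by
    haveI := isAffineHom_DS (S := S) D.M
    haveI : IsIso D.split.hom.hom.hom := ((Grp.forget _).mapIso D.split).isIso_hom
    haveI : IsIso D.split.hom.hom.hom.left := inferInstanceAs (IsIso ((Over.forget _).map D.split.hom.hom.hom))
    rw [← Over.w D.split.hom.hom.hom]; infer_instance
  haveI : QuasiCompact (D.T ⊗ RedSub.pow (Red.Ga S) mp).hom := by rw [Over.tensorObj_hom]; infer_instance
  obtain ⟨str, hstr⟩ := exists_grpObj_borel hpos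
  letI := str
  haveI : IsMonHom (RedSub.borelMap D epos) := hstr
  obtain ⟨g, hg⟩ := exists_lineClosed_coset f' h (RedSub.borelMap D epos)
  set O := {x : X ⟶ G | ∃ (p : X ⟶ H) (q : X ⟶ D.T ⊗ RedSub.pow (Red.Ga S) mp),
    x = (p ≫ h) * g * (q ≫ RedSub.borelMap D epos)⁻¹}
  have hO : ∀ x, x ∈ O ↔ ∃ a ∈ HX, ∃ c ∈ Bo, x = a * g * c := fun x => by
    constructor
    · rintro ⟨a, c, rfl⟩
      exact ⟨_, ⟨a, rfl⟩, _, inv_mem ((mem_borelSub_iff hpos).mpr ⟨c, rfl⟩), rfl⟩
    · rintro ⟨_, ⟨a, rfl⟩, c, hc, rfl⟩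
      obtain ⟨c', hc'⟩ := (mem_borelSub_iff hpos).mp (inv_mem hc)
      exact ⟨a, c', by rw [hc', inv_inv]; rfl⟩
  -- it contains a word
  obtain ⟨l, hl', _, ⟨u₀, hu₀, w₀, hw₀, rfl⟩, b₂, hb₂, hgeq⟩ := B.mem_cover (g := g) (hgen g)
  set nl := B.nl l
  set N : 𝟙_ (Over S) ⟶ G := (l.map nr).prod
  have hnlN : nl = toUnit X ≫ N := nl_eq X l
  have hu₁ : w₀⁻¹ * u₀ * w₀⁻¹⁻¹ ∈ B.Upos := B.T_Upos (inv_mem hw₀) hu₀
  obtain ⟨z, hz⟩ : InProd D X (List.ofFn epos) (w₀⁻¹ * u₀ * w₀⁻¹⁻¹) :=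
    (iSup₂_le fun c hc => by rintro _ ⟨x, rfl⟩; exact hl.U_mem ((mem_ofFn_pos hpos c).mpr hc) x :
      B.Upos ≤ prodSub D X hl) hu₁
  have hz' : w₀⁻¹ * u₀ * w₀⁻¹⁻¹ = wordPt D X epos fun k => z (epos k) := by
    rw [hz, rootProd, wordPt, List.map_ofFn]; rfl
  have hmem : (wordPt D X epos fun k => z (epos k)) * nl ∈ O := by
    refine (hO _).mpr ⟨w₀⁻¹, inv_mem (hTH hw₀), b₂⁻¹, inv_mem (hBle hb₂), ?_⟩
    rw [← hz', hgeq]
    group
  have hline : nl ∈ O := by
    rw [hnlN]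
    refine mem_of_wordPt_line D f' hg epos (fun k => (lam (D.P.root (epos k))).toNat)
      (fun k => by have := hlpos k; omega) (fun k => z (epos k)) N fun y hy => ?_
    obtain ⟨w, e1⟩ := conj_cchar_wordPt D f' lam epos hlpos (fun k => z (epos k)) hy
    obtain ⟨a, ha, c, hc, hac⟩ := (hO _).mp hmem
    refine (hO _).mpr ⟨I D X w * a, mul_mem (I_mem_range D h t ht w) ha,
      c * (nl⁻¹ * (I D X w)⁻¹ * nl), mul_mem hc (hTB (B.nl_T hl' (inv_mem ⟨w, rfl⟩))), ?_⟩
    rw [← e1, ← hnlN]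
    calc I D X w * (wordPt D X epos fun k => z (epos k)) * (I D X w)⁻¹ * nl
        = I D X w * ((wordPt D X epos fun k => z (epos k)) * nl) * (nl⁻¹ * (I D X w)⁻¹ * nl) := by group
      _ = _ := by rw [hac]; group
  obtain ⟨a₀, ha₀, c₀, hc₀, hnl⟩ := (hO _).mp hline
  obtain ⟨b', hb'⟩ := exists_base_wordPerm D b l
  refine ⟨b', fun a ha => ?_⟩
  set c := (B.perm l).symm a
  have hca : B.perm l c = a := Equiv.apply_symm_apply _ _
  by_cases hc : B.pos c
  · rw [← hca]
    exact hb' c hc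
  exfalso
  set d := B.neg c
  have hd : B.pos d := (B.neg_iff c).mpr hc
  obtain ⟨p, a1, hp, ha1, hpd⟩ := B.reach d
  change B.perm p a1 = d at hpd
  set Np := B.nl p
  set m := Np * B.n a1 * Np⁻¹
  set M : 𝟙_ (Over S) ⟶ G := (p.map nr).prod * nr a1 * ((p.map nr).prod)⁻¹
  have hmM : m = toUnit X ≫ M := by
    rw [MonObj.comp_mul, MonObj.comp_mul, GrpObj.comp_inv, ← nl_eq X p]
    rfl
  have hnm : nl * m ∈ O := by
    rw [hnlN, hmM]
    refine mem_of_root_line D f' hg N M d fun y hy => ?_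
    rw [← hnlN, ← hmM]
    set x := U D X d ((tVal f' L).symm y)
    have hx : x ∈ B.U d := ⟨_, rfl⟩
    have hx1 : x ≠ 1 := U_ne_one D (lam := lam.toIntLinearMap) ((hlam.1 d).mp hd)
      ((map_ne_zero_iff _ (RingEquiv.injective _)).mpr hy)
    have hx' : Np⁻¹ * x * Np ∈ B.U a1 := by
      have h1 := B.nl_U hp hx
      rwa [show (B.perm p).symm d = a1 from (Equiv.symm_apply_eq _).mpr hpd.symm] at h1
    have hx'1 : Np⁻¹ * x * Np ≠ 1 := fun e => hx1 (by
      have e2 := congrArg (fun g => Np * g * Np⁻¹) e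
      simpa [mul_assoc] using e2)
    obtain ⟨s', hs', t', ht', x₂, hx₂, e⟩ := B.mul_n_mem ha1 hx' hx'1
    have hs2 := B.nl_U_image hp hs'
    rw [B.perm_neg, hpd, show B.neg d = c from neg_neg_idx D c] at hs2
    have hx2 := B.nl_U_image hp hx₂
    rw [hpd] at hx2
    have hA := B.nl_U_image hl' hs2
    rw [hca] at hA
    obtain ⟨xa, hxa⟩ := hA
    refine (hO _).mpr ⟨nl * (Np * s' * Np⁻¹) * nl⁻¹ * (nl * (Np * t' * Np⁻¹) * nl⁻¹) * a₀,
      mul_mem (mul_mem (hxa ▸ U_mem_range D h hR' ha xa) (hTH (B.nl_T_image hl' (B.nl_T_image hp ht')))) ha₀,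
      c₀ * (Np * x₂ * Np⁻¹), mul_mem hc₀ (rootSub_le_borelSub hpos hd hx2), ?_⟩
    calc nl * x * m = nl * Np * ((Np⁻¹ * x * Np) * B.n a1) * Np⁻¹ := by simp only [m]; group
      _ = (nl * (Np * s' * Np⁻¹) * nl⁻¹ * (nl * (Np * t' * Np⁻¹) * nl⁻¹)) * nl * (Np * x₂ * Np⁻¹) := by
          rw [e]; group
      _ = _ := by rw [hnl]; group
  obtain ⟨a₂, ha₂, c₂, hc₂, hnm'⟩ := (hO _).mp hnm
  obtain ⟨τ, v, hv, hq⟩ : (c₀⁻¹ * c₂)⁻¹ ∈ Bo := inv_mem (mul_mem (inv_mem hc₀) hc₂)
  let Hh : Subgroup (X ⟶ G) := HX.comap (MulAut.conj nl).toMonoidHom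
  have hHh : ∀ x, x ∈ Hh ↔ nl * x * nl⁻¹ ∈ HX := fun x => Iff.rfl
  have hTh : B.T ≤ Hh := fun x hx => hTH (B.nl_T_image hl' hx)
  have hUc : B.U c ≤ Hh := fun x hx => by
    have h1 := B.nl_U_image hl' hx
    rw [hca] at h1
    obtain ⟨xa, hxa⟩ := h1
    exact (hHh x).mpr (hxa ▸ U_mem_range D h hR' ha xa)
  have hk : m * I D X τ * v ∈ Hh := by
    rw [hHh]
    have e : nl * (m * I D X τ * v) * nl⁻¹ = a₂ * a₀⁻¹ := by
      have h1 : I D X τ * v = c₂⁻¹ * c₀ := by rw [← hq]; group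
      calc nl * (m * I D X τ * v) * nl⁻¹ = (nl * m) * (I D X τ * v) * nl⁻¹ := by group
        _ = _ := by rw [hnm', h1, hnl]; group
    rw [e]
    exact mul_mem ha₂ (inv_mem ha₀)
  -- the unipotent part lies in the conjugate
  have hvh : v ∈ Hh := by
    rw [hHh]
    obtain ⟨zv, rfl⟩ := hv
    have hch : ∀ e : D.idx, ∃ y, U D X (B.perm l e) y = nl * U D X e (zv e) * nl⁻¹ := fun e =>
      B.nl_U_image hl' ⟨zv e, rfl⟩
    choose y hy using hch
    have hin : InProd D X ((List.ofFn epos).map (B.perm l)) (nl * rootProd D X (List.ofFn epos) zv * nl⁻¹) := by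
      refine ⟨fun e => y ((B.perm l).symm e), ?_⟩
      show MulAut.conj nl _ = _
      rw [rootProd, rootProd, map_list_prod, List.map_map, List.map_map]
      congr 1
      refine List.map_congr_left fun e _ => ?_
      show nl * U D X e (zv e) * nl⁻¹ = U D X (B.perm l e) (y ((B.perm l).symm (B.perm l e)))
      rw [Equiv.symm_apply_apply, hy]
    refine mem_of_torus_comm D h t ht hR' f L (lam.comp (wordMap D l.reverse)) (fun e he => ?_) hin fun w => ?_
    · obtain ⟨e', he', rfl⟩ := List.mem_map.mp he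
      obtain ⟨k, rfl⟩ := List.mem_ofFn.mp he'
      show 0 < lam (wordMap D l.reverse (D.P.root (RedSub.wordPerm D.P l (epos k))))
      rw [root_wordPerm, wordMap_reverse]
      exact hlpos k
    · obtain ⟨w₁, hw₁⟩ : ∃ w₁, I D X w₁ = nl⁻¹ * I D X w * nl := B.nl_T hl' (show I D X w ∈ B.T from ⟨w, rfl⟩)
      obtain ⟨w₂, hw₂⟩ : m * I D X w₁ * m⁻¹ ∈ B.T := by
        have h1 := B.nl_T_image hp (B.n_T a1 ha1 _ (B.nl_T hp (show I D X w₁ ∈ B.T from ⟨w₁, rfl⟩)))
        convert h1 using 1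
        simp only [m, Np]
        group
      set r := rootProd D X (List.ofFn epos) zv
      set k := m * I D X τ * r
      have h2 : (I D X w₁)⁻¹ * (k⁻¹ * I D X w₂ * k) ∈ Hh :=
        mul_mem (inv_mem (hTh ⟨w₁, rfl⟩)) (mul_mem (mul_mem (inv_mem hk) (hTh ⟨w₂, rfl⟩)) hk)
      have e : (I D X w₁)⁻¹ * (k⁻¹ * I D X w₂ * k) = (I D X w₁)⁻¹ * r⁻¹ * I D X w₁ * r := by
        rw [hw₂]
        have hcm : (I D X τ)⁻¹ * I D X w₁ * I D X τ = I D X w₁ := by
          rw [mul_assoc, I_comm, inv_mul_cancel_left]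
        calc (I D X w₁)⁻¹ * (k⁻¹ * (m * I D X w₁ * m⁻¹) * k)
            = (I D X w₁)⁻¹ * (r⁻¹ * ((I D X τ)⁻¹ * I D X w₁ * I D X τ) * r) := by simp only [k]; group
          _ = _ := by rw [hcm]; group
      rw [e, hHh, hw₁] at h2
      show (I D X w)⁻¹ * (nl * r * nl⁻¹)⁻¹ * I D X w * (nl * r * nl⁻¹) ∈ HX
      convert h2 using 1
      group
  have hm : m ∈ Hh := by
    have h1 := mul_mem (mul_mem hk (inv_mem hvh)) (inv_mem (hTh ⟨τ, rfl⟩))
    convert h1 using 1
    group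
  -- so the opposite root group lies in the subgroup
  set x := U D X d 1
  have hx : x ∈ B.U d := ⟨1, rfl⟩
  haveI : Nontrivial Γ(X.left, ⊤) := (tVal f' L).symm.injective.nontrivial
  have hx1 : x ≠ 1 := U_ne_one D (lam := lam.toIntLinearMap) ((hlam.1 d).mp hd) one_ne_zero
  have hxh : x ∈ Hh := by
    have h1 := B.nl_U hp hx
    rw [show (B.perm p).symm d = a1 from (Equiv.symm_apply_eq _).mpr hpd.symm] at h1
    have h2 := B.nl_U_image hp (B.mem_U_neg ha1 h1).2
    rw [B.perm_neg, hpd, show B.neg d = c from neg_neg_idx D c] at h2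
    have h3 := mul_mem (mul_mem hm (hUc h2)) (inv_mem hm)
    convert h3 using 1
    simp only [m, Np]
    group
  obtain ⟨y, hy⟩ := B.nl_U_image hl' hx
  have hpl : B.perm l d = D.P.reflectionPerm a a := by
    show B.perm l (B.neg c) = B.neg a
    rw [B.perm_neg, hca]
  rw [hpl] at hy
  have hy0 : y ≠ 0 := fun e => hx1 (by
    rw [e, (U_oneParam D _).zero] at hy
    have h2 := congrArg (fun g => nl⁻¹ * g * nl) hy
    simpa [show B.nl l = nl from rfl, mul_assoc] using h2.symm)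
  refine hasym a ha (mem_of_U_mem D h t ht hR' f L hy0 ?_)
  rw [hy]
  exact hxh

include t ht hR' in
/-- A subgroup of type (R) without opposite roots has positive roots for some base. -/
theorem exists_base_of_asymm (hasym : ∀ a ∈ R', D.P.reflectionPerm a a ∉ R') :
    ∃ b : D.P.Base, R' ⊆ RedSub.posRoots D.P b := by
  obtain ⟨s⟩ : Nonempty S := inferInstance
  obtain ⟨V, hV, hsV, -⟩ := exists_isAffineOpen_mem_and_subset (show s ∈ (⊤ : S.Opens) from trivial)
  haveI : IsOpenImmersion hV.fromSpec := inferInstance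
  exact exists_base_of_asymm_field D h t ht hR' hasym (R := Γ(S, V)) hV.fromSpec
    (AlgebraicClosure (hV.primeIdealOf ⟨s, hsV⟩).asIdeal.ResidueField)

end Groth.Agent.RedRk29
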