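import Groth.Agent.RedRk29.TypeRPosSystem
import Groth.Agent.RedRk29.BorelFibre
import Groth.Agent.RedSub30.TypeRBorel

/-!
# Solvable subgroups of type (R) of a split group
-/

set_option autoImplicit false
set_option linter.style.haveILetI false

universe u

open CategoryTheory CategoryTheory.Limits MonoidalCategory CartesianMonoidalCategory AlgebraicGeometry
open scoped MonObj GrpObj

noncomputable section

namespace Groth.Agent.RedRk29

open BigCell29 GrpSchLib Rank2Red38 RedSub30 RedSub30.RootPoly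

variable {S : Scheme.{u}} {G H : Over S} [GrpObj G] [GrpObj H] (D : Red.SplitRed G) (h : H ⟶ G) [IsMonHom h]
  [IsImmersion h.left] [QuasiCompact h.left] [Smooth H.hom] [QuasiCompact H.hom] (t : D.T ⟶ H) (ht : t ≫ h = D.i)
  {R' : Set D.idx} (hR' : ∀ a : D.idx, (∃ v : Red.Ga S ⟶ H, v ≫ h = D.u a) ↔ a ∈ R')

omit [IsImmersion h.left] [QuasiCompact h.left] [Smooth H.hom] [QuasiCompact H.hom] in
include hR' in
/-- Solvable geometric fibres allow no two opposite roots. -/
theorem asymm_of_solvable [Nonempty S] (hsolv : ∀ s : S, Red.IsSolvableGrp (Red.geomFibre s H)) :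
    ∀ a ∈ R', D.P.reflectionPerm a a ∉ R' := by
  intro a ha hna
  obtain ⟨s⟩ : Nonempty S := inferInstance
  let K := AlgebraicClosure (S.residueField s)
  let X := tObj (Red.geomPt s) K
  let ψ : (X ⟶ H) →* (X ⟶ G) := RankOne.postHom h X
  have hle : ∀ c ∈ R', rootSub D X c ≤ ψ.range := by
    rintro c hc _ ⟨x, rfl⟩
    exact U_mem_range D h hR' hc x
  obtain ⟨n, hn⟩ := hsolv s
  haveI : Nontrivial Γ(X.left, ⊤) := (tVal (Red.geomPt s) K).symm.injective.nontrivial
  refine derivedSeries_ne_bot_of_opposite ?_ ψ.range (hle a ha) (hle _ hna) n ?_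
  · obtain ⟨v, hv⟩ := exists_unit_pow_ne_one (k := K) (S := {2}) (Set.finite_singleton (2 : ℤ))
    refine ⟨Units.map (tVal (Red.geomPt s) K).symm.toRingHom.toMonoidHom v, ?_⟩
    have h2 : IsUnit ((v : K) ^ 2 - 1) := Ne.isUnit (sub_ne_zero.mpr fun h => hv 2 rfl two_ne_zero (by
      rw [zpow_ofNat]; exact_mod_cast h))
    simpa using h2.map (tVal (Red.geomPt s) K).symm
  · refine le_bot_iff.mp ((map_derivedSeries_eq (f := ψ.rangeRestrict) ψ.rangeRestrict_surjective n).ge.trans ?_)
    have e : derivedSeries (X ⟶ H) n = ⊥ := by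
      refine le_bot_iff.mp ?_
      have h1 := (map_derivedSeries_eq (f := fieldPts (Red.geomPt s) H) (fieldPts_bijective _ H).surjective n).ge
      rw [hn (𝟙_ _), Subgroup.map_bot] at h1
      exact h1
    rw [e, Subgroup.map_bot]

variable [ConnectedSpace S]

omit [QuasiCompact H.hom] in
include t ht hR' in
/-- A subgroup of type (R) with positive roots has solvable geometric fibres. -/
theorem solvable_of_subset_pos (hconn : RedSub.HasConnectedFibres H) {b : D.P.Base}
    (hb : R' ⊆ RedSub.posRoots D.P b) (s : S) : Red.IsSolvableGrp (Red.geomFibre s H) := by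
  classical
  obtain ⟨mp, epos, hpos⟩ := exists_enumerates D (RedSub.posRoots D.P b)
  obtain ⟨k, e, he⟩ := exists_enumerates D R'
  obtain ⟨lam, hp, -, hne⟩ := BigCell29.exists_isRegular D.P b
  have hpos' : ∀ a ∈ R', 0 < lam (D.P.root a) := fun a ha => (hp a).mp (hb ha)
  obtain ⟨v, hv⟩ := exists_unip D h t ht hR' lam he hpos'
  haveI := isIso_borel D h t ht hR' lam he hpos' v hv hconn hne
  let f := Red.geomPt s
  let K := AlgebraicClosure (S.residueField s)
  let X := tObj f K
  haveI : Nonempty S := ⟨s⟩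
  haveI : Smooth (Red.geomFibre s H).hom := MorphismProperty.pullback_snd _ _ ‹Smooth H.hom›
  have hmem : ∀ q : X ⟶ H, q ≫ h ∈ borelSub X hpos := fun q => by
    rw [show q = (q ≫ inv ((t ⊗ₘ v) ≫ μ[H])) ≫ (t ⊗ₘ v) ≫ μ[H] by simp, Category.assoc, mul_comp_eq D h t ht v hv,
      comp_borelMap, comp_prodMap D]
    refine mul_mem (torus_le_borelSub hpos ⟨_, rfl⟩) (list_prod_mem fun y hy => ?_)
    obtain ⟨j, rfl⟩ := List.mem_ofFn.mp hy
    exact rootSub_le_borelSub hpos (hb (he.2 ▸ ⟨j, rfl⟩)) ⟨_, rfl⟩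
  let φ : (𝟙_ (Over (Spec (CommRingCat.of K))) ⟶ Red.bc f H) →* borelSub X hpos :=
    MonoidHom.mk' (fun p => ⟨fieldPts f H p ≫ h, hmem _⟩) fun a c => Subtype.ext (by
      show fieldPts f H (a * c) ≫ h = _
      rw [map_mul, MonObj.mul_comp]
      rfl)
  haveI : Mono h := (Over.forget S).mono_of_mono_map (f := h) (inferInstanceAs (Mono h.left))
  haveI : Group.IsSolvable (borelSub X hpos) := (Group.isSolvable_def _).mpr (isSolvable_borelSub hpos)
  haveI : Group.IsSolvable (𝟙_ (Over (Spec (CommRingCat.of K))) ⟶ Red.geomFibre s H) :=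
    Group.isSolvable_of_isSolvable_injective (f := φ) fun a c e =>
      (fieldPts_bijective f H).injective ((cancel_mono h).mp (congrArg Subtype.val e))
  exact AGFRoot.isSolvableGrp_of_points

end Groth.Agent.RedRk29
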